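import Mathlib
import Cfsg.Agent.Lib.F42.Pat

/-!
# Standard subgroups of type `²F₄(q)`: definitions
-/

set_option autoImplicit false
set_option Elab.async false

namespace CfsgLib.RF4

open Subgroup CfsgLib.F42
open scoped commutatorElement

variable {K : Type*} [Field K] {G : Type*} [Group G] {σ : K →+* K} {sz : Sz K}

omit [Field K] in
theorem ev_map {G' : Type*} [Group G'] (φ : G →* G') (g : Fin 12 → K → G) (L : List (Fin 12 × K)) :
    ev (fun j t => φ (g j t)) L = φ (ev g L) := by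
  simp [ev, map_list_prod, Function.comp_def]

omit [Field K] in
theorem nfg_map {G' : Type*} [Group G'] (φ : G →* G') (g : Fin 12 → K → G) (p : Fin 12 → K) :
    nfg (fun j t => φ (g j t)) p = φ (nfg g p) := by
  simp only [nfg, map_mul]

/-- transport of the coordinates along an injective homomorphism -/
def push (O : OP σ sz G) {G' : Type*} [Group G'] (φ : G →* G') (hφ : Function.Injective φ) : OP σ sz G' where
  g j t := φ (O.g j t)
  n8 := φ O.n8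
  h8 := φ.comp O.h8
  ss := O.ss
  add j t u := by rw [ev_map, ← map_mul, ← map_mul, O.add]
  rel j k h t u := by rw [ev_map, ← map_mul, ← map_mul, ← map_mul, O.rel j k h]
  inj p p' e := O.inj (hφ (by rw [← nfg_map, ← nfg_map]; exact e))
  n8_sq := by rw [← map_mul, O.n8_sq, map_one]
  n8_g j h t := by rw [← map_inv, ← map_mul, ← map_mul, O.n8_g j h]
  h8_g l j t := by rw [MonoidHom.comp_apply, ← map_inv, ← map_mul, ← map_mul, O.h8_g]
  n8_h8 l := by rw [MonoidHom.comp_apply, ← map_inv, ← map_mul, ← map_mul, O.n8_h8, map_inv]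
  suz s u h := by
    rw [nfg_map, nfg_map, MonoidHom.comp_apply]
    simp only [← map_mul]
    rw [O.suz s u h]
  h := φ.comp O.h
  h_g α β j t := by rw [MonoidHom.comp_apply, ← map_inv, ← map_mul, ← map_mul, O.h_g]
  h_h8 l := by rw [MonoidHom.comp_apply, MonoidHom.comp_apply, O.h_h8]
  n8_h α β := by rw [MonoidHom.comp_apply, MonoidHom.comp_apply, ← map_inv, ← map_mul, ← map_mul, O.n8_h]
  n1 := φ O.n1
  n1_sq := by rw [← map_mul, O.n1_sq, map_one]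
  n1_g j h t := by rw [← map_inv, ← map_mul, ← map_mul, O.n1_g j h]
  tri := by rw [← map_mul, ← map_pow, O.tri, map_one]
  n1_h α β := by rw [MonoidHom.comp_apply, MonoidHom.comp_apply, ← map_inv, ← map_mul, ← map_mul, O.n1_h]

/-- the conjugate coordinates -/
abbrev cj (O : OP σ sz G) (x : G) : OP σ sz G := push O (MulAut.conj x).toMonoidHom (MulAut.conj x).injective

/-- `x` is a 2-element -/
def T2 (x : G) : Prop := ∃ k, x ^ 2 ^ k = 1

/-- every involution of `X` is a commutator of two 2-elements of its centraliser in `X` -/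
def CB (X : Subgroup G) : Prop :=
  ∀ x ∈ X, x * x = 1 → ∃ a ∈ X, ∃ b ∈ X, T2 a ∧ T2 b ∧ Commute a x ∧ Commute b x ∧ x = ⁅a, b⁆

/-- perfect central extensions of `L` inside `G` are trivial -/
def Mult (L : Subgroup G) : Prop :=
  ∀ (Γ : Subgroup G) (ψ : Γ →* G), ψ.range = L → ψ.ker ≤ center Γ → Γ ≤ ⁅Γ, Γ⁆ → Function.Injective ψ

/-- the abelian root groups -/
def JH : List (Fin 12) := [0, 2, 3, 5, 6, 8, 9, 11]

/-- `Q` without `y4` -/
abbrev Y4 : List (Fin 12) := [0, 1, 2, 3, 5, 6, 7, 8, 9]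

abbrev X7 : List (Fin 12) := [2, 3, 4, 5, 6, 7, 8, 9]

abbrev X6 : List (Fin 12) := [2, 3, 5, 6, 7, 8, 9]

abbrev E3 : List (Fin 12) := [3, 5, 6, 8, 9]

abbrev all12 : List (Fin 12) := [0, 1, 2, 3, 4, 5, 6, 7, 8, 9, 10, 11]

/-- `L = O.G0` is a standard subgroup, `t` an involution of `C(L)` -/
structure Sit0 (O : OP σ sz G) (t : G) : Prop where
  big : Big K
  braid : O.Braid
  simple : IsSimpleGroup O.G0
  t2 : t * t = 1
  t1 : t ≠ 1
  tC : ∀ x ∈ O.G0, Commute t x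
  CN : ∀ g, Commute g t → g ∈ normalizer (O.G0 : Set G)
  split : ∀ g ∈ normalizer (O.G0 : Set G), T2 g → ∃ l ∈ O.G0, ∃ k ∈ centralizer (O.G0 : Set G), g = l * k
  cyc : ∀ P ≤ centralizer (O.G0 : Set G), IsPGroup 2 P → IsCyclic P

/-- the situation after the fusion argument -/
structure Sit (O : OP σ sz G) (t : G) : Prop extends Sit0 O t where
  two : ∀ x, Commute x t → T2 x → x ∈ O.G0 ∨ t * x ∈ O.G0
  fus : ∃ g ∈ normalizer (O.C : Set G), Commute g O.τ ∧ g * t * g⁻¹ = t * O.τ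

/-- the elements of odd order of `C(L) ∩ C(t)` -/
structure Od (O : OP σ sz G) (t o : G) : Prop where
  cen : ∀ x ∈ O.G0, Commute o x
  ct : Commute o t
  odd : Odd (orderOf o)

/-- `g` centralises the elements of odd order of `C(L) ∩ C(t)` -/
def CO (O : OP σ sz G) (t g : G) : Prop := ∀ o, Od O t o → Commute g o

theorem CO.mul {O : OP σ sz G} {t a b : G} (ha : CO O t a) (hb : CO O t b) : CO O t (a * b) :=
  fun o h => (ha o h).mul_left (hb o h)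

theorem CO.inv {O : OP σ sz G} {t a : G} (ha : CO O t a) : CO O t a⁻¹ := fun o h => (ha o h).inv_left

theorem CO.pow {O : OP σ sz G} {t a : G} (ha : CO O t a) (n : ℕ) : CO O t (a ^ n) := fun o h => (ha o h).pow_left n

theorem CO.of_mem {O : OP σ sz G} {t a : G} (ha : a ∈ O.G0) : CO O t a := fun _ h => (h.cen a ha).symm

theorem CO.self (O : OP σ sz G) (t : G) : CO O t t := fun _ h => h.ct.symm

theorem CO.conj {O : OP σ sz G} {t a b : G} (ha : CO O t a) (hb : CO O t b) : CO O t (a * b * a⁻¹) :=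
  (ha.mul hb).mul ha.inv

/-- the elements centralising `t` and the pattern `S` -/
def Cen (O : OP σ sz G) (t : G) (S S' : List (Fin 12)) : Prop :=
  ∀ g, Commute g t → (∀ x ∈ O.pat S, Commute g x) → ∃ l ∈ O.pat S', ∃ o, Od O t o ∧ (g = l * o ∨ g = t * l * o)

/-- the hats of `Z` as a subgroup -/
structure ZS (O : OP σ sz G) (t : G) (Zh : Subgroup G) (c : K) : Prop extends Sit O t where
  zle : O.Z ≤ Zh
  nC : Zh ≤ normalizer (O.C : Set G)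
  cY : ∀ b ∈ Zh, ∀ y ∈ O.pat Y4, Commute b y
  c8 : ∀ b ∈ Zh, ∀ l, Commute b (O.h8 l)
  co : ∀ b ∈ Zh, CO O t b
  mv : ∀ b ∈ Zh, ∃ r, b * t * b⁻¹ = t * O.g 5 r ∧ b * b = O.g 5 (c * r)
  surj : ∀ r, ∃ b ∈ Zh, b * t * b⁻¹ = t * O.g 5 r
  ker : ∀ b ∈ Zh, Commute b t → b ∈ O.Z
  comm : ∀ a ∈ Zh, ∀ b ∈ Zh, Commute a b
  nH : O.H ≤ normalizer (Zh : Set G)
  n8 : O.n8 ∈ normalizer (Zh : Set G)

/-- conjugation by `n1` -/
def c1 (O : OP σ sz G) (x : G) : G := O.n1 * x * O.n1⁻¹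

/-- conjugation by `n8` -/
def c8 (O : OP σ sz G) (x : G) : G := O.n8 * x * O.n8⁻¹

/-- the hats of `Z`, parametrised -/
structure P1 (O : OP σ sz G) (t : G) (zh : K × K → G) : Prop extends Sit O t where
  add : ∀ p p', zh (p + p') = zh p * zh p'
  base : ∀ c, zh (0, c) = O.g 5 c
  mv : ∀ p, zh p * t * (zh p)⁻¹ = t * O.g 5 p.1
  cC : ∀ p, ∀ x ∈ O.C, Commute (zh p) x
  co : ∀ p, CO O t (zh p)
  hz : ∀ α β p, O.h (α, β) * zh p * (O.h (α, β))⁻¹ = zh (chi σ 5 α β • p)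
  z58 : ∀ p p', Commute (zh p) (c1 O (zh p'))
  x0 : ∀ u p, O.g 0 u * c1 O (zh p) * (O.g 0 u)⁻¹ = c1 O (zh p) * zh (u • p)

/-- the hats of the root group `x5` as a subgroup -/
structure YS (O : OP σ sz G) (t : G) (zh : K × K → G) (Yh : Subgroup G) (c : K) : Prop extends P1 O t zh where
  yle : O.pat [6] ≤ Yh
  cX : ∀ f ∈ Yh, ∀ x ∈ O.pat X7, Commute f x
  yco : ∀ f ∈ Yh, CO O t f
  ymv : ∀ f ∈ Yh, ∃ r, f * t * f⁻¹ = t * O.g 6 r ∧ f * f = O.g 6 (c * r)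
  surj : ∀ r, ∃ f ∈ Yh, f * t * f⁻¹ = t * O.g 6 r
  ker : ∀ f ∈ Yh, Commute f t → f ∈ O.pat [6]
  comm : ∀ a ∈ Yh, ∀ b ∈ Yh, Commute a b
  nH : O.H ≤ normalizer (Yh : Set G)
  c5 : ∀ f ∈ Yh, ∀ α : Kˣ, Commute f (O.h (α ^ 2, α⁻¹))
  y5 : ∀ f ∈ Yh, ∀ p, Commute f (zh p)
  y8 : ∀ f ∈ Yh, ∀ p, Commute f (c1 O (zh p))
  max : ∀ g, T2 g → (∀ x ∈ O.pat X7, Commute g x) → CO O t g → (∃ r, g * t * g⁻¹ = t * O.g 6 r) →
    (∀ α : Kˣ, Commute g (O.h (α ^ 2, α⁻¹))) → (∀ p, Commute g (zh p)) → g ∈ Yh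

/-- the hats of `x5` form an elementary abelian group -/
structure YT (O : OP σ sz G) (t : G) (zh : K × K → G) (Yh : Subgroup G) : Prop extends YS O t zh Yh 0 where
  y2 : ∀ f ∈ Yh, ∀ p, Commute f (c8 O (c1 O (zh p)))
  z28 : ∀ p p', Commute (c8 O (c1 O (zh p))) (c1 O (zh p'))
  y11 : ∀ f ∈ Yh, ∀ v, Commute f (O.g 11 v)

/-- the hats of `Z` and of `x5`, parametrised -/
structure P2 (O : OP σ sz G) (t : G) (zh yh : K × K → G) : Prop extends P1 O t zh where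
  yadd : ∀ p p', yh (p + p') = yh p * yh p'
  ybase : ∀ c, yh (0, c) = O.g 6 c
  ymv : ∀ p, yh p * t * (yh p)⁻¹ = t * O.g 6 p.1
  yD : ∀ p, ∀ x ∈ O.D3, Commute (yh p) x
  yn1 : ∀ p, Commute (yh p) O.n1
  yco : ∀ p, CO O t (yh p)
  hy : ∀ α β p, O.h (α, β) * yh p * (O.h (α, β))⁻¹ = yh (chi σ 6 α β • p)
  y1 : ∀ u p, O.g 1 u * yh p * (O.g 1 u)⁻¹ = yh p * zh (u • p)
  y5 : ∀ p p', Commute (yh p) (zh p')
  y2 : ∀ p p', Commute (yh p) (c8 O (c1 O (zh p')))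
  z28 : ∀ p p', Commute (c8 O (c1 O (zh p))) (c1 O (zh p'))

/-- the pairs of root groups whose hats are not yet known to commute -/
def Far (j k : Fin 12) : Prop := (j, k) ∈ [((3 : Fin 12), (9 : Fin 12)), (9, 3), (0, 6), (6, 0)]

instance (j k : Fin 12) : Decidable (Far j k) := inferInstanceAs (Decidable (_ ∈ _))

/-- the hats of all abelian root groups -/
structure HH (O : OP σ sz G) (t : G) (hh : Fin 12 → K × K → G) : Prop extends Sit O t where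
  add : ∀ j ∈ JH, ∀ p p', hh j (p + p') = hh j p * hh j p'
  base : ∀ j ∈ JH, ∀ c, hh j (0, c) = O.g j c
  mv : ∀ j ∈ JH, ∀ p, hh j p * t * (hh j p)⁻¹ = t * O.g j p.1
  co : ∀ j ∈ JH, ∀ p, CO O t (hh j p)
  hc : ∀ j ∈ JH, ∀ α β p, O.h (α, β) * hh j p * (O.h (α, β))⁻¹ = hh j (chi σ j α β • p)
  n1c : ∀ j ∈ JH, 0 < j → ∀ p, O.n1 * hh j p * O.n1⁻¹ = hh (p1 j) p
  n8c : ∀ j ∈ JH, j < 10 → ∀ p, O.n8 * hh j p * O.n8⁻¹ = hh (p8 j) p
  cg : ∀ j ∈ JH, ∀ k, cm j k = [] → ∀ p u, Commute (hh j p) (O.g k u)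
  cc : ∀ j ∈ JH, ∀ k ∈ JH, cm j k = [] → ¬ Far j k → ∀ p p', Commute (hh j p) (hh k p')
  x0 : ∀ u p, O.g 0 u * hh 8 p * (O.g 0 u)⁻¹ = hh 8 p * hh 5 (u • p)
  y1 : ∀ u p, O.g 1 u * hh 6 p * (O.g 1 u)⁻¹ = hh 6 p * hh 5 (u • p)

/-- the subgroup generated by the hats with index in `S` -/
def hat (hh : Fin 12 → K × K → G) (S : List (Fin 12)) : Subgroup G := closure {x | ∃ j ∈ S, ∃ p, hh j p = x}

/-- the semilinear map of `K e + K` with `e ↦ e + δ` -/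
def sg (σ : K →+* K) (δ : K) (p : K × K) : K × K := (σ p.1, σ p.2 + δ * σ p.1)

/-- the product of `K e + K`, `e ^ 2 = e + c` -/
def ml (c : K) (p p' : K × K) : K × K := (p.1 * p'.1 + p.1 * p'.2 + p.2 * p'.1, p.2 * p'.2 + c * (p.1 * p'.1))

/-- the product `p · sg p'` with a defect `m` -/
def mu (σ : K →+* K) (δ c m : K) (p p' : K × K) : K × K := ml c p (sg σ δ p') + (0, m * (p.1 * σ p'.1))

/-- the action of `x8`, `y8` on the hats -/
structure HL (O : OP σ sz G) (t : G) (hh : Fin 12 → K × K → G) (δ : K) : Prop extends HH O t hh where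
  l3 : ∀ v p, O.g 11 v * hh 2 p * (O.g 11 v)⁻¹ = hh 2 p * (hh 5 (v • sg σ δ p) * hh 6 (v • p) * hh 8 (σ v • p))
  l4 : ∀ u p, ∃ e ∈ hat hh [5, 6, 8], O.g 10 u * hh 2 p * (O.g 10 u)⁻¹ = hh 2 p * hh 3 (u • p) * e
  l5 : ∀ u p, O.g 10 u * hh 3 p * (O.g 10 u)⁻¹ = hh 3 p * (hh 5 (u • sg σ δ p) * hh 6 (σ u • p))
  l6 : ∀ v p, O.g 11 v * hh 3 p * (O.g 11 v)⁻¹ = hh 3 p * hh 8 (v • p)

/-- the commutators with the hats of `x8` -/
structure HR1 (O : OP σ sz G) (t : G) (hh : Fin 12 → K × K → G) (δ c m : K) : Prop extends HL O t hh δ where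
  h1 : ∀ p p', hh 11 p' * hh 2 p * (hh 11 p')⁻¹ =
    hh 2 p * (hh 5 (mu σ δ c m p' p) * hh 6 (ml c p p') * hh 8 (mu σ δ c m p p'))
  h2 : ∀ p p', hh 11 p' * hh 3 p * (hh 11 p')⁻¹ = hh 3 p * hh 8 (ml c p p')

/-- all commutators of hats -/
structure HR (O : OP σ sz G) (t : G) (hh : Fin 12 → K × K → G) (δ c m : K) : Prop extends HR1 O t hh δ c m where
  h3 : ∀ p p', Commute (hh 3 p) (hh 9 p')
  h4 : ∀ π p, hh 0 π * hh 9 p * (hh 0 π)⁻¹ = hh 9 p * (hh 3 (ml c (sg σ δ π) p) * hh 6 (ml c π (sg σ δ p)))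

/-- the group generated by `U` and the hats -/
def Gam (O : OP σ sz G) (hh : Fin 12 → K × K → G) : Subgroup G := O.U ⊔ hat hh JH

/-- the relations between the hats around the octagon -/
structure Oct (σ : K →+* K) (δ : K) (Z Y : ZMod 8 → K × K → G) : Prop where
  zadd : ∀ i p p', Z i (p + p') = Z i p * Z i p'
  yadd : ∀ i p p', Y i (p + p') = Y i p * Y i p'
  zz1 : ∀ i p p', Commute (Z i p) (Z (i + 1) p')
  zz2 : ∀ i p p', Commute (Z i p) (Z (i + 2) p')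
  zz3 : ∀ i p p', Z (i + 3) p' * Z i p * (Z (i + 3) p')⁻¹ = Z i p * (Z (i + 1) (ml (δ + σ δ) (sg σ δ p) p') *
    Y (i + 1) (ml (δ + σ δ) p p') * Z (i + 2) (ml (δ + σ δ) p (sg σ δ p')))
  yz7 : ∀ i p p', Commute (Y i p) (Z (i + 7) p')
  yz0 : ∀ i p p', Commute (Y i p) (Z i p')
  yz1 : ∀ i p p', Commute (Y i p) (Z (i + 1) p')
  yz2 : ∀ i p p', Commute (Y i p) (Z (i + 2) p')
  yz3 : ∀ i p p', Z (i + 3) p' * Y i p * (Z (i + 3) p')⁻¹ = Y i p * Z (i + 2) (ml (δ + σ δ) p p')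
  yz6 : ∀ i p p', Z (i + 6) p' * Y i p * (Z (i + 6) p')⁻¹ = Y i p * Z (i + 7) (ml (δ + σ δ) p p')

/-- the conjugates of `Z` around the octagon -/
def vz (O : OP σ sz G) (i : ZMod 8) (c : K) : G := (O.n1 * O.n8) ^ i.val * O.g 5 c * ((O.n1 * O.n8) ^ i.val)⁻¹

/-- the outcome of the local analysis -/
structure OD (O : OP σ sz G) (t : G) (δ : K) (Z Y : ZMod 8 → K × K → G) : Prop extends Sit O t, Oct σ δ Z Y where
  zbase : ∀ i c, Z i (0, c) = vz O i c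
  tz : ∀ i p, t * Z i p * t⁻¹ = Z i (p.1, p.2 + p.1)
  ty : ∀ i p, t * Y i p * t⁻¹ = Y i (p.1, p.2 + p.1)
  n1z : ∀ i p, O.n1 * Z i p * O.n1⁻¹ = Z (1 - i) p
  n1y : ∀ i p, O.n1 * Y i p * O.n1⁻¹ = Y (-i) p
  n1t : ∃ g, g * t * g⁻¹ = t * O.n1

/-- the relations of the rank two subsystems of `F₄` in characteristic two: `s`, `m` short, `l`, `n` long -/
structure F4R (s l m n : ZMod 8 → K → G) : Prop where
  sadd : ∀ i c d, s i (c + d) = s i c * s i d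
  ladd : ∀ i c d, l i (c + d) = l i c * l i d
  madd : ∀ i c d, m i (c + d) = m i c * m i d
  nadd : ∀ i c d, n i (c + d) = n i c * n i d
  ss : ∀ i j, j = i + 1 ∨ j = i + 2 → ∀ c d, Commute (s i c) (s j d)
  ll : ∀ i j, j = i + 1 ∨ j = i + 2 → ∀ c d, Commute (l i c) (l j d)
  sl : ∀ i j, j = i + 1 ∨ j = i + 7 → ∀ c d, Commute (s i c) (l j d)
  ss3 : ∀ i c d, s (i + 3) d * s i c * (s (i + 3) d)⁻¹ = s i c * m (i + 1) (c * d)
  ll3 : ∀ i c d, l (i + 3) d * l i c * (l (i + 3) d)⁻¹ = l i c * n (i + 1) (c * d)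
  sl3 : ∀ i c d, l (i + 3) d * s i c * (l (i + 3) d)⁻¹ = s i c * (l (i + 1) (c ^ 2 * d) * s (i + 2) (c * d))
  ls3 : ∀ i c d, s (i + 3) c * l i d * (s (i + 3) c)⁻¹ = l i d * (s (i + 1) (c * d) * l (i + 2) (c ^ 2 * d))
  ms : ∀ i j, j = i + 7 ∨ j = i + 2 → ∀ c d, Commute (m i c) (s j d)
  nl : ∀ i j, j = i + 7 ∨ j = i + 2 → ∀ c d, Commute (n i c) (l j d)
  ml : ∀ i j, j = i + 7 ∨ j = i + 3 → ∀ c d, Commute (m i c) (l j d)
  ns : ∀ i j, j = i + 2 ∨ j = i + 3 ∨ j = i + 6 → ∀ c d, Commute (n i c) (s j d)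
  mn : ∀ i c d, Commute (m i c) (n i d)
  ms3 : ∀ i c d, s (i + 3) d * m i c * (s (i + 3) d)⁻¹ = m i c * s (i + 2) (c * d)
  nl3 : ∀ i c d, l (i + 3) d * n i c * (l (i + 3) d)⁻¹ = n i c * l (i + 2) (c * d)
  ms6 : ∀ i c d, s (i + 6) d * m i c * (s (i + 6) d)⁻¹ = m i c * s (i + 7) (c * d)
  nl6 : ∀ i c d, l (i + 6) d * n i c * (l (i + 6) d)⁻¹ = n i c * l (i + 7) (c * d)

/-- the data for the transfer argument -/
structure End (t : G) (q : ℕ) (G1 Uh : Subgroup G) (s : G) : Prop where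
  conj : ∃ g, g * t * g⁻¹ = s
  perf : G1 ≤ ⁅G1, G1⁆
  le : Uh ≤ G1
  pg : IsPGroup 2 Uh
  syl : ∀ P ≤ G1, IsPGroup 2 P → Uh ≤ P → P = Uh
  nU : s ∈ normalizer (Uh : Set G)
  inv : ∀ u ∈ Uh, u * s * (u * s) = 1 → ∃ v ∈ Uh, u * s = v * s * v⁻¹
  cb : CB G1
  card : q ^ 12 ≤ Nat.card (Uh ⊓ centralizer {s} : Subgroup G)

end CfsgLib.RF4
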