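import Mathlib
import Cfsg.Agent.Lib.RF4.Defs
import Cfsg.Agent.Lib.F42.Pin3

set_option autoImplicit false
set_option Elab.async false
set_option linter.unusedSectionVars false

namespace CfsgLib.RF4

open Subgroup CfsgLib.F42
open scoped commutatorElement

/-! # Field lemmas (package FLD) -/

variable {K : Type*} [Field K] [Finite K] {G : Type*} [Group G] {σ : K →+* K} {sz : Sz K}

theorem fld_na (O : OC σ sz G) (hq : Big K) {ψ : K → K} (ha : ∀ a b, ψ (a + b) = ψ a + ψ b) {w w' : Kˣ → K}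
    (h : ∀ β a, ψ (w β * a) = w' β * ψ a) (h1 : w 1 = 1) (h1' : w' 1 = 1) (hs : ∀ μ ≠ 0, ∃ β, w β = μ)
    (hf : ∀ β γ, w γ = 1 + w β → w' γ = 1 + w' β → w β = 1) (a : K) : ψ a = 0 := by
  obtain ⟨μ, h0, hμ⟩ := hq
  obtain ⟨β, rfl⟩ := hs μ h0
  obtain ⟨γ, e⟩ := hs (1 + w β) fun e => hμ (O.add_eq_zero.1 e).symm
  by_contra n
  refine hμ (hf β γ e (mul_right_cancel₀ n ?_))
  have := h 1 a
  rw [h1, h1'] at this
  rw [← h, e, add_mul, ha, h, this, add_mul]

theorem fld_aut (O : OC σ sz G) (f : K →+* K) (h : ∀ t, f (f t) = t) (t : K) : f t = t := by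
  by_contra ht
  have := O.charP
  let δ : K →+ K := AddMonoidHom.id K + f.toAddMonoidHom
  have hδ : ∀ x, δ x = x + f x := fun _ => rfl
  have d0 : δ t ≠ 0 := fun e => ht (O.add_eq_zero.1 e).symm
  have e : δ.range = δ.ker := le_antisymm (by
      rintro _ ⟨x, rfl⟩
      rw [AddMonoidHom.mem_ker, hδ, hδ, map_add, h]; grind) fun c hc => ⟨c * t / δ t, by
      have h1 : f c = c := (O.add_eq_zero.1 hc).symm
      have h2 : f (δ t) = δ t := by rw [hδ, map_add, h, add_comm]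
      rw [hδ (c * t / δ t), map_div₀, map_mul, h1, h2, ← add_div, ← mul_add, ← hδ, mul_div_cancel_right₀ _ d0]⟩
  have hc := δ.ker.card_mul_index
  rw [AddSubgroup.index_ker, e] at hc
  obtain ⟨n, hn⟩ := O.card_K
  have h3 : 3 ∣ Nat.card Kˣ := by
    rw [Nat.card_units, ← hc]
    generalize Nat.card δ.ker = m at hc
    have : m % 3 ≠ 0 := fun e => by
      have : 3 ∣ 2 ^ n := hn ▸ hc ▸ (Nat.dvd_of_mod_eq_zero e).mul_right m
      exact absurd (Nat.prime_three.dvd_of_dvd_pow this) (by decide)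
    have : m * m % 3 = 1 := by
      rw [Nat.mul_mod]
      rcases (by omega : m % 3 = 1 ∨ m % 3 = 2) with e | e <;> rw [e]
    omega
  have : Fact (Nat.Prime 3) := ⟨Nat.prime_three⟩
  obtain ⟨x, hx⟩ := exists_prime_orderOf_dvd_card' 3 h3
  have x3 : (x : K) ^ 3 = 1 := by rw [← Units.val_pow_eq_pow_val, ← hx, pow_orderOf_eq_one, Units.val_one]
  have x1 : (x : K) - 1 ≠ 0 := fun e => by
    rw [show x = 1 from Units.ext (sub_eq_zero.1 e), orderOf_one] at hx; omega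
  exact O.no_cube (t := x) (mul_left_cancel₀ x1 (by linear_combination x3))

theorem fld_sqs (O : OC σ sz G) {μ : K} (h : μ ≠ 0) : ∃ β : Kˣ, (β : K) ^ 2 = μ := by
  obtain ⟨u, rfl⟩ := O.sig_surj μ
  obtain ⟨w, rfl⟩ := O.sig_surj u
  exact ⟨.mk0 w (by rintro rfl; simp at h), (O.ss w).symm⟩

theorem fld_sig {x : K} (h : x ≠ 1) : σ x ≠ 1 := fun e => h (σ.injective (e.trans (map_one σ).symm))

theorem fld_sq (O : OC σ sz G) {x : K} (h : x ≠ 1) : x ^ 2 ≠ 1 := fun e => h (O.sq_inj (by rw [e, one_pow]))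

theorem fld_surj {j : Fin 12} {φ : Kˣ → Kˣ × Kˣ} (hm : ∀ β γ, φ (β * γ) = φ β * φ γ)
    (h : ∀ β ≠ 1, chi σ j (φ β).1 (φ β).2 ≠ 1) {a : K} (ha : a ≠ 0) : ∃ β, chi σ j (φ β).1 (φ β).2 = a := by
  let f : Kˣ →* Kˣ := MonoidHom.mk' (fun β => .mk0 _ (chi_ne (σ := σ) j (φ β).1 (φ β).2)) fun β γ => Units.ext (by
    simp only [hm, Units.val_mk0, Units.val_mul, chi, mon, Prod.fst_mul, Prod.snd_mul, map_mul]; ring)
  obtain ⟨l, hl⟩ := Finite.surjective_of_injective ((injective_iff_map_eq_one f).2 fun l hl => by_contra fun n =>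
    h l n (congrArg Units.val hl)) (.mk0 a ha)
  exact ⟨l, congrArg Units.val hl⟩

theorem fld_H5 (α : Kˣ) (j : Fin 12) : chi σ j (α ^ 2) α⁻¹ = ![(α : K) ^ 2, α, α * σ α, σ α, σ α / α,
    α, 1, α / σ α, (α : K)⁻¹, (σ α)⁻¹, (α : K)⁻¹, (α * σ α)⁻¹] j := by
  have h1 := α.ne_zero
  have h2 := (map_ne_zero σ).2 h1
  fin_cases j <;> simp only [chi, mon, chiT, Matrix.cons_val, Fin.reduceFinMk, Fin.zero_eta, Fin.mk_one, Fin.isValue,
    map_pow, map_inv₀, Units.val_inv_eq_inv_val, Units.val_pow_eq_pow_val] <;> field_simp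

theorem fld_H5_ne (O : OC σ sz G) {α : Kˣ} (h : α ≠ 1) {j : Fin 12} (hj : j ≠ 6) : chi σ j (α ^ 2) α⁻¹ ≠ 1 := by
  have h0 := α.ne_zero
  have h1 : (α : K) ≠ 1 := by simpa using h
  have h2 : (α : K) * σ α ≠ 1 := mt O.n_eq_one h1
  have h3 := fld_sig (σ := σ) h1
  have h4 := fld_sq O h1
  have h5 : σ α ≠ α := fun e => (O.fix_sig e).elim h0 h1
  rw [fld_H5]
  fin_cases j <;> first | exact absurd rfl hj | skip
  all_goals simp only [Matrix.cons_val, Fin.reduceFinMk, Fin.zero_eta, Fin.mk_one, Fin.isValue, ne_eq, inv_eq_one]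
  all_goals first | assumption | exact fun e => h5 (eq_of_div_eq_one e) | exact fun e => h5 (eq_of_div_eq_one e).symm

theorem fld_H7 (O : OC σ sz G) (β : Kˣ) (j : Fin 12) : chi σ j (β ^ 2 * su σ β) β⁻¹ = ![(β : K) ^ 2 * σ β, β * σ β,
    β ^ 3 * σ β ^ 2, (β * σ β) ^ 2, β * σ β, β ^ 3 * σ β ^ 2, β ^ 2 * σ β, β, β * σ β, 1, (β : K)⁻¹, (β * σ β)⁻¹] j := by
  have h1 := β.ne_zero
  have h2 := (map_ne_zero σ).2 h1
  fin_cases j <;> simp only [chi, mon, chiT, Matrix.cons_val, Fin.reduceFinMk, Fin.zero_eta, Fin.mk_one, Fin.isValue,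
    map_pow, map_mul, map_inv₀, Units.val_inv_eq_inv_val, Units.val_pow_eq_pow_val, Units.val_mul, su_val, O.ss] <;>
    field_simp

theorem fld_H7_ne (O : OC σ sz G) {β : Kˣ} (h : β ≠ 1) {j : Fin 12} (hj : j ≠ 9) :
    chi σ j (β ^ 2 * su σ β) β⁻¹ ≠ 1 := by
  have h1 : (β : K) ≠ 1 := by simpa using h
  have h2 : (β : K) * σ β ≠ 1 := mt O.n_eq_one h1
  have h3 : (β : K) ^ 2 * σ β ≠ 1 := by simpa only [map_mul, O.ss, mul_comm] using fld_sig (σ := σ) h2
  have h4 := fld_sq O h2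
  have h5 : (β : K) ^ 3 * σ β ^ 2 ≠ 1 := fun e => h2 (O.n_eq_one (by rw [map_mul, O.ss, ← e]; ring))
  rw [fld_H7 O]
  fin_cases j <;> first | exact absurd rfl hj | skip
  all_goals simpa only [Matrix.cons_val, Fin.reduceFinMk, Fin.zero_eta, Fin.mk_one, Fin.isValue, ne_eq, inv_eq_one]

section
variable (O : OC σ sz G) (hq : Big K)
include O hq

theorem four_lt : 4 < Nat.card K := by
  obtain ⟨μ, h0, h1⟩ := hq
  have := O.charP
  have := Fintype.ofFinite K
  classical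
  have n1 : μ + 1 ≠ 0 := fun e => h1 (O.add_eq_zero.1 e)
  have n2 : μ ^ 2 + μ + 1 ≠ 0 := O.no_cube
  have : ({0, 1, μ, μ + 1, μ ^ 2} : Finset K).card = 5 := by
    repeat rw [Finset.card_insert_of_notMem]
    · rfl
    all_goals simp only [Finset.mem_insert, Finset.mem_singleton]; grind
  have h2 := Finset.card_le_univ ({0, 1, μ, μ + 1, μ ^ 2} : Finset K)
  rw [Nat.card_eq_fintype_card]
  omega

variable {ψ : K → K} (ha : ∀ a b, ψ (a + b) = ψ a + ψ b)
include ha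

theorem na0 (h : ∀ (β : Kˣ) a, ψ (β * a) = ψ a) (a : K) : ψ a = 0 := fld_na O hq ha (w := fun β => β) (w' := fun _ => 1) (by simpa using h) rfl rfl
  (fun μ h0 => ⟨.mk0 μ h0, rfl⟩) (fun β γ _ e => by simp at e) a

theorem na1 (h : ∀ (β : Kˣ) a, ψ (β ^ 2 * σ β ^ 2 * a) = β ^ 3 * σ β ^ 2 * ψ a) (a : K) : ψ a = 0 := by
  refine fld_na O hq ha h (by simp) (by simp) (fun μ h0 => ?_) (fun β γ e e' => ?_) a
  · obtain ⟨ν, rfl⟩ := O.n_surj μ
    obtain ⟨β, rfl⟩ := fld_sqs O (left_ne_zero_of_mul h0)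
    exact ⟨β, by rw [map_pow]⟩
  · have := O.charP
    have e1 := congrArg σ e
    simp only [map_add, map_mul, map_pow, map_one, O.ss] at e1
    refine (O.fix_sig ?_).resolve_left (by simp)
    simp only [map_mul, map_pow, O.ss]
    grind

theorem na1' (h : ∀ (β : Kˣ) a, ψ (β ^ 2 * σ β * a) = β ^ 3 * σ β ^ 2 * ψ a) (a : K) : ψ a = 0 := by
  refine fld_na O hq ha h (by simp) (by simp) (fun μ h0 => ?_) (fun β γ e e' => ?_) a
  · obtain ⟨ν, rfl⟩ := O.sig_surj μ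
    obtain ⟨β, rfl⟩ := O.n_surj ν
    exact ⟨.mk0 β (by rintro rfl; simp at h0), by simp only [Units.val_mk0, map_mul, O.ss]; ring⟩
  · have := O.charP
    have e1 : (γ : K) * σ γ = 1 + β * σ β := σ.injective (by
      simp only [map_add, map_mul, map_one, O.ss]; linear_combination e)
    have e2 : (β : K) * σ β = 1 := (O.fix_sig (by simp only [map_mul, O.ss]; grind)).resolve_left (by simp)
    simp [O.n_eq_one e2]

theorem na2 (h : ∀ (β : Kˣ) a, ψ (β * a) = (β : K)⁻¹ * ψ a) (a : K) : ψ a = 0 := by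
  refine fld_na O hq ha h rfl (by simp) (fun μ h0 => ⟨.mk0 μ h0, rfl⟩) (fun β γ e e' => (O.no_cube (t := β) ?_).elim) a
  have := O.charP
  have h1 := β.ne_zero
  have h2 := γ.ne_zero
  field_simp at e'
  grind

theorem na2' (h : ∀ (β : Kˣ) a, ψ (β ^ 2 * a) = (β : K)⁻¹ * ψ a) (a : K) : ψ a = 0 := by
  refine fld_na O hq ha h (by simp) (by simp) (fun μ h0 => fld_sqs O h0) (fun β γ e e' => (O.no_cube (t := β) ?_).elim) a
  have := O.charP
  have h1 := β.ne_zero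
  have h2 := γ.ne_zero
  have e1 : (γ : K) = 1 + β := O.sq_inj (by grind)
  field_simp at e'
  grind

theorem na3 (h : ∀ (β : Kˣ) a, ψ (β * σ β * a) = β * ψ a) (a : K) : ψ a = 0 := by
  refine fld_na O hq ha h (by simp) rfl (fun μ h0 => ?_) (fun β γ e e' => ?_) a
  · obtain ⟨β, rfl⟩ := O.n_surj μ
    exact ⟨.mk0 β (left_ne_zero_of_mul h0), rfl⟩
  · have := O.charP
    rw [e', map_add, map_one] at e
    have e2 : (β : K) = 1 := (O.fix_sig (by grind)).resolve_left β.ne_zero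
    simp [e2]

omit ha in
theorem ded {a b c : K} (h : ∀ r, a * r + b * σ r + c * r ^ 2 = 0) : a = 0 ∧ b = 0 ∧ c = 0 := by
  obtain ⟨μ, h0, h1⟩ := hq
  have e0 := h 1
  have e1 := h μ
  have e2 := h (μ * μ)
  rw [map_one] at e0
  rw [map_mul] at e2
  have n1 : σ μ - μ ≠ 0 := fun e => (O.fix_sig (sub_eq_zero.1 e)).elim h0 h1
  have n2 : μ ^ 2 - μ ≠ 0 := fun e => h1 (mul_left_cancel₀ h0 (by linear_combination e))
  have n3 : μ ^ 2 - σ μ ≠ 0 := by rw [← O.ss, ← map_sub]; exact (map_ne_zero σ).2 n1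
  have hc : c = 0 := (mul_eq_zero.1 (show c * ((μ ^ 2 - μ) * (μ ^ 2 - σ μ)) = 0 by
    linear_combination e2 - (μ + σ μ) * e1 + μ * σ μ * e0)).resolve_right (mul_ne_zero n2 n3)
  have hb : b = 0 := (mul_eq_zero.1 (show b * (σ μ - μ) = 0 by
    rw [hc] at e0 e1; linear_combination e1 - μ * e0)).resolve_right n1
  exact ⟨by simpa [hb, hc] using e0, hb, hc⟩

end

variable (O : OC σ sz G)
include O

theorem exists_gam (δ : K) : ∃ γ, δ = γ + σ γ ∨ δ = γ + σ γ + 1 := by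
  have := O.charP
  let T : K →+ K := AddMonoidHom.id K + σ.toAddMonoidHom
  have hk : Nat.card T.ker = 2 := by
    rw [Nat.card_eq_two_iff]
    refine ⟨0, ⟨1, by simp [T, O.add_self]⟩, by simp [Subtype.ext_iff], Set.eq_univ_of_forall fun x => ?_⟩
    exact (O.fix_sig (O.add_eq_zero.1 (x.2 : (x : K) + σ x = 0)).symm).imp Subtype.ext Subtype.ext
  have hi : T.range.index = 2 := by
    have h1 := T.ker.index_mul_card
    have h2 := T.range.index_mul_card
    rw [AddSubgroup.index_ker, hk, ← h2, mul_comm] at h1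
    exact (Nat.eq_of_mul_eq_mul_right Nat.card_pos h1).symm
  have h1 : (1 : K) ∉ T.range := by
    rintro ⟨γ, e⟩
    replace e : γ + σ γ = 1 := e
    have e1 := congrArg σ e
    rw [map_add, map_one, O.ss] at e1
    rcases mul_eq_zero.1 (show γ * (γ + 1) = 0 by grind) with rfl | k
    · simp at e
    · rw [O.add_eq_zero.1 k, map_one, O.add_self] at e; exact zero_ne_one e
  by_cases hδ : δ ∈ T.range
  · obtain ⟨γ, e⟩ := hδ
    exact ⟨γ, .inl e.symm⟩
  · obtain ⟨γ, e⟩ := (AddSubgroup.add_mem_iff_of_index_two hi).2 (iff_of_false hδ h1)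
    replace e : γ + σ γ = δ + 1 := e
    exact ⟨γ, .inr (by grind)⟩

theorem exists_theta : ∃ θ : K →+* K, (∀ t, θ (σ t) = t) ∧ (∀ t, σ (θ t) = t) ∧ (∀ t, θ (θ t) ^ 2 = t) ∧
    ∀ t, σ t = θ t ^ 2 := by
  let e := RingEquiv.ofBijective σ ⟨σ.injective, O.sig_surj⟩
  have h : ∀ t, σ (e.symm t) = t := e.apply_symm_apply
  refine ⟨e.symm, e.symm_apply_apply, h, fun t => ?_, fun t => ?_⟩
  · exact (O.ss _).symm.trans ((congrArg σ (h _)).trans (h t))
  · exact ((O.ss _).symm.trans (congrArg σ (h t))).symm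

/-- a semilinear map whose field automorphism has 2-power order is linear -/
theorem semi {f ψ : K → K} (ha : ∀ a b, f (a + b) = f a + f b) (h1 : ∃ a, f a ≠ 0)
    (h : ∀ μ a, f (μ * a) = ψ μ * f a) {k : ℕ} (hk : ∀ μ, ψ^[2 ^ k] μ = μ) (μ : K) : ψ μ = μ := by
  obtain ⟨a, h0⟩ := h1
  have key : ∀ k (Ψ : K →+* K), (∀ μ, Ψ^[2 ^ k] μ = μ) → ∀ μ, Ψ μ = μ := by
    intro k
    induction k with
    | zero => exact fun Ψ h => h
    | succ k ih => exact fun Ψ h => fld_aut O Ψ (ih (Ψ.comp Ψ) fun μ => by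
        have := h μ
        rwa [pow_succ', Function.iterate_mul] at this)
  have add : ∀ x y, ψ (x + y) = ψ x + ψ y := fun x y => mul_right_cancel₀ h0 (by rw [← h, add_mul, ha, h, h, add_mul])
  exact key k
    { toFun := ψ
      map_one' := mul_right_cancel₀ h0 (by rw [← h, one_mul, one_mul])
      map_mul' := fun x y => mul_right_cancel₀ h0 (by rw [← h, mul_assoc, h, h, mul_assoc])
      map_zero' := by simpa using add 0 0
      map_add' := add } hk μ

/-- independent characters -/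
theorem chi_pair {j k : Fin 12} (h : (j, k) ∈ [((0 : Fin 12), (8 : Fin 12)), (2, 11)]) {a b : K} (ha : a ≠ 0)
    (hb : b ≠ 0) : ∃ α β, chi σ j α β = a ∧ chi σ k α β = b := by
  simp only [List.mem_cons, Prod.mk.injEq, List.not_mem_nil, or_false] at h
  rcases h with ⟨rfl, rfl⟩ | ⟨rfl, rfl⟩
  · obtain ⟨ν, hν⟩ := O.n_surj (b / (a * σ a))
    obtain ⟨β, rfl⟩ := O.n_surj ν
    have hβ : β ≠ 0 := by rintro rfl; simpa [ha, hb] using hν.symm
    refine ⟨.mk0 a ha, .mk0 β hβ, by simp [chi, mon, chiT], ?_⟩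
    rw [map_mul, O.ss, eq_div_iff (by simp [ha])] at hν
    simp only [chi, mon, chiT, Units.val_mk0, Matrix.cons_val]
    linear_combination hν
  · obtain ⟨β, rfl⟩ := O.n_surj b
    obtain ⟨γ, rfl⟩ := O.n_surj a
    have hβ := left_ne_zero_of_mul hb
    have hβ' := right_ne_zero_of_mul hb
    refine ⟨.mk0 (γ / β) (div_ne_zero (left_ne_zero_of_mul ha) hβ), .mk0 β hβ, ?_, by simp [chi, mon, chiT]⟩
    simp only [chi, mon, chiT, Units.val_mk0, Matrix.cons_val, map_div₀]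
    field_simp

theorem chi_surj (j : Fin 12) {a : K} (ha : a ≠ 0) : ∃ α β, chi σ j α β = a := by
  by_cases hj : j = 6
  · obtain ⟨β, e⟩ := fld_surj (j := j) (φ := fun β => (β ^ 2 * su σ β, β⁻¹))
      (fun β γ => by simp [mul_pow, mul_comm, mul_assoc, mul_left_comm])
      (fun β h => fld_H7_ne O h (by rw [hj]; decide)) ha
    exact ⟨_, _, e⟩
  · obtain ⟨β, e⟩ := fld_surj (j := j) (φ := fun α => (α ^ 2, α⁻¹))
      (fun β γ => by simp [mul_pow, mul_comm]) (fun β h => fld_H5_ne O h hj) ha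
    exact ⟨_, _, e⟩

theorem chi_rel (α β : Kˣ) : chi σ 5 α β = chi σ 0 α β * chi σ 8 α β ∧ chi σ 5 α β = chi σ 1 α β * chi σ 6 α β ∧
    chi σ 5 α β = σ (chi σ 2 α β) * chi σ 11 α β ∧ chi σ 6 α β = chi σ 2 α β * chi σ 11 α β ∧
    chi σ 8 α β = chi σ 2 α β * σ (chi σ 11 α β) ∧ chi σ 5 α β = chi σ 2 α β * chi σ 9 α β ∧
    σ (chi σ 8 α β) = chi σ 5 α β * chi σ 11 α β ∧ chi σ 5 α β = α ^ 2 * β * σ (chi σ 9 α β) := by
  simp only [chi, mon, chiT, Matrix.cons_val, map_mul, map_pow, O.ss]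
  refine ⟨?_, ?_, ?_, ?_, ?_, ?_, ?_, ?_⟩ <;> ring

/-- the characters on `H5` -/
theorem chi_H5 (α : Kˣ) (j : Fin 12) : chi σ j (α ^ 2) α⁻¹ = ![(α : K) ^ 2, α, α * σ α, σ α, σ α / α, α, 1, α / σ α,
    (α : K)⁻¹, (σ α)⁻¹, (α : K)⁻¹, (α * σ α)⁻¹] j := fld_H5 α j

theorem chi_H5_ne {α : Kˣ} (h : α ≠ 1) {j : Fin 12} (hj : j ≠ 6) : chi σ j (α ^ 2) α⁻¹ ≠ 1 := fld_H5_ne O h hj

/-- the characters on `H6 = n1 H8 n1` -/
theorem chi_H6 (l : Kˣ) : chi σ 0 (l * su σ l)⁻¹ l = (l * σ l)⁻¹ ∧ chi σ 5 (l * su σ l)⁻¹ l = (l * σ l)⁻¹ ∧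
    chi σ 6 (l * su σ l)⁻¹ l = (l : K)⁻¹ ∧ chi σ 8 (l * su σ l)⁻¹ l = 1 := by
  have h1 := l.ne_zero
  have h2 := (map_ne_zero σ).2 h1
  simp only [chi, mon, chiT, Matrix.cons_val, map_mul, map_inv₀, O.ss, Units.val_inv_eq_inv_val, Units.val_mul, su_val]
  refine ⟨?_, ?_, ?_, ?_⟩ <;> field_simp

/-- the characters on the kernel of the character `0` -/
theorem chi_H1 (β : Kˣ) : chi σ 0 1 β = 1 ∧ chi σ 6 1 β = β ^ 2 * σ β ^ 2 ∧ chi σ 5 1 β = β ^ 3 * σ β ^ 2 := by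
  simp [chi, mon, chiT]

/-- the characters on the kernel of the character `3` -/
theorem chi_H3 (β : Kˣ) : chi σ 3 (su σ β)⁻¹ β = 1 ∧ chi σ 11 (su σ β)⁻¹ β = β * σ β ∧ chi σ 5 (su σ β)⁻¹ β = β := by
  have h1 := β.ne_zero
  have h2 := (map_ne_zero σ).2 h1
  simp only [chi, mon, chiT, Matrix.cons_val, map_inv₀, O.ss, Units.val_inv_eq_inv_val, su_val]
  refine ⟨?_, ?_, ?_⟩ <;> field_simp

/-- the characters on the kernel `H7` of the character `9` -/
theorem chi_H7 (β : Kˣ) : chi σ 9 (β ^ 2 * su σ β) β⁻¹ = 1 ∧ chi σ 0 (β ^ 2 * su σ β) β⁻¹ = β ^ 2 * σ β ∧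
    chi σ 5 (β ^ 2 * su σ β) β⁻¹ = β ^ 3 * σ β ^ 2 := ⟨fld_H7 O β 9, fld_H7 O β 0, fld_H7 O β 5⟩

theorem chi_H7_ne {β : Kˣ} (h : β ≠ 1) {j : Fin 12} (hj : j ≠ 9) : chi σ j (β ^ 2 * su σ β) β⁻¹ ≠ 1 := fld_H7_ne O h hj

theorem chi_H'_ne {α : Kˣ} (h : α ≠ 1) {j : Fin 12} (hj : j ≠ 3) : chi σ j α (α ^ 2)⁻¹ ≠ 1 := by
  have := O.charP
  have h0 := α.ne_zero
  have h1 : (α : K) ≠ 1 := by simpa using h
  have nn : ∀ {x : K}, x ≠ 1 → x * σ x ≠ 1 := fun h => mt O.n_eq_one h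
  have h2 := nn h1
  have h3 := nn h2
  have h4 := fld_sig (σ := σ) h2
  have h5 := fld_sig (σ := σ) h3
  have h6 : (α : K) ^ 3 ≠ 1 := fun e => O.no_cube (t := α) (by grind)
  have h7 : (α : K) * σ α ^ 2 ≠ 1 := fun e => by
    have e1 := congrArg σ e
    simp only [map_mul, map_pow, map_one, O.ss] at e1
    have e2 : (α : K) ^ 7 = 1 := by grind
    have e3 : σ α = α ^ 3 := by grind
    rcases mul_eq_zero.1 (show ((α : K) ^ 3 + α + 1) * (α ^ 3 + α ^ 2 + 1) = 0 by grind) with k | k <;>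
      have k' := congrArg σ k <;> simp only [map_add, map_pow, map_one, map_zero, e3] at k' <;> grind
  have h8 := nn h7
  have h9 := nn h6
  have h10 := fld_sq O h1
  have h11 := fld_sq O h2
  simp only [map_mul, map_pow, O.ss] at h3 h4 h5 h8 h9
  have h0' := (map_ne_zero σ).2 h0
  intro e
  fin_cases j <;> first | exact absurd rfl hj | skip
  all_goals
    simp only [chi, mon, chiT, Matrix.cons_val, Fin.reduceFinMk, Fin.zero_eta, Fin.mk_one, Fin.isValue, map_pow,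
      map_inv₀, Units.val_inv_eq_inv_val, Units.val_pow_eq_pow_val] at e
    field_simp at e
    first | exact h1 (by linear_combination e) | exact h1 (by linear_combination -e) |
      exact h2 (by linear_combination e) | exact h2 (by linear_combination -e) |
      exact h3 (by linear_combination e) | exact h3 (by linear_combination -e) |
      exact h4 (by linear_combination e) | exact h4 (by linear_combination -e) |
      exact h5 (by linear_combination e) | exact h5 (by linear_combination -e) |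
      exact h7 (by linear_combination e) | exact h7 (by linear_combination -e) |
      exact h8 (by linear_combination e) | exact h8 (by linear_combination -e) |
      exact h9 (by linear_combination e) | exact h9 (by linear_combination -e) |
      exact h10 (by linear_combination e) | exact h10 (by linear_combination -e) |
      exact h11 (by linear_combination e) | exact h11 (by linear_combination -e)

end CfsgLib.RF4
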