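import Mathlib
import Cfsg.Agent.Lib.RF4.Defs
import Cfsg.Agent.Lib.Coprime.SchurZassenhaus
import Cfsg.Agent.Lib.U3S.Gen2
import Cfsg.Agent.Lib.UFP.Z
import Cfsg.Agent.Lib.Ward.Loc3

set_option autoImplicit false
set_option Elab.async false

namespace CfsgLib.RF4

open Subgroup CfsgLib.F42
open scoped commutatorElement

/-! # General group theory (package GEN) -/

variable {G : Type*} [Group G]

theorem T2.one : T2 (1 : G) := ⟨0, one_pow _⟩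

theorem T2.of_sq {x : G} (h : x * x = 1) : T2 x := ⟨1, by rw [pow_one, sq, h]⟩

theorem T2.inv {x : G} (h : T2 x) : T2 x⁻¹ := by
  obtain ⟨k, hk⟩ := h
  exact ⟨k, by rw [inv_pow, hk, inv_one]⟩

theorem T2.pow {x : G} (h : T2 x) (n : ℕ) : T2 (x ^ n) := by
  obtain ⟨k, hk⟩ := h
  exact ⟨k, by rw [← pow_mul, mul_comm, pow_mul, hk, one_pow]⟩

theorem T2.of_pow {x : G} {k : ℕ} (h : T2 (x ^ 2 ^ k)) : T2 x := by
  obtain ⟨j, hj⟩ := h
  exact ⟨k + j, by rw [pow_add, pow_mul, hj]⟩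

theorem T2.conj {x : G} (h : T2 x) (g : G) : T2 (g * x * g⁻¹) := by
  obtain ⟨k, hk⟩ := h
  exact ⟨k, by rw [conj_pow, hk, mul_one, mul_inv_cancel]⟩

theorem T2.mul {x y : G} (hx : T2 x) (hy : T2 y) (h : Commute x y) : T2 (x * y) := by
  obtain ⟨k, hk⟩ := hx
  obtain ⟨j, hj⟩ := hy
  refine ⟨k + j, ?_⟩
  rw [h.mul_pow, pow_add, pow_mul, hk, one_pow, one_mul, mul_comm, pow_mul, hj, one_pow]

theorem T2.of_mem {P : Subgroup G} (hP : IsPGroup 2 P) {x : G} (hx : x ∈ P) : T2 x := (Tech.isPGroup_iff_mem.1 hP) x hx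

theorem isPGroup_of_T2 {P : Subgroup G} (h : ∀ x ∈ P, T2 x) : IsPGroup 2 P := Tech.isPGroup_iff_mem.2 h

theorem T2.eq_one {x : G} (h : T2 x) (ho : Odd (orderOf x)) : x = 1 := by
  obtain ⟨k, hk⟩ := h
  have h1 : orderOf x ∣ 2 ^ k := orderOf_dvd_of_pow_eq_one hk
  have h2 : (orderOf x).Coprime (2 ^ k) := Nat.Coprime.pow_right _ (Nat.coprime_two_right.2 ho)
  exact orderOf_eq_one_iff.1 (Nat.Coprime.eq_one_of_dvd h2 h1)

/-- the odd factor of a 2-element is trivial -/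
theorem T2.odd_eq_one {e o : G} (h : T2 (e * o)) (he : T2 e) (hc : Commute e o) (ho : Odd (orderOf o)) :
    o = 1 := by
  have h1 : T2 (e⁻¹ * (e * o)) := he.inv.mul h ((Commute.refl e).mul_right hc).inv_left
  rw [inv_mul_cancel_left] at h1
  exact h1.eq_one ho

/-- the odd factor of an element inverted by `s` is trivial if `s` centralises it -/
theorem odd_eq_one_of_inv {e o s : G} (he : T2 e) (hc : Commute e o) (ho : Odd (orderOf o)) (hs : Commute s o)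
    (h : s * (e * o) * s⁻¹ = (e * o)⁻¹) : o = 1 := by
  obtain ⟨k, hk⟩ := he
  have h1 : (e * o) ^ 2 ^ k = o ^ 2 ^ k := by rw [hc.mul_pow, hk, one_mul]
  have h2 : s * (e * o) ^ 2 ^ k * s⁻¹ = ((e * o) ^ 2 ^ k)⁻¹ := by rw [← conj_pow, h, inv_pow]
  rw [h1, (hs.pow_right _).eq, mul_inv_cancel_right] at h2
  have h3 : T2 (o ^ 2 ^ k) := T2.of_sq (by nth_rewrite 1 [h2]; exact inv_mul_cancel _)
  exact h3.of_pow.eq_one ho

/-- the commutator trick -/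
theorem kill {D : Subgroup G} {a b h : G} (hah : Commute a h) (hb : b ∈ normalizer (D : Set G))
    (hd : ⁅a, b⁆⁻¹ * (h * ⁅a, b⁆ * h⁻¹) ∈ D) : ⁅a, b⁻¹ * (h * b * h⁻¹)⁆ ∈ D := by
  have e : ⁅a, b⁻¹ * (h * b * h⁻¹)⁆ = b⁻¹ * (⁅a, b⁆⁻¹ * (h * ⁅a, b⁆ * h⁻¹)) * b := by
    have e1 : a⁻¹ * h * a = h := by rw [mul_assoc, ← hah.eq, inv_mul_cancel_left]
    have e2 : h⁻¹ * a⁻¹ * h = a⁻¹ := by rw [mul_assoc, hah.inv_left.eq, inv_mul_cancel_left]
    simp only [commutatorElement_def]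
    calc _ = a * b⁻¹ * h * b * (h⁻¹ * a⁻¹ * h) * b⁻¹ * h⁻¹ * b := by group
      _ = a * b⁻¹ * (a⁻¹ * h * a) * b * a⁻¹ * b⁻¹ * h⁻¹ * b := by rw [e1, e2]
      _ = _ := by group
  rw [e]
  exact Tech.conj_mem_of_mem_normalizer' hb hd

variable [Finite G]

/-- 2-part and odd part -/
theorem exists_split (g : G) : ∃ m k : ℕ, Odd m ∧ T2 (g ^ m) ∧ ∃ a b : ℕ,
    Odd (orderOf (g ^ (2 ^ k * b))) ∧ g = g ^ (m * a) * g ^ (2 ^ k * b) := by
  obtain ⟨k, m, hm, e⟩ := Nat.exists_eq_two_pow_mul_odd (orderOf_pos g).ne'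
  have hc : Nat.Coprime m (2 ^ k) := Nat.Coprime.pow_right _ (Nat.coprime_two_right.2 hm)
  have p1 : 0 < Nat.totient (2 ^ k) := Nat.totient_pos.2 (by positivity)
  have p2 : 0 < Nat.totient m := Nat.totient_pos.2 hm.pos
  refine ⟨m, k, hm, ⟨k, by rw [← pow_mul, mul_comm, ← e, pow_orderOf_eq_one]⟩,
    m ^ (Nat.totient (2 ^ k) - 1), (2 ^ k) ^ (Nat.totient m - 1), ?_, ?_⟩
  · refine Odd.of_dvd_nat hm (orderOf_dvd_of_pow_eq_one ?_)
    rw [← pow_mul, mul_right_comm, ← e, pow_mul, pow_orderOf_eq_one, one_pow]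
  · rw [← pow_add, ← pow_succ', ← pow_succ', Nat.sub_add_cancel p1, Nat.sub_add_cancel p2]
    nth_rewrite 1 [← pow_one g]
    rw [pow_eq_pow_iff_modEq, e]
    refine ((Nat.modEq_and_modEq_iff_modEq_mul hc.symm).1 ⟨?_, ?_⟩).symm
    · have a1 := Nat.ModEq.pow_totient hc
      have a2 : (2 ^ k) ^ Nat.totient m ≡ 0 [MOD 2 ^ k] :=
        (Nat.modEq_zero_iff_dvd).2 (dvd_pow_self _ p2.ne')
      exact a1.add a2
    · have a1 := Nat.ModEq.pow_totient hc.symm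
      have a2 : m ^ Nat.totient (2 ^ k) ≡ 0 [MOD m] :=
        (Nat.modEq_zero_iff_dvd).2 (dvd_pow_self _ p1.ne')
      exact a2.add a1

/-- if the elements of odd order are central, the 2-elements form a subgroup -/
theorem exists_two {Γ : Subgroup G} (h : ∀ g ∈ Γ, Odd (orderOf g) → ∀ x ∈ Γ, Commute g x) :
    ∃ W : Subgroup G, IsPGroup 2 W ∧ ∀ g, g ∈ W ↔ g ∈ Γ ∧ T2 g := by
  have : Fact (Nat.Prime 2) := ⟨Nat.prime_two⟩
  obtain ⟨P, hP⟩ := Tech.exists_isSylowIn 2 Γ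
  obtain ⟨S, hS, PS, SM, hn, -⟩ := U3S.exists_core hP.pgroup hP.le
    (fun o ho odd p hp => (h o ho odd p (hP.le hp)).eq)
  have e : S = P := hP.eq_of_le hS PS SM
  subst e
  refine ⟨S, hS, fun g => ⟨fun hg => ⟨SM hg, T2.of_mem hS hg⟩, fun ⟨hg, ⟨k, hk⟩⟩ => ?_⟩⟩
  have h1 : zpowers g ≤ Γ := zpowers_le.2 hg
  refine hP.le_of_normalizes (Tech.isPGroup_zpowers_of_pow hk) h1 (zpowers_le.2 ?_) (mem_zpowers g)
  exact Tech.mem_normalizer_of_forall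
    (hn g (fun m hm => mul_mem (mul_mem hg hm) (inv_mem hg)))

theorem gen_odd_card {W : Subgroup G} (h : ∀ x ∈ W, Odd (orderOf x)) : Odd (Nat.card W) := by
  have : Fact (Nat.Prime 2) := ⟨Nat.prime_two⟩
  by_contra hn
  rw [Nat.not_odd_iff_even, even_iff_two_dvd] at hn
  obtain ⟨x, hx⟩ := exists_prime_orderOf_dvd_card' 2 hn
  have := h x x.2
  rw [orderOf_coe, hx] at this
  exact absurd this (by decide)

/-- a coset fixed by a group of odd order contains a fixed element -/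
theorem exists_fix {N T : Subgroup G} (hN : IsPGroup 2 N) (hT : ∀ h ∈ T, Odd (orderOf h))
    (hTN : T ≤ normalizer (N : Set G)) {g : G} (hg : ∀ h ∈ T, g⁻¹ * (h * g * h⁻¹) ∈ N) :
    ∃ n ∈ N, ∀ h ∈ T, Commute (g * n) h := by
  have : Fact (Nat.Prime 2) := ⟨Nat.prime_two⟩
  have hodd : Odd (Nat.card T) := gen_odd_card hT
  have hA : Tech.cj g⁻¹ T ≤ N ⊔ T := by
    rw [Tech.cj_le_iff]
    intro x hx
    have e : g⁻¹ * x * g⁻¹⁻¹ = g⁻¹ * (x * g * x⁻¹) * x := by group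
    rw [e]
    exact mul_mem (mem_sup_left (hg x hx)) (mem_sup_right hx)
  have hcop : (Nat.card (Tech.cj g⁻¹ T)).Coprime (Nat.card N) := by
    rw [Tech.card_cj]
    exact (UFP.coprime_of_odd hN hodd).symm
  have := hN.isNilpotent
  obtain ⟨k, hk, hle⟩ := Coprime.exists_conj_smul_le_of_le_sup hTN hA hcop (Or.inr inferInstance)
  rw [Coprime.conj_smul_le_iff] at hle
  refine ⟨k⁻¹, inv_mem hk, fun x hx => ?_⟩
  have h1 : k * (g⁻¹ * x * g⁻¹⁻¹) * k⁻¹ ∈ T := hle _ (Tech.conj_mem_cj.2 hx)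
  have h2 : k * (g⁻¹ * x * g⁻¹⁻¹) * k⁻¹ * x⁻¹ ∈ N := by
    have e : k * (g⁻¹ * x * g⁻¹⁻¹) * k⁻¹ * x⁻¹ = k * (g⁻¹ * (x * g * x⁻¹)) * (x * k⁻¹ * x⁻¹) := by group
    rw [e]
    exact mul_mem (mul_mem hk (hg x hx)) (Tech.conj_mem_of_mem_normalizer (hTN hx) (inv_mem hk))
  have h3 : k * (g⁻¹ * x * g⁻¹⁻¹) * k⁻¹ * x⁻¹ ∈ N ⊓ T := ⟨h2, T.mul_mem h1 (T.inv_mem hx)⟩
  rw [Coprime.inf_eq_bot_of_coprime' (UFP.coprime_of_odd hN hodd), mem_bot, mul_inv_eq_one] at h3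
  show g * k⁻¹ * x = x * (g * k⁻¹)
  nth_rewrite 1 [← h3]
  group

/-- the tower lemma -/
theorem tow {P Zh : Subgroup G} {t : G} (hP : IsPGroup 2 P) (t2 : t * t = 1) (tP : t ∈ normalizer (P : Set G))
    (tZ : t ∈ normalizer (Zh : Set G)) (hle : Zh ≤ P) (hc : ∀ x ∈ P, Commute x t → x ∈ Zh)
    (hi : ∀ z ∈ Zh, t * z * (t * z) = 1 → ∃ y ∈ Zh, y * t * y⁻¹ = t * z) : P = Zh := by
  have : Fact (Nat.Prime 2) := ⟨Nat.prime_two⟩
  by_contra hne
  obtain ⟨x, xP, xZ, xn⟩ := Tech.exists_mem_normalizer_of_lt hP (lt_of_le_of_ne hle (Ne.symm hne))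
  have ti : t⁻¹ = t := inv_eq_of_mul_eq_one_right t2
  have ht : IsPGroup 2 (zpowers t) := Tech.isPGroup_zpowers_of_pow (k := 1) (by rw [pow_one, sq, t2])
  have hS0 : IsPGroup 2 (P ⊔ zpowers t : Subgroup G) := by
    rw [sup_comm]
    exact IsPGroup.to_sup_of_normal_right' ht hP (zpowers_le.2 tP)
  have hS : IsPGroup 2 ((P ⊔ zpowers t) ⊓ normalizer (Zh : Set G) : Subgroup G) := hS0.to_inf_left
  have key : P ⊓ normalizer (Zh : Set G) ≤ Zh := by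
    refine U3S.mem_of_fus (T := centralizer {t}) hS t2 ⟨mem_sup_right (mem_zpowers t), tZ⟩
      (le_inf hle le_normalizer) (inf_le_inf_right _ le_sup_left) ?_ ?_ ?_ hi ?_
    · intro s hs y hy
      exact Tech.conj_mem_of_mem_normalizer hs.2 hy
    · intro c hc
      refine ⟨?_, mul_mem (mul_mem tZ hc.2) tZ⟩
      have := Tech.conj_mem_of_mem_normalizer tP hc.1
      rwa [ti] at this
    · intro s _ hs
      exact UFP.mem_cent1.2 hs.symm
    · intro c hc hcT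
      exact ‹∀ x ∈ P, Commute x t → x ∈ Zh› c hc.1 (UFP.mem_cent1.1 hcT).symm
  exact xZ (key ⟨xP, xn⟩)

/-- a central 2-subgroup which satisfies the tower condition has an odd complement -/
theorem exists_odd_compl {N Zh : Subgroup G} {t : G} (hZ : IsPGroup 2 Zh) (t2 : t * t = 1)
    (tN : t ∈ normalizer (N : Set G)) (tZ : t ∈ normalizer (Zh : Set G)) (hle : Zh ≤ N)
    (hcen : ∀ z ∈ Zh, ∀ x ∈ N, Commute z x) (hc : ∀ x ∈ N, T2 x → Commute x t → x ∈ Zh)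
    (hi : ∀ z ∈ Zh, t * z * (t * z) = 1 → ∃ y ∈ Zh, y * t * y⁻¹ = t * z) :
    ∃ W : Subgroup G, Odd (Nat.card W) ∧ ∀ g, g ∈ W ↔ g ∈ N ∧ Odd (orderOf g) := by
  have : Fact (Nat.Prime 2) := ⟨Nat.prime_two⟩
  have ht : IsPGroup 2 (zpowers t) := Tech.isPGroup_zpowers_of_pow (k := 1) (by rw [pow_one, sq, t2])
  have hS0 : IsPGroup 2 (Zh ⊔ zpowers t : Subgroup G) := by
    rw [sup_comm]
    exact IsPGroup.to_sup_of_normal_right' ht hZ (zpowers_le.2 tZ)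
  obtain ⟨S, hS, hle'⟩ := Tech.exists_isSylowIn_ge hS0 (sup_le_sup_right hle (zpowers t))
  have hn : N ⊔ zpowers t ≤ normalizer (N : Set G) := sup_le le_normalizer (zpowers_le.2 tN)
  have hP := hS.inf_of_le_normalizer hn
  rw [inf_eq_right.2 (le_sup_left : N ≤ N ⊔ zpowers t)] at hP
  have tS : t ∈ S := hle' (mem_sup_right (mem_zpowers t))
  have tP : t ∈ normalizer ((S ⊓ N : Subgroup G) : Set G) := Tech.mem_normalizer_of_forall fun x hx =>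
    ⟨S.mul_mem (S.mul_mem tS hx.1) (S.inv_mem tS), Tech.conj_mem_of_mem_normalizer tN hx.2⟩
  have e : S ⊓ N = Zh := tow hP.pgroup t2 tP tZ (le_inf (le_sup_left.trans hle') hle)
    (fun x hx hxt => hc x hx.2 (T2.of_mem hP.pgroup hx) hxt) hi
  rw [e] at hP
  obtain ⟨W, hW⟩ := Ward.exists_compl hP (fun n hn _ y hy => (hcen y hy n hn).eq)
  have hW' : ∀ g, g ∈ W ↔ g ∈ N ∧ Odd (orderOf g) := fun g => by rw [hW, Nat.coprime_two_right]
  exact ⟨W, gen_odd_card fun x hx => ((hW' x).1 hx).2, hW'⟩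

end CfsgLib.RF4
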