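import Mathlib
import Cfsg.Agent.Lib.RF4.Gen
import Cfsg.Agent.Lib.RF4.Fld
import Cfsg.Agent.Lib.F42.Inv
import Cfsg.Agent.Lib.F42.Braid
import Cfsg.Agent.Lib.F42.Tits

set_option autoImplicit false
set_option Elab.async false
set_option linter.unusedSectionVars false

namespace CfsgLib.RF4

open Subgroup CfsgLib.F42
open scoped commutatorElement

/-! # Facts on `U` and `C` (package KU) -/

variable {K : Type*} [Field K] [Finite K] {G : Type*} [Group G] [Finite G] {σ : K →+* K} {sz : Sz K}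

section
variable (O : OC σ sz G) {p : Fin 12 → K}

theorem ku_8 (h : Commute (O.nf p) (O.g 8 1)) : p 0 = 0 := by
  have := O.charP
  replace h := h.eq
  simp only [OC.nf, nfg, O.col] at h
  have := O.nf_inj h
  grind

theorem ku_6 (h0 : p 0 = 0) (h : Commute (O.nf p) (O.g 6 1)) : p 1 = 0 ∧ p 10 = 0 := by
  have := O.charP
  replace h := h.eq
  simp only [OC.nf, nfg, O.col] at h
  have := O.nf_inj h
  grind

theorem ku_3 (h10 : p 10 = 0) (h : Commute (O.nf p) (O.g 3 1)) : p 7 = 0 ∧ p 11 = 0 := by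
  have := O.charP
  replace h := h.eq
  simp only [OC.nf, nfg, O.col] at h
  have := O.nf_inj h
  simp only [h10, O.col] at this
  grind

theorem ku_9 (h0 : p 0 = 0) (h1 : p 1 = 0) (h : Commute (O.nf p) (O.g 9 1)) : p 2 = 0 ∧ p 4 = 0 := by
  have := O.charP
  replace h := h.eq
  simp only [OC.nf, nfg, O.col] at h
  have := O.nf_inj h
  simp only [h0, h1, O.col] at this
  grind

theorem ku_7 (h0 : p 0 = 0) (h4 : p 4 = 0) (h : Commute (O.nf p) (O.g 7 1)) : p 3 = 0 := by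
  have := O.charP
  replace h := h.eq
  simp only [OC.nf, nfg, O.col] at h
  have := O.nf_inj h
  simp only [h0, h4, O.col] at this
  grind

theorem ku_4 (h0 : p 0 = 0) (h1 : p 1 = 0) (h7 : p 7 = 0) (h9 : p 9 = 0) {s : K}
    (h : Commute (O.nf p) (O.g 4 s)) : p 4 * σ s = s * σ (p 4) := by
  have := O.charP
  replace h := h.eq
  simp only [OC.nf, nfg, O.col] at h
  have := O.nf_inj h
  simp only [h0, h1, h7, h9, O.col] at this
  grind

theorem ku_z {x y : G} (h : ⁅x, y⁆ ∈ O.Z) : ∃ a, x * y = O.g 5 a * y * x := by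
  obtain ⟨a, e⟩ := O.mem_Z.1 h
  exact ⟨a, by rw [← e, commutatorElement_def, inv_mul_cancel_right, inv_mul_cancel_right]⟩

theorem ku_3' (h10 : p 10 = 0) (h : ⁅O.nf p, O.g 3 1⁆ ∈ O.Z) : p 11 = 0 := by
  have := O.charP
  obtain ⟨a, h⟩ := ku_z O h
  simp only [OC.nf, nfg, O.col] at h
  have := O.nf_inj h
  simp only [h10, O.col] at this
  grind

theorem ku_4' (h0 : p 0 = 0) (h1 : p 1 = 0) (h10 : p 10 = 0) (h : ⁅O.nf p, O.g 4 1⁆ ∈ O.Z) :
    p 7 = 0 ∧ p 9 = 0 := by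
  have := O.charP
  obtain ⟨a, h⟩ := ku_z O h
  simp only [OC.nf, nfg, O.col] at h
  have := O.nf_inj h
  simp only [h0, h1, h10, O.col] at this
  grind

theorem ku_E (h : ∀ j ∈ ([2, 3, 6, 8] : List (Fin 12)), Commute (O.nf p) (O.g j 1)) :
    p 0 = 0 ∧ p 1 = 0 ∧ p 7 = 0 ∧ p 9 = 0 ∧ p 10 = 0 ∧ p 11 = 0 := by
  have h0 := ku_8 O (h 8 (by decide))
  obtain ⟨h1, h10⟩ := ku_6 O h0 (h 6 (by decide))
  obtain ⟨h7, h11⟩ := ku_3 O h10 (h 3 (by decide))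
  exact ⟨h0, h1, h7, (O.coord h10 h11).2.2.2 (h 2 (by decide)), h10, h11⟩

end

section
variable (O : OC σ sz G) (hq : Big K) {u : G} (hu : u ∈ O.U)
include hu

theorem cU_R (h : ∀ x ∈ O.R, Commute u x) : u ∈ O.V := by
  have h0 : O.g 8 1 ∈ O.V := O.g_mem (by decide) 1
  exact O.center_R (O.cent_V (O.U_le_C hu) h0 O.z6_not_mem (h _ (O.g_mem (by decide) 1))) h

theorem cU_Q (h : ∀ x ∈ O.Q, Commute u x) : u ∈ O.Z := O.cent_Q (O.U_le_C hu) h

include hq in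
theorem cU_Ph (h : ∀ x ∈ O.Ph, Commute u x) : u ∈ O.E := by
  obtain ⟨p, rfl⟩ := O.mem_U.1 hu
  obtain ⟨h0, h1, h7, h9, h10, h11⟩ := ku_E O fun j hj => h _ (O.g_mem (by revert j; decide) 1)
  have h4 : p 4 = 0 := by
    by_contra h4
    obtain ⟨s, s0, s1⟩ := hq
    have e1 := ku_4 O h0 h1 h7 h9 (h _ (O.g_mem (j := 4) (by decide) 1))
    have e2 := ku_4 O h0 h1 h7 h9 (h _ (O.g_mem (j := 4) (by decide) s))
    rw [map_one, mul_one, one_mul] at e1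
    rw [← e1, mul_comm s] at e2
    rcases O.fix_sig (mul_left_cancel₀ h4 e2) with h | h
    exacts [s0 h, s1 h]
  exact O.nf_mem_of fun j hj => by fin_cases j <;> first | exact absurd (by decide) hj | assumption

theorem ku_X6 (h : ∀ x ∈ O.pat X6, Commute u x) : u ∈ O.E2 := by
  obtain ⟨p, rfl⟩ := O.mem_U.1 hu
  obtain ⟨h0, h1, h7, h9, h10, h11⟩ := ku_E O fun j hj => h _ (O.g_mem (by revert j; decide) 1)
  obtain ⟨h2, h4⟩ := ku_9 O h0 h1 (h _ (O.g_mem (by decide) 1))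
  have h3 := ku_7 O h0 h4 (h _ (O.g_mem (by decide) 1))
  exact O.nf_mem_of fun j hj => by fin_cases j <;> first | exact absurd (by decide) hj | assumption

theorem cU_X7 (h : ∀ x ∈ O.pat X7, Commute u x) : u ∈ O.E2 := ku_X6 O hu fun x hx => h x (O.pat_mono (by decide) hx)

theorem cU_X6 (h : ∀ x ∈ O.pat X6, Commute u x) : u ∈ O.E2 := ku_X6 O hu h

theorem cU_E3 (h : ∀ x ∈ O.pat E3, Commute u x) : u ∈ O.pat E3 := by
  obtain ⟨p, rfl⟩ := O.mem_U.1 hu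
  have h0 := ku_8 O (h _ (O.g_mem (by decide) 1))
  obtain ⟨h1, h10⟩ := ku_6 O h0 (h _ (O.g_mem (by decide) 1))
  obtain ⟨h7, h11⟩ := ku_3 O h10 (h _ (O.g_mem (by decide) 1))
  obtain ⟨h2, h4⟩ := ku_9 O h0 h1 (h _ (O.g_mem (by decide) 1))
  exact O.nf_mem_of fun j hj => by fin_cases j <;> first | exact absurd (by decide) hj | assumption

theorem cU_E (h : ∀ x ∈ O.E, Commute u x) : u ∈ O.Ph := by
  obtain ⟨p, rfl⟩ := O.mem_U.1 hu
  obtain ⟨h0, h1, h7, h9, h10, h11⟩ := ku_E O fun j hj => h _ (O.g_mem (by revert j; decide) 1)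
  exact O.nf_mem_of fun j hj => by fin_cases j <;> first | exact absurd (by decide) hj | assumption

omit hu in
theorem ku_E2 {x : G} : x ∈ O.E2 ↔ ∃ a b c, x = O.g 5 a * (O.g 6 b * O.g 8 c) := by
  refine ⟨fun hx => ?_, ?_⟩
  · obtain ⟨q, hq, rfl⟩ := (O.mem_pat (by decide)).1 hx
    exact ⟨q 5, q 6, q 8, by simp (disch := decide) only [OC.nf, nfg, hq, O.g_zero, one_mul, mul_one]⟩
  · rintro ⟨a, b, c, rfl⟩
    repeat' first | exact O.g_mem (by decide) _ | apply mul_mem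

omit hu in
theorem ku_Z {x : G} (hx : x ∈ O.E2) (h0 : Commute x (O.g 0 1)) (h1 : Commute x (O.g 1 1)) : x ∈ O.Z := by
  have := O.charP
  obtain ⟨a, b, c, rfl⟩ := (ku_E2 O).1 hx
  replace h0 := h0.eq
  replace h1 := h1.eq
  simp only [O.col, mul_right_inj, mul_left_inj] at h0 h1
  have e0 := O.g_inj 5 h0
  have e1 := O.g_inj 5 h1
  obtain rfl : c = 0 := by grind
  obtain rfl : b = 0 := by grind
  rw [O.g_zero, O.g_zero, mul_one, mul_one]
  exact O.g_mem (by decide) _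

theorem cU_Y4 (h : ∀ x ∈ O.pat Y4, Commute u x) : u ∈ O.Z := ku_Z O (ku_X6 O hu fun x hx => h x (O.pat_mono (by decide) hx))
  (h _ (O.g_mem (by decide) 1)) (h _ (O.g_mem (by decide) 1))

theorem cU_E2 (h : ∀ x ∈ O.E2, Commute u x) (h' : ∀ x ∈ O.Ph, ⁅u, x⁆ ∈ O.Z) : u ∈ O.Ph := by
  obtain ⟨p, rfl⟩ := O.mem_U.1 hu
  have h0 := ku_8 O (h _ (O.g_mem (by decide) 1))
  obtain ⟨h1, h10⟩ := ku_6 O h0 (h _ (O.g_mem (by decide) 1))
  have h11 := ku_3' O h10 (h' _ (O.g_mem (by decide) 1))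
  obtain ⟨h7, h9⟩ := ku_4' O h0 h1 h10 (h' _ (O.g_mem (by decide) 1))
  exact O.nf_mem_of fun j hj => by fin_cases j <;> first | exact absurd (by decide) hj | assumption

end

theorem mem_E2_iff (O : OC σ sz G) {x : G} : x ∈ O.E2 ↔ ∃ a b c, x = O.g 5 a * (O.g 6 b * O.g 8 c) := ku_E2 O

theorem mem_E_iff (O : OC σ sz G) {x : G} :
    x ∈ O.E ↔ ∃ a b c d e, x = O.g 2 a * (O.g 3 b * (O.g 5 c * (O.g 6 d * O.g 8 e))) := by
  refine ⟨fun hx => ?_, ?_⟩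
  · obtain ⟨q, hq, rfl⟩ := (O.mem_pat (by decide)).1 hx
    exact ⟨q 2, q 3, q 5, q 6, q 8, by simp (disch := decide) only [OC.nf, nfg, hq, O.g_zero, one_mul, mul_one]⟩
  · rintro ⟨a, b, c, d, e, rfl⟩
    repeat' first | exact O.g_mem (by decide) _ | apply mul_mem

theorem mem_single (O : OC σ sz G) {j : Fin 12} (hj : j ∈ JH) {x : G} : x ∈ O.pat [j] ↔ ∃ a, x = O.g j a := by
  rw [O.mem_cons (S := []) (by revert j; decide), O.pat_nil]
  simp only [mem_bot, exists_eq_left, mul_one]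

theorem E2_inj (O : OC σ sz G) {a b c a' b' c' : K}
    (h : O.g 5 a * (O.g 6 b * O.g 8 c) = O.g 5 a' * (O.g 6 b' * O.g 8 c')) : a = a' ∧ b = b' ∧ c = c' := by
  have := O.nf_inj (a0 := 0) (a1 := 0) (a2 := 0) (a3 := 0) (a4 := 0) (a5 := a) (a6 := b) (a7 := 0) (a8 := c)
    (a9 := 0) (a10 := 0) (a11 := 0) (b0 := 0) (b1 := 0) (b2 := 0) (b3 := 0) (b4 := 0) (b5 := a') (b6 := b')
    (b7 := 0) (b8 := c') (b9 := 0) (b10 := 0) (b11 := 0) (by simpa only [O.g_zero, one_mul, mul_one] using h)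
  tauto

/-- an element of `E2` centralised by `x1(1)` and `y2(1)` lies in `Z` -/
theorem mem_Z_of_E2 (O : OC σ sz G) {x : G} (hx : x ∈ O.E2) (h0 : Commute x (O.g 0 1)) (h1 : Commute x (O.g 1 1)) :
    x ∈ O.Z := ku_Z O hx h0 h1

/-- a normaliser of `D3` normalises `E2` -/
theorem norm_E2_of_D3 (O : OC σ sz G) (hq : Big K) {x : G} (h : x ∈ normalizer (O.D3 : Set G)) :
    x ∈ normalizer (O.E2 : Set G) := by
  have hz : ∀ z ∈ O.pat [5, 6], x * z * x⁻¹ ∈ O.pat [5, 6] := by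
    intro z hz
    refine O.center_D3 (Tech.conj_mem_of_mem_normalizer h (O.pat_mono (by decide) hz)) fun d hd => ?_
    have h1 := (O.commute_pat (by decide) hz (Tech.conj_mem_of_mem_normalizer' h hd)).map (MulAut.conj x)
    simpa [mul_assoc] using h1
  refine Tech.mem_normalizer_of_forall fun w hw => ?_
  refine (O.z2_D3 (Tech.conj_mem_of_mem_normalizer h (O.pat_mono (by decide) hw)) fun d hd => ?_).resolve_right ?_
  · have h1 := hz _ (O.comm_mem (D := [5, 6]) (by decide) (by decide) (by decide) hw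
      (Tech.conj_mem_of_mem_normalizer' h hd))
    convert h1 using 1
    simp only [commutatorElement_def]
    group
  · rintro ⟨h2, -⟩
    obtain ⟨s, s0, s1⟩ := hq
    exact (h2 s).elim s0 s1

theorem card_U (O : OC σ sz G) : Nat.card O.U = Nat.card K ^ 12 := O.card_pat (by decide) (by decide)

/-- fixed points of a torus element -/
theorem cent_h (O : OT σ sz G) {α β : Kˣ} {S : List (Fin 12)} (hS : ∀ j, j ∉ S → chi σ j α β ≠ 1) {u : G}
    (hu : u ∈ O.U) (h : Commute u (O.h (α, β))) : u ∈ O.pat S := by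
  obtain ⟨p, rfl⟩ := O.mem_U.1 hu
  have h1 : O.nf (fun j => chi σ j α β * p j) = O.nf p := by
    rw [← mul_inv_cancel_right (O.nf p) (O.h (α, β)), h.eq]
    simp only [OC.nf, nfg, ← O.h_g, conj_mul]
  exact O.nf_mem_of fun j hj => by_contra fun k => hS j hj
    (mul_right_cancel₀ k ((congrFun (O.inj h1) j).trans (one_mul _).symm))

theorem n1_h8 (O : OP σ sz G) (l : Kˣ) : O.n1 * O.h8 l * O.n1⁻¹ = O.h ((l * su σ l)⁻¹, l) := by
  rw [← O.h_h8, O.n1_h, mul_inv_cancel_right]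

theorem n1_h5 (O : OP σ sz G) (α : Kˣ) : O.n1 * O.h (α ^ 2, α⁻¹) * O.n1⁻¹ = (O.h (α ^ 2, α⁻¹))⁻¹ := by
  rw [O.n1_h, ← map_inv, Prod.inv_mk, inv_inv, sq, mul_inv_cancel_right]

theorem h5_n1 (O : OP σ sz G) (α : Kˣ) : O.h (α ^ 2, α⁻¹) * O.n1 =
    O.g 0 α * (O.n1 * O.g 0 (α : K)⁻¹ * O.n1⁻¹) * O.g 0 α := by
  have e := O.n1_a
  have e1 : O.n1 = O.g 0 1 * (O.n1 * O.g 0 1 * O.n1⁻¹) * O.g 0 1 := by
    rw [O.n1_inv, e]
    simp only [mul_assoc, O.a0, ← mul_assoc (O.g 0 1) (O.g 0 1), O.add_self, O.g_zero, one_mul, mul_one]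
  have c0 : ∀ a b : Kˣ, chi σ 0 a b = a := fun a b => by simp [chi, chiT, mon]
  have a1 := O.h_g α 1 0 1
  have a2 := O.h_g α⁻¹ (α * 1) 0 1
  rw [c0, mul_one (_ : K)] at a1 a2
  have a3 := O.n1_h α 1
  have a4 : O.h (α ^ 2, α⁻¹) = O.h (α, 1) * (O.h (α⁻¹, α * 1))⁻¹ := by
    rw [← map_inv, ← map_mul, Prod.inv_mk, Prod.mk_mul_mk, inv_inv, sq, mul_one, one_mul]
  rw [← Units.val_inv_eq_inv_val, ← a1, ← a2, a4, ← a3]
  have a5 : O.n1 * O.n1 = 1 := O.n1_sq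
  calc _ = O.h (α, 1) * O.n1 * (O.h (α, 1))⁻¹ := by group
    _ = O.h (α, 1) * (O.g 0 1 * (O.n1 * O.g 0 1 * O.n1⁻¹) * O.g 0 1) * (O.h (α, 1))⁻¹ := by rw [← e1]
    _ = O.h (α, 1) * O.g 0 1 * (O.h (α, 1))⁻¹ * ((O.n1 * O.n1) * O.h (α, 1) * O.n1⁻¹ * O.g 0 1 * O.n1 *
        (O.h (α, 1))⁻¹ * (O.n1 * O.n1)⁻¹) * (O.h (α, 1) * O.g 0 1 * (O.h (α, 1))⁻¹) := by
      rw [a5, O.n1_inv]; group
    _ = _ := by group

theorem n1_conj_x1 (O : OP σ sz G) : O.g 0 1 * O.n1 * O.g 0 1 * (O.g 0 1 * O.n1)⁻¹ = O.n1 := by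
  rw [mul_inv_rev, O.n1_inv, O.i0, mul_assoc (O.g 0 1), mul_assoc (O.g 0 1), ← mul_assoc _ O.n1, O.n1_a]
  simp only [mul_assoc, O.a0, ← mul_assoc (O.g 0 1) (O.g 0 1), O.add_self, O.g_zero, one_mul, mul_one]

/-- every torus element is a product of an element of `H8` and an element of `H6` -/
theorem h_split (O : OP σ sz G) (α β : Kˣ) : ∃ l l' : Kˣ, O.h (α, β) = O.h8 l * O.h ((l' * su σ l')⁻¹, l') ∧
    chi σ 5 α β = (l' * σ l')⁻¹ := by
  obtain ⟨s, hs⟩ := O.n_surj (chi σ 5 α β)⁻¹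
  have s0 : s ≠ 0 := by
    rintro rfl
    exact inv_ne_zero (chi_ne 5 α β) (by rw [← hs, zero_mul])
  have h5 : chi σ 5 (α * (Units.mk0 s s0 * su σ (Units.mk0 s s0))) (β * (Units.mk0 s s0)⁻¹) = 1 := by
    have h1 := chi_ne (σ := σ) 5 α β
    have h2 : σ s ≠ 0 := (map_ne_zero σ).2 s0
    rw [← mul_inv_cancel₀ h1, ← hs]
    simp [chi, chiT, mon, su_val, O.ss]
    field_simp
  obtain ⟨l, hl⟩ := O.ti_h_mem_H8 h5
  refine ⟨l, Units.mk0 s s0, ?_, ?_⟩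
  · rw [hl, ← map_mul, Prod.mk_mul_mk, mul_inv_cancel_right, inv_mul_cancel_right]
  · rw [Units.val_mk0, hs, inv_inv]

end CfsgLib.RF4
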