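import Mathlib
import Cfsg.Agent.Lib.RF4.KU
import Cfsg.Agent.Lib.F42.Cls
import Cfsg.Agent.Lib.F42.Tits

set_option autoImplicit false
set_option Elab.async false

namespace CfsgLib.RF4

open Subgroup CfsgLib.F42
open scoped commutatorElement

/-! # Facts on `L = O.G0` (package KL) -/

variable {K : Type*} [Field K] [Finite K] {G : Type*} [Group G] [Finite G] {σ : K →+* K} {sz : Sz K}

section push
variable (O : OP σ sz G) {G' : Type*} [Group G'] (φ : G →* G') (hφ : Function.Injective φ)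

omit [Finite K] [Finite G] in
theorem push_pat (S : List (Fin 12)) : (push O φ hφ).pat S = (O.pat S).map φ := by
  rw [OC.pat, OC.pat, MonoidHom.map_closure]
  congr 1
  ext x
  exact ⟨fun ⟨j, hj, t, e⟩ => ⟨_, ⟨j, hj, t, rfl⟩, e⟩, fun ⟨_, ⟨j, hj, t, rfl⟩, e⟩ => ⟨j, hj, t, e⟩⟩

omit [Finite K] [Finite G] in
theorem push_C : (push O φ hφ).C = O.C.map φ := by
  rw [OC.C, OC.C, Subgroup.map_sup, Subgroup.map_sup, MonoidHom.map_zpowers, ← push_pat O φ hφ, MonoidHom.map_range]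
  rfl

omit [Finite K] [Finite G] in
theorem push_G0 : (push O φ hφ).G0 = O.G0.map φ := by
  rw [OP.G0, OP.G0, Subgroup.map_sup, Subgroup.map_sup, MonoidHom.map_zpowers, ← push_C O φ hφ, MonoidHom.map_range]
  rfl

omit [Finite K] [Finite G] in
theorem push_braid (hb : O.Braid) : (push O φ hφ).Braid := by
  change (φ O.n1 * φ O.n8) ^ 8 = 1
  rw [← map_mul, ← map_pow, hb, map_one]

end push

omit [Finite G] in
theorem KLx.mem_map {x y : G} {P : Subgroup G} : y ∈ P.map (MulAut.conj x).toMonoidHom ↔ x⁻¹ * y * x ∈ P :=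
  Tech.mem_cj

omit [Finite G] in
/-- a nontrivial normal subgroup of a simple subgroup is everything -/
theorem KLx.simple_le {L M : Subgroup G} (hs : IsSimpleGroup L) (hn : L ≤ normalizer (M : Set G)) {x : G}
    (hx : x ∈ L) (hx' : x ∈ M) (h1 : x ≠ 1) : L ≤ M := by
  have : (M.subgroupOf L).Normal := ⟨fun a ha g => Tech.conj_mem_of_mem_normalizer (H := M) (hn g.2) ha⟩
  rcases this.eq_bot_or_eq_top with e | e
  · have h2 : (⟨x, hx⟩ : L) ∈ M.subgroupOf L := hx'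
    rw [e, mem_bot] at h2
    exact absurd (congrArg Subtype.val h2) h1
  · exact subgroupOf_eq_top.1 e

variable (O : OP σ sz G)

omit [Finite K] [Finite G] in
theorem mem_cj_pat {x y : G} {S : List (Fin 12)} : y ∈ (cj O x).pat S ↔ x⁻¹ * y * x ∈ O.pat S :=
  (iff_of_eq (congrArg (y ∈ ·) (push_pat O _ _ S))).trans KLx.mem_map

omit [Finite K] [Finite G] in
theorem mem_cj_C {x y : G} : y ∈ (cj O x).C ↔ x⁻¹ * y * x ∈ O.C :=
  (iff_of_eq (congrArg (y ∈ ·) (push_C O _ _))).trans KLx.mem_map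

omit [Finite K] [Finite G] in
theorem mem_cj_G0 {x y : G} : y ∈ (cj O x).G0 ↔ x⁻¹ * y * x ∈ O.G0 :=
  (iff_of_eq (congrArg (y ∈ ·) (push_G0 O _ _))).trans KLx.mem_map

omit [Finite K] [Finite G] in
theorem KLx.C_le : O.C ≤ O.G0 := le_sup_left.trans le_sup_left

omit [Finite K] [Finite G] in
theorem g_mem_G0 (j : Fin 12) (c : K) : O.g j c ∈ O.G0 := KLx.C_le O (O.g_mem_C j c)

omit [Finite K] [Finite G] in
theorem pat_le_G0 (S : List (Fin 12)) : O.pat S ≤ O.G0 := (O.pat_le_C S).trans (KLx.C_le O)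

omit [Finite K] [Finite G] in
theorem h_mem_G0 (x : Kˣ × Kˣ) : O.h x ∈ O.G0 := (le_sup_right.trans le_sup_left : O.H ≤ O.G0) ⟨x, rfl⟩

omit [Finite K] [Finite G] in
theorem n8_mem_G0 : O.n8 ∈ O.G0 := KLx.C_le O O.n8_mem_C

omit [Finite K] [Finite G] in
theorem G0_le {M : Subgroup G} (hg : ∀ j c, O.g j c ∈ M) (hh : ∀ x, O.h x ∈ M) (h1 : O.n1 ∈ M) (h8 : O.n8 ∈ M) :
    O.G0 ≤ M := by
  refine sup_le (sup_le (sup_le (sup_le (O.pat_le.2 fun j _ => hg j) ?_) (zpowers_le.2 h8)) ?_) (zpowers_le.2 h1)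
  · rintro _ ⟨l, rfl⟩
    exact O.h_h8 l ▸ hh _
  · rintro _ ⟨x, rfl⟩
    exact hh x

omit [Finite K] [Finite G] in
theorem KLx.t2 (j : Fin 12) (c : K) : T2 (O.g j c) := ⟨2, O.g_pow_four j c⟩

omit [Finite K] [Finite G] in
theorem KLx.τ_eq : ⁅O.g 8 1, O.g 0 1⁆ = O.τ := by simp only [commutatorElement_def, O.col]

omit [Finite K] [Finite G] in
theorem KLx.six_eq (c : K) : ⁅O.g 7 c, O.g 4 1⁆ = O.g 6 c := by simp only [commutatorElement_def, O.col]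

/-- a normaliser of `D3` maps `τ` into `Z` -/
theorem KLx.norm_D3 {n : G} (h7 : n ∈ normalizer (O.D3 : Set G)) : n * O.τ * n⁻¹ ∈ O.Z := by
  have h8 : ∀ d ∈ O.D3, ∃ z ∈ O.Z, ⁅n * O.g 8 1 * n⁻¹, d⁆ = n * z * n⁻¹ := fun d hd =>
    ⟨_, O.comm_mem (A := [8]) (by decide) (by decide) (by decide) (O.g_mem (j := 8) (by decide) 1)
      (Tech.conj_mem_of_mem_normalizer' h7 hd), by simp only [commutatorElement_def]; group⟩
  rcases O.z2_D3 (Tech.conj_mem_of_mem_normalizer h7 (O.g_mem (j := 8) (by decide) 1)) fun d hd => by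
    obtain ⟨z, hz, e⟩ := h8 d hd
    refine e ▸ O.center_D3 (Tech.conj_mem_of_mem_normalizer h7 (O.pat_mono (by decide) hz)) fun e he => ?_
    simpa [mul_assoc] using
      ((O.C_cent_Z (O.pat_le_C _ (Tech.conj_mem_of_mem_normalizer' h7 he)) hz).conj n).symm
    with h9 | ⟨h9, h10⟩
  · have h10 : ⁅n * O.g 8 1 * n⁻¹, n * O.g 0 1 * n⁻¹⁆ ∈ O.Z := O.comm_mem (by decide) (by decide)
      (by decide) h9 (Tech.conj_mem_of_mem_normalizer h7 (O.g_mem (by decide) 1))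
    rwa [← conjugate_commutatorElement, KLx.τ_eq] at h10
  · obtain ⟨z, hz, e⟩ := h8 _ (O.g_mem (j := 9) (by decide) 1)
    obtain ⟨s, rfl⟩ := O.mem_Z.1 hz
    rw [h10] at e
    rcases h9 s with rfl | rfl
    · exact absurd (by simpa [O.g_zero] using e) O.τ_ne
    · exact e ▸ O.τ_mem

variable (hb : O.Braid)
include hb

theorem mem_C_of {l : G} (hl : l ∈ O.G0) (h : Commute l O.τ) : l ∈ O.C :=
  O.cent_τ hb ▸ mem_inf.2 ⟨hl, mem_centralizer_singleton_iff.2 h.eq⟩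

theorem mem_R_of {l : G} (hl : l ∈ O.G0) (h : Commute l O.τ) (h' : Commute l (O.g 8 1)) : l ∈ O.R :=
  O.cent_V (mem_C_of O hb hl h) (O.g_mem (by decide) 1) O.z6_not_mem h'

theorem eq_one_of_cent {l : G} (hl : l ∈ O.G0) (h : ∀ x ∈ O.G0, Commute l x) : l = 1 := by
  have h1 : l ∈ O.Z := O.cent_Q (mem_C_of O hb hl (h _ (g_mem_G0 O 5 1))) fun y hy => h y (pat_le_G0 O _ hy)
  have h2 := (O.n1_conj (S := [5]) (by decide)).1 h1
  rw [(h _ O.n1_mem_G0).symm.mul_inv_cancel] at h2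
  exact O.inf_one (by decide) (by decide) (by decide) h1 h2

theorem conj_U {P : Subgroup G} (hP : IsPGroup 2 P) (h0 : P ≤ O.G0) : ∃ l ∈ O.G0, ∀ x ∈ P, l * x * l⁻¹ ∈ O.U := by
  obtain ⟨l, hl, h⟩ := (Tech.isSylowIn_of_maximal (O.isPGroup_pat _) (pat_le_G0 O _)
    fun R hR h1 h2 => (O.syl_G0 hb hR h2 h1).le).exists_cj_le hP h0
  exact ⟨l, hl, Tech.cj_le_iff.1 h⟩

theorem inv_L {x : G} (hx : x ∈ O.G0) (h2 : x * x = 1) (h1 : x ≠ 1) : O.CG O.τ x ∨ O.CG (O.g 6 1) x := by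
  obtain ⟨l, hl, e⟩ := conj_U O hb (P := zpowers x)
    (Tech.isPGroup_zpowers_of_pow (k := 1) (by rw [pow_one, sq, h2])) (zpowers_le.2 hx)
  have k : O.CG (l * x * l⁻¹) x := OP.CG.symm ⟨l, hl, rfl⟩
  exact (O.inv_C (O.U_le_C (e x (mem_zpowers x))) (by rw [conj_mul, h2]; simp) (by simpa using h1)).imp
    (fun h => OP.CG.trans h k) fun h => OP.CG.trans h k

theorem cb_L : CB O.G0 := by
  intro x hx h2
  by_cases h1 : x = 1
  · exact ⟨1, one_mem _, 1, one_mem _, T2.one, T2.one, .one_left _, .one_left _, by simp [h1]⟩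
  have key : ∀ {j k : Fin 12} {z : G}, Commute (O.g j 1) z → Commute (O.g k 1) z → ⁅O.g j 1, O.g k 1⁆ = z →
      O.CG z x → ∃ a ∈ O.G0, ∃ b ∈ O.G0, T2 a ∧ T2 b ∧ Commute a x ∧ Commute b x ∧ x = ⁅a, b⁆ := by
    rintro j k z h3 h4 h5 ⟨y, hy, rfl⟩
    have m : ∀ j, y * O.g j 1 * y⁻¹ ∈ O.G0 := fun j => mul_mem (mul_mem hy (g_mem_G0 O j 1)) (inv_mem hy)
    exact ⟨_, m j, _, m k, (KLx.t2 O j 1).conj y, (KLx.t2 O k 1).conj y, h3.conj y, h4.conj y, by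
      rw [← conjugate_commutatorElement, h5]⟩
  rcases inv_L O hb hx h2 h1 with h | h
  · exact key (O.C_cent_Z (O.g_mem_C _ _) O.τ_mem) (O.C_cent_Z (O.g_mem_C _ _) O.τ_mem) (KLx.τ_eq O) h
  · exact key (O.r6_7 1 1) (O.r4_6 1 1).symm (KLx.six_eq O 1) h

/-- a 2-element of `L` which maps `τ` into `Z` lies in `C` -/
theorem KLx.two_mem_C {n : G} (hn : n ∈ O.G0) (h2 : T2 n) (h : n * O.τ * n⁻¹ ∈ O.Z) : n ∈ O.C := by
  obtain ⟨_, ⟨⟨α, β⟩, rfl⟩, e⟩ := O.ti_conj_Z h (by simpa using O.τ_ne)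
  have hc : (O.h (α, β))⁻¹ * n ∈ O.C := mem_C_of O hb (mul_mem (inv_mem (h_mem_G0 O _)) hn) (by
    rw [Commute, SemiconjBy, ← mul_inv_eq_iff_eq_mul]
    calc _ = (O.h (α, β))⁻¹ * (n * O.τ * n⁻¹) * O.h (α, β) := by group
      _ = _ := by rw [← e]; group)
  have h3 : ∀ s, n * O.g 5 s * n⁻¹ = O.g 5 (chi σ 5 α β * s) := fun s => by
    rw [← O.h_g, ← (O.C_cent_Z hc (O.g_mem (by decide) s)).mul_inv_cancel]
    conv_lhs => rw [(O.C_cent_Z hc (O.g_mem (by decide) s)).mul_inv_cancel]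
    group
  have h4 : ∀ k : ℕ, n ^ k * O.τ * (n ^ k)⁻¹ = O.g 5 (chi σ 5 α β ^ k) := fun k => by
    induction k with
    | zero => simp
    | succ k ih => rw [pow_succ', pow_succ', ← h3, ← ih]; group
  obtain ⟨k, hk⟩ := h2
  have h5 := h4 (2 ^ k)
  rw [hk, one_mul, inv_one, mul_one] at h5
  have := O.charP
  have h6 : (chi σ 5 α β - 1) ^ 2 ^ k = 0 := by rw [sub_pow_char_pow, ← O.g_inj 5 h5, one_pow, sub_self]
  refine mem_C_of O hb hn (mul_inv_eq_iff_eq_mul.1 ?_)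
  rw [h3, sub_eq_zero.1 (pow_eq_zero_iff (by positivity) |>.1 h6), one_mul]

theorem KLx.syl_D3 : Tech.IsSylowIn 2 O.D3 (O.G0 ⊓ centralizer {O.g 6 1}) := by
  refine Tech.isSylowIn_of_maximal (O.isPGroup_pat _) (le_inf (pat_le_G0 O _) fun y hy =>
    mem_centralizer_singleton_iff.2 ((O.cent6 one_ne_zero (O.pat_le_C _ hy)).2 hy)) fun R hR h1 h2 => ?_
  by_contra hne
  obtain ⟨n, h5, h6, h7⟩ := Tech.exists_mem_normalizer_of_lt hR (lt_of_le_not_ge h1 hne)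
  exact h6 ((O.cent6 one_ne_zero (KLx.two_mem_C O hb (h2 h5).1 (T2.of_mem hR h5) (KLx.norm_D3 O h7))).1
    (mem_centralizer_singleton_iff.1 (h2 h5).2))

theorem not_cg : ¬ O.CG O.τ (O.g 6 1) := by
  rintro ⟨x, hx, h⟩
  have := (KLx.syl_D3 O hb).card_le (Tech.isPGroup_cj x (O.isPGroup_pat all12)) (Tech.cj_le_iff.2 fun y hy =>
    mem_inf.2 ⟨mul_mem (mul_mem hx (pat_le_G0 O _ hy)) (inv_mem hx),
      mem_centralizer_singleton_iff.2 (h ▸ (O.C_cent_Z (O.U_le_C hy) O.τ_mem).conj x)⟩)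
  rw [Tech.card_cj] at this
  exact this.not_gt (O.fus_card (by decide) (by decide) (by decide) (by decide) (by decide))

/-- `D3` is a Sylow 2-subgroup of `C_L(x5(1))` -/
theorem conj_D3 {P : Subgroup G} (hP : IsPGroup 2 P) (h0 : P ≤ O.G0) (h : ∀ x ∈ P, Commute x (O.g 6 1)) :
    ∃ l ∈ O.G0, Commute l (O.g 6 1) ∧ ∀ x ∈ P, l * x * l⁻¹ ∈ O.D3 := by
  obtain ⟨l, hl, e⟩ := (KLx.syl_D3 O hb).exists_cj_le hP
    (le_inf h0 fun x hx => mem_centralizer_singleton_iff.2 (h x hx))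
  exact ⟨l, hl.1, mem_centralizer_singleton_iff.1 hl.2, Tech.cj_le_iff.1 e⟩

omit hb in
theorem KLx.n1_mem {N : Subgroup G} (h0 : O.g 0 1 ∈ N) (h1 : O.n1 ∈ normalizer (N : Set G)) : O.n1 ∈ N := by
  have := mul_mem (mul_mem (inv_mem h0) (Tech.conj_mem_of_mem_normalizer h1 h0)) (inv_mem h0)
  rwa [O.n1_inv, O.n1_a, show ∀ a b : G, a⁻¹ * (a * b * a) * a⁻¹ = b from fun a b => by group] at this

omit hb in
theorem perf_M (hq : Big K) : O.D3 ⊔ zpowers O.n1 ≤ ⁅O.D3 ⊔ zpowers O.n1, O.D3 ⊔ zpowers O.n1⁆ := by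
  set M := O.D3 ⊔ zpowers O.n1 with hM
  have hD : O.D3 ≤ M := le_sup_left
  have h1 : O.n1 ∈ M := mem_sup_right (mem_zpowers _)
  have hn : M ≤ normalizer (↑⁅M, M⁆ : Set G) := fun x hx => norm_commutator (le_normalizer hx) (le_normalizer hx)
  obtain ⟨α, hα⟩ := hq.unit
  have h5 : O.h (α ^ 2, α⁻¹) ∈ M := by
    have m := fun s => hD (O.g_mem (j := 0) (by decide) s)
    rw [eq_mul_inv_of_mul_eq (h5_n1 O α)]
    exact mul_mem (mul_mem (mul_mem (m _) (mul_mem (mul_mem h1 (m _)) (inv_mem h1))) (m _)) (inv_mem h1)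
  have key : ∀ (D : List (Fin 12)), O.pat D ≤ ⁅M, M⁆ → ∀ j ∈ ([0, 2, 3, 4, 5, 6, 7, 8, 9, 11] : List (Fin 12)),
      j ≠ 6 → (∀ i ∈ cm j j, i ∈ D) → ∀ c, O.g j c ∈ ⁅M, M⁆ := fun D hD' j hj h6 hc c => by
    have hx := chi_H5_ne O.toOC hα h6
    have hx' : chi σ j (α ^ 2) α⁻¹ + 1 ≠ 0 := fun e => hx (O.add_eq_zero.1 e)
    obtain ⟨s, rfl⟩ : ∃ s, c = chi σ j (α ^ 2) α⁻¹ * s + s := ⟨c / (chi σ j (α ^ 2) α⁻¹ + 1), by field_simp⟩
    obtain ⟨d, hd, e⟩ := O.add' hc (chi σ j (α ^ 2) α⁻¹ * s + s) s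
    rw [add_assoc, O.add_self, add_zero, ← O.h_g] at e
    have m := hD (O.g_mem hj s)
    have := mul_mem (commutator_mem_commutator h5 m) (Tech.conj_mem_of_mem_normalizer (hn m) (hD' hd))
    rwa [eq_mul_inv_of_mul_eq e, show ∀ a b d : G, a * b * a⁻¹ * d * b⁻¹ = ⁅a, b⁆ * (b * d * b⁻¹) from
      fun a b d => by rw [commutatorElement_def]; group]
  have k0 := key [] (O.pat_nil ▸ bot_le)
  have k1 := key [5, 8] (O.pat_le.2 (by
    simp only [List.mem_cons, List.not_mem_nil, or_false, forall_eq_or_imp, forall_eq]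
    exact ⟨k0 5 (by decide) (by decide) (by decide), k0 8 (by decide) (by decide) (by decide)⟩))
  refine sup_le (O.pat_le.2 fun j hj c => ?_) (zpowers_le.2 (KLx.n1_mem O (k0 0 (by decide) (by decide)
    (by decide) 1) (hn h1)))
  by_cases h6 : j = 6
  · rw [h6, ← KLx.six_eq]
    exact commutator_mem_commutator (hD (O.g_mem (by decide) _)) (hD (O.g_mem (by decide) _))
  · exact k1 j hj h6 (by revert j; decide) c

theorem KLx.c_vz (i : ZMod 8) (c : K) : O.n1 * O.n8 * vz O i c * (O.n1 * O.n8)⁻¹ = vz O (1 + i) c := by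
  rw [vz, vz, O.cz_add hb, O.cz_one]
  generalize (O.n1 * O.n8) ^ i.val = r
  group

theorem KLx.n8_vz (i : ZMod 8) (c : K) : O.n8 * vz O i c * O.n8⁻¹ = vz O (-i) c := by
  have e : O.n8 * (O.n1 * O.n8) ^ i.val * O.n8⁻¹ = ((O.n1 * O.n8) ^ i.val)⁻¹ := by
    rw [← conj_pow, O.n8_c, inv_pow]
  rw [vz, vz, O.cz_neg hb]
  conv_rhs => rw [← e, show O.g 5 c = O.n8 * O.g 5 c * O.n8⁻¹ from (O.n8_g 5 (by decide) c).symm]
  generalize (O.n1 * O.n8) ^ i.val = r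
  group

omit hb in
theorem KLx.vz_mem (i : ZMod 8) (c : K) : vz O i c ∈ O.G0 :=
  have m := pow_mem (mul_mem O.n1_mem_G0 (n8_mem_G0 O)) i.val
  mul_mem (mul_mem m (g_mem_G0 O 5 c)) (inv_mem m)

theorem gen_vz (hq : Big K) (hs : IsSimpleGroup O.G0) : closure {x | ∃ i c, vz O i c = x} = O.G0 := by
  set M := closure {x | ∃ i c, vz O i c = x} with hM
  have mv : ∀ i c, vz O i c ∈ M := fun i c => subset_closure ⟨i, c, rfl⟩
  have nrm : ∀ x : G, (∀ i c, ∃ i' c', x * vz O i c * x⁻¹ = vz O i' c') → x ∈ normalizer (M : Set G) :=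
    fun x h => Tech.mem_normalizer_of_forall fun y hy =>
      (closure_le (K := M.comap (MulAut.conj x).toMonoidHom)).2 (by
        rintro _ ⟨i, c, rfl⟩
        obtain ⟨i', c', e⟩ := h i c
        exact (e ▸ mv i' c' : x * vz O i c * x⁻¹ ∈ M)) hy
  have n8 := nrm O.n8 fun i c => ⟨_, _, KLx.n8_vz O hb i c⟩
  have n1 : O.n1 ∈ normalizer (M : Set G) := by
    simpa using mul_mem (nrm _ fun i c => ⟨_, _, KLx.c_vz O hb i c⟩) (inv_mem n8)
  have nh : ∀ x, O.h x ∈ normalizer (M : Set G) := fun x => nrm _ fun i c => by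
    obtain ⟨⟨α, β⟩, e⟩ := Tech.conj_mem_of_mem_normalizer' (pow_mem (mul_mem (O.ns_H false) (O.ns_H true)) i.val)
      (⟨x, rfl⟩ : O.h x ∈ O.H)
    refine ⟨i, chi σ 5 α β * c, ?_⟩
    rw [vz, vz, ← O.h_g, e]
    simp only [OP.ns, if_true, if_false, Bool.false_eq_true]
    group
  have s1 : ∀ j, 0 < j → (∀ c, O.g j c ∈ M) → ∀ c, O.g (p1 j) c ∈ M := fun j hj h c =>
    O.n1_g j hj c ▸ Tech.conj_mem_of_mem_normalizer n1 (h c)
  have s8 : ∀ j, j < 10 → (∀ c, O.g j c ∈ M) → ∀ c, O.g (p8 j) c ∈ M := fun j hj h c =>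
    O.n8_g j hj c ▸ Tech.conj_mem_of_mem_normalizer n8 (h c)
  have g5 : ∀ c, O.g 5 c ∈ M := fun c => by simpa [vz] using mv 0 c
  have g8 : ∀ c, O.g 8 c ∈ M := s1 5 (by decide) g5
  have g2 : ∀ c, O.g 2 c ∈ M := s8 8 (by decide) g8
  have g11 : ∀ c, O.g 11 c ∈ M := s1 2 (by decide) g2
  have g6 : ∀ c, O.g 6 c ∈ M := fun c => by
    have := mul_mem (g11 1) (g2 c)
    rwa [O.r2_11, mul_mem_cancel_left (g2 _), mul_mem_cancel_left (g5 _),
      mul_mem_cancel_right (mul_mem (g8 _) (g11 _)), mul_one] at this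
  have g3 : ∀ c, O.g 3 c ∈ M := s8 6 (by decide) g6
  have g9 : ∀ c, O.g 9 c ∈ M := s1 3 (by decide) g3
  have g0 : ∀ c, O.g 0 c ∈ M := s8 9 (by decide) g9
  have g47 : ∀ t u, O.g 4 (σ t * u) * O.g 7 (t * u) ∈ M := fun t u => by
    have := mul_mem (g11 u) (g0 t)
    rwa [O.r0_11, mul_mem_cancel_left (g0 _), mul_mem_cancel_left (g2 _), mul_mem_cancel_left (g3 _),
      ← mul_assoc (O.g 6 _), ← O.r6_7, mul_assoc (O.g 7 _), ← mul_assoc (O.g 5 _), ← O.r5_7, mul_assoc (O.g 7 _),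
      ← mul_assoc,
      mul_mem_cancel_right (mul_mem (g5 _) (mul_mem (g6 _) (mul_mem (g9 _) (g11 _))))] at this
  have g4 : ∀ c, O.g 4 c ∈ M := fun c => by
    obtain ⟨ω, h0, h1⟩ := hq
    have h2 : ω + σ ω ≠ 0 := fun e => (O.fix_sig (O.add_eq_zero.1 e).symm).elim h0 h1
    have := mul_mem (g47 1 (ω * (c / (ω + σ ω)))) (inv_mem (g47 ω (c / (ω + σ ω))))
    rwa [one_mul, mul_inv_rev, mul_assoc, mul_inv_cancel_left, O.i4, ← mul_assoc, O.a4,
      mul_mem_cancel_right (g5 _), mul_mem_cancel_right (g5 _), map_one, one_mul, ← add_mul,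
      mul_div_cancel₀ _ h2] at this
  have g7 : ∀ c, O.g 7 c ∈ M := s1 4 (by decide) g4
  have g1 : ∀ c, O.g 1 c ∈ M := s8 7 (by decide) g7
  have g10 : ∀ c, O.g 10 c ∈ M := s1 1 (by decide) g1
  refine le_antisymm ((closure_le _).2 ?_) (KLx.simple_le hs (G0_le O (fun j c => le_normalizer ?_) nh n1 n8)
    (g_mem_G0 O 5 1) (g5 1) O.τ_ne)
  · rintro _ ⟨i, c, rfl⟩
    exact KLx.vz_mem O i c
  · fin_cases j
    exacts [g0 c, g1 c, g2 c, g3 c, g4 c, g5 c, g6 c, g7 c, g8 c, g9 c, g10 c, g11 c]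

set_option linter.unusedSectionVars false in
theorem perf_G0 (hs : IsSimpleGroup O.G0) : O.G0 ≤ ⁅O.G0, O.G0⁆ :=
  KLx.simple_le hs (fun _ hx => norm_commutator (le_normalizer hx) (le_normalizer hx)) (x := O.τ) (g_mem_G0 O 5 1)
    (KLx.τ_eq O ▸ commutator_mem_commutator (g_mem_G0 O 8 1) (g_mem_G0 O 0 1)) O.τ_ne

end CfsgLib.RF4
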