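import Mathlib
import Cfsg.Agent.Lib.RF4.KU

set_option autoImplicit false
set_option Elab.async false
set_option linter.unusedSectionVars false

namespace CfsgLib.RF4

open Subgroup CfsgLib.F42
open scoped commutatorElement

/-! # Automorphisms of `C` (package ACT) -/

variable {K : Type*} [Field K] [Finite K] {G : Type*} [Group G] [Finite G] {σ : K →+* K} {sz : Sz K}

namespace Act

open CfsgLib.Tech

theorem cen_comm {N : Subgroup G} {x u y : G} (hx : ∀ y ∈ N, Commute x y) (hu : u ∈ normalizer (N : Set G))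
    (hy : y ∈ N) : Commute ⁅x, u⁆ y := by
  have := (hx _ (conj_mem_of_mem_normalizer' hu hy)).inv_left.conj u
  rw [show u * (u⁻¹ * y * u) * u⁻¹ = y by group] at this
  simpa [commutatorElement_def, mul_assoc] using (hx y hy).mul_left this

variable {O : OC σ sz G} {x : G} {k : Fin 12} {S T : List (Fin 12)} {a : K}

theorem lay_pow (h : O.Lay x k S a) (h2 : x ∈ normalizer (O.pat S : Set G)) (n : ℕ) : O.Lay (x ^ n) k S (a ^ n) :=
  fun t => by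
  induction n with
  | zero => exact ⟨1, one_mem _, by simp⟩
  | succ n ih =>
    obtain ⟨s, hs, e⟩ := ih
    obtain ⟨s', hs', e'⟩ := h (a ^ n * t)
    exact ⟨_, mul_mem hs' (conj_mem_of_mem_normalizer h2 hs), by
      rw [pow_succ' a, mul_assoc a, ← mul_assoc (O.g k _), ← e', conj_mul, ← e, pow_succ']; group⟩

theorem lay_one (h : O.Lay x k S a) (h2 : x ∈ normalizer (O.pat S : Set G)) (hx : T2 x)
    (hc : Cl (k :: S) (k :: S) S) (hk : k ∉ S) : O.Lay x k S 1 := by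
  obtain ⟨n, hn⟩ := hx
  have h1 := (hn ▸ lay_pow h h2 (2 ^ n)).unique (b := 1) (fun t => ⟨1, one_mem _, by simp⟩) hc hk
  have := O.charP
  obtain rfl : a = 1 := sub_eq_zero.1 (pow_eq_zero_iff (Nat.two_pow_pos n).ne' |>.1 (by rw [sub_pow_char_pow, h1]; simp))
  exact h

variable (O x) in
/-- the hypotheses on `x` -/
structure Hy : Prop where
  nC : x ∈ normalizer (O.C : Set G)
  h8 : ∀ l, Commute x (O.h8 l)
  t2 : T2 x

theorem Hy.n8 (h : Hy O x) : Hy O (O.n8 * x * O.n8⁻¹) :=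
  ⟨mul_mem (mul_mem (le_normalizer O.n8_mem_C) h.nC) (inv_mem (le_normalizer O.n8_mem_C)), fun l => by
    have := (h.h8 l).inv_right.conj O.n8
    rwa [← map_inv, O.n8_h8, map_inv, inv_inv] at this, h.t2.conj _⟩

/-- the generators below `k` in the characteristic series -/
def lo (k : Fin 12) : List (Fin 12) := ch.drop (ch.idxOf k + 1)

theorem lo_spec : ∀ k, ch.drop (ch.idxOf k) = k :: lo k ∧ Cl [k] (k :: lo k) (lo k) ∧ Cl (lo k) (lo k) (lo k) ∧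
    k ∉ lo k ∧ Cl (k :: lo k) (k :: lo k) (lo k) ∧ (k < 10 → ∀ j ∈ lo k, j < 10) ∧
      (k < 10 → Cl ((lo k).map p8) ((lo k).map p8) ((lo k).map p8)) := by decide

theorem Hy.lay (h : Hy O x) (hq : Big K) (h4 : k ≠ 4) (h5 : k ≠ 5) : O.Lay x k (lo k) 1 := by
  have hn := O.norm_chain h.nC (O.norm_U_of_H8 hq h.nC h.h8)
  obtain ⟨c1, c2, c3, c4, c5, -⟩ := lo_spec k
  obtain ⟨a, -, l⟩ := OC.exists_lay h.h8 (c1 ▸ hn _) (hn _) c2 c3 ⟨c4, h4, h5⟩
  exact lay_one l (hn _) h.t2 c5 c4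

theorem Hy.lay2 (h : Hy O x) (hq : Big K) (hc : k < 10 ∧ k ≠ 4 ∧ k ≠ 5 ∧ p8 k ≠ 4 ∧ p8 k ≠ 5 ∧ (∀ j ∈ S, j < 10) ∧
    ∀ j ∈ (lo k).map p8, j ∈ lo (p8 k) → j ∈ S.map p8) : O.Lay x k S 1 := fun t => by
  obtain ⟨c1, c2, c3, c4, c5, c6, c7⟩ := hc
  obtain ⟨s, hs, e⟩ := h.lay hq c2 c3 t
  obtain ⟨s', hs', e'⟩ := h.n8.lay hq c4 c5 t
  refine ⟨s, (O.n8_conj c6).2 (O.inf_mem ((lo_spec k).2.2.2.2.2.2 c1) (lo_spec _).2.2.1 c7
    ((O.n8_conj ((lo_spec k).2.2.2.2.2.1 c1)).1 hs) ?_), e⟩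
  rw [← O.n8_g k c1, ← O.n8_g k c1, conj_inv, conj_mul, conj_mul, e, ← conj_mul, mul_right_inj] at e'
  rwa [e']

theorem conj_h8 (h8 : ∀ l, Commute x (O.h8 l)) (l : Kˣ) (k : Fin 12) (t : K) :
    x * O.g k (wt8 σ k l * t) * x⁻¹ = O.h8 l * (x * O.g k t * x⁻¹) * (O.h8 l)⁻¹ := by
  rw [← O.h8_g, ← conj_mul, ← conj_mul, ← conj_inv, (h8 l).eq, mul_inv_cancel_right]

theorem lay0 (hq : Big K) (h8 : ∀ l, Commute x (O.h8 l)) {j : Fin 12} (h : O.Lay x k (j :: S) 1)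
    (hT : ∀ c ∈ O.pat T, Commute x c) (hc : k ≠ 4 ∧ k ≠ 5 ∧ (j = 4 ∨ j = 5) ∧ j ∉ S ∧ (∀ i ∈ cm k k, i ∈ T) ∧
      Cl all12 [j] S ∧ Cl all12 S S ∧ Cl [j] (j :: S) S ∧ Cl (j :: S) (j :: S) S) : O.Lay x k S 1 := by
  obtain ⟨c1, c2, c3, c4, c5, c6, c7, c8, c9⟩ := hc
  have h1 : ∀ t, ∃ r, ∃ d ∈ O.pat S, x * O.g k t * x⁻¹ = O.g k t * (O.g j r * d) := fun t => by
    obtain ⟨s, hs, e⟩ := h t
    obtain ⟨r, d, hd, rfl⟩ := (O.mem_cons c8).1 hs
    exact ⟨r, d, hd, by rwa [one_mul] at e⟩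
  choose ψ d hd e using h1
  have cj : ∀ u ∈ O.U, ∀ r, ∀ d ∈ O.pat S, ∃ d' ∈ O.pat S, u * (O.g j r * d) * u⁻¹ = O.g j r * d' :=
    fun u hu r d hd => by simpa [wt8_one] using O.B8_layer c6 c7 hu hd 1 r
  have h0 := na0 O hq (ψ := ψ) (fun t u => ?_) fun β t => ?_
  · exact fun t => ⟨d t, hd t, by rw [e, h0, O.g_zero, one_mul, one_mul]⟩
  · obtain ⟨c, hc, e1⟩ := O.add' c5 t u
    obtain ⟨d1, m1, e2⟩ := cj _ (inv_mem (O.g_mem_U k u)) (ψ t) _ (hd t)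
    obtain ⟨d2, m2, e3⟩ := O.add' (c9 j List.mem_cons_self j List.mem_cons_self) (ψ t) (ψ u)
    obtain ⟨d3, m3, e4⟩ := cj _ (O.pat_le_U _ hc) (ψ t + ψ u) _
      (mul_mem (mul_mem m2 (O.conj_mem c7 (inv_mem (O.g_mem_U j (ψ u))) m1)) (hd u))
    refine O.layer_inj c9 c4 (hd (t + u)) m3 ?_
    have e5 := congrArg (fun y => x * y * x⁻¹) e1
    simp only [← conj_mul, e, (hT c hc).eq, mul_inv_cancel_right] at e5
    calc _ = (O.g k (t + u))⁻¹ * (O.g k t * O.g k u * ((O.g k u)⁻¹ * (O.g j (ψ t) * d t) * (O.g k u)⁻¹⁻¹) *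
          (O.g j (ψ u) * d u)) * c⁻¹ := by
          rw [eq_mul_inv_iff_mul_eq, eq_inv_mul_iff_mul_eq, ← mul_assoc, ← e5]; group
      _ = c * (O.g j (ψ t) * O.g j (ψ u) * ((O.g j (ψ u))⁻¹ * d1 * (O.g j (ψ u))⁻¹⁻¹) * d u) * c⁻¹ := by
          rw [e1, e2]; group
      _ = _ := by rw [e3, ← e4]; group
  · obtain ⟨l, hl⟩ := O.wt8_surj c1 c2 β.ne_zero
    have e1 := conj_h8 h8 l k t
    have hw : wt8 σ j l = 1 := by rcases c3 with rfl | rfl <;> simp [wt8, mon, w8T]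
    simp only [e, ← conj_mul, O.h8_g, hl, hw, one_mul, mul_right_inj] at e1
    exact O.layer_inj c9 c4 (hd _) (conj_mem_of_mem_normalizer (O.h8_norm S ⟨l, rfl⟩) (hd t)) e1

theorem cen_of_lay (h : ∀ k ∈ S, O.Lay x k [] 1) : ∀ y ∈ O.pat S, Commute x y := fun y hy =>
  (mem_centralizer_singleton_iff.1 (O.pat_le.2 (fun k hk t => mem_centralizer_singleton_iff.2 (by
    obtain ⟨s, hs, e⟩ := h k hk t
    rw [O.pat_nil, mem_bot] at hs
    rw [hs, one_mul, mul_one, mul_inv_eq_iff_eq_mul] at e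
    exact e.symm)) hy)).symm

theorem Hy.cE (h : Hy O x) (hq : Big K) : ∀ y ∈ O.E, Commute x y := cen_of_lay fun k hk => by
  by_cases h5 : k = 5
  · obtain ⟨a, b, e, -⟩ := O.scal_el h.nC (O.norm_U_of_H8 hq h.nC h.h8) h.h8
    exact h5 ▸ lay_one (a := a) (fun t => ⟨1, one_mem _, by rw [e, mul_one]⟩) (by simp [O.pat_nil]) h.t2
      (by decide) (by decide)
  · exact lay0 (T := []) (j := 5) hq h.h8 (h.lay2 hq (by revert k; decide)) (by simp [O.pat_nil]) (by revert k; decide)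

/-- the partners in the pairing `Q / Ph × E / Z → Z` -/
def st : Fin 12 → Fin 12 := ![8, 6, 0, 0, 0, 0, 0, 3, 0, 2, 0, 0]

theorem sw {p : Fin 12 → K} (hp : ∀ j, j ∉ ([2, 3, 5, 6, 8] : List (Fin 12)) → p j = 0) (hk : k ∈ [0, 1, 7, 9])
    (s : K) : O.nf p * O.g k s = O.g k s * O.nf p * O.g 5 (s * p (st k)) := by
  have := O.charP
  simp only [List.mem_cons, List.not_mem_nil, or_false] at hk
  rcases hk with rfl | rfl | rfl | rfl <;>
    simp (disch := decide) only [OC.nf, nfg, hp, st, Matrix.cons_val, O.col, mul_right_inj, mul_left_inj] <;>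
    congr 1 <;> grind

theorem nf_two {p : Fin 12 → K} (hk : k ∈ [2, 3, 6, 8]) (hp : ∀ j, j ≠ k → j ≠ 5 → p j = 0) :
    O.nf p = O.g k (p k) * O.g 5 (p 5) := by
  simp only [List.mem_cons, List.not_mem_nil, or_false] at hk
  rcases hk with rfl | rfl | rfl | rfl <;> simp (disch := decide) only [OC.nf, nfg, hp, O.col]

variable (O) in
include O in
theorem wt_ne {l : Kˣ} (hl : l ≠ 1) {k' : Fin 12} (hk : k ∈ [0, 1, 7, 9]) (hk' : k' ∈ [0, 1, 7, 9]) (h : k' ≠ p8 k) :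
    wt8 σ k l ≠ wt8 σ (st k') l := by
  have h0 := l.ne_zero
  have h0' := (map_ne_zero σ).2 h0
  have h1 : (l : K) ≠ 1 := by simpa using hl
  have h2 : (l : K) * σ l ≠ 1 := mt O.n_eq_one h1
  have h3 := fld_sig (σ := σ) h1
  have h4 := fld_sig (σ := σ) h2
  have h5 := fld_sq O h1
  have h6 := fld_sq O h2
  rw [map_mul, O.ss] at h4
  simp only [List.mem_cons, List.not_mem_nil, or_false] at hk hk'
  rcases hk with rfl | rfl | rfl | rfl <;> rcases hk' with rfl | rfl | rfl | rfl <;> first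
    | exact absurd rfl h
    | simp only [wt8, mon, w8T, st, Matrix.cons_val, map_inv₀]; intro e; field_simp at e; grind

theorem Hy.kap (h : Hy O x) (hq : Big K) : ∃ κ : Fin 12 → K, ∀ k ∈ ([0, 1, 7, 9] : List (Fin 12)), κ (p8 k) = κ k ∧
    ∀ s, ∃ r, x * O.g k s * x⁻¹ = O.g k s * (O.g (st (p8 k)) (s * κ k) * O.g 5 r) := by
  have hB : ∀ k ∈ ([0, 1, 7, 9] : List (Fin 12)), ∀ s, ∃ p, (∀ j, j ∉ ([2, 3, 5, 6, 8] : List (Fin 12)) → p j = 0) ∧
      x * O.g k s * x⁻¹ = O.g k s * O.nf p := fun k hk s => by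
    obtain ⟨d, hd, e⟩ := lay0 (j := 4) (S := [2, 3, 5, 6, 8]) hq h.h8 (h.lay2 (k := k) hq (by revert k; decide))
      (h.cE hq) (by revert k; decide) s
    obtain ⟨p, hp, rfl⟩ := (O.mem_pat (by decide)).1 hd
    exact ⟨p, hp, by rwa [one_mul] at e⟩
  choose! P hP e using hB
  have hW : ∀ k ∈ ([0, 1, 7, 9] : List (Fin 12)), ∀ l j, P k (wt8 σ k l) j = wt8 σ j l * P k 1 j := fun k hk l j => by
    have e1 := conj_h8 h.h8 l k 1
    simp only [e k hk, ← conj_mul, O.h8_g, mul_one, mul_right_inj, nfg] at e1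
    exact congrFun (O.inj (a₂ := fun j => wt8 σ j l * P k 1 j) e1) j
  have hS : ∀ k ∈ ([0, 1, 7, 9] : List (Fin 12)), ∀ k' ∈ ([0, 1, 7, 9] : List (Fin 12)), ∀ s u,
      u * P k s (st k') = s * P k' u (st k) := fun k hk k' hk' s u => by
    have m : ⁅O.g k s, O.g k' u⁆ ∈ O.E := O.comm_mem (A := [0, 1, 7, 9]) (B := [0, 1, 7, 9]) (by decide) (by decide)
      (by decide) (O.g_mem hk s) (O.g_mem hk' u)
    have e1 : x * ⁅O.g k s, O.g k' u⁆ * x⁻¹ = ⁅O.g k s, O.g k' u⁆ := mul_inv_eq_iff_eq_mul.2 (h.cE hq _ m)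
    have c : ∀ a ∈ O.E, ∀ b ∈ O.E, Commute a b := fun a ha b hb => O.commute_pat (by decide) ha hb
    have m1 := O.nf_mem_of (hP k hk s)
    have m2 := O.nf_mem_of (hP k' hk' u)
    rw [conjugate_commutatorElement, e k hk, e k' hk'] at e1
    refine O.g_inj 5 (mul_right_cancel (b := O.nf (P k s) * O.nf (P k' u)) (mul_left_cancel
      (a := O.g k s * O.g k' u) ?_))
    calc _ = O.g k s * (O.g k' u * O.nf (P k s) * O.g 5 (u * P k s (st k'))) * O.nf (P k' u) := by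
          rw [mul_assoc (O.g k' u), (c _ m1 _ (O.g_mem (j := 5) (by decide) _)).eq]; group
      _ = ⁅O.g k s * O.nf (P k s), O.g k' u * O.nf (P k' u)⁆ * O.g k' u * (O.nf (P k' u) * O.g k s) * O.nf (P k s) := by
          rw [← sw (hP k hk s) hk', commutatorElement_def]; group
      _ = _ := by
          rw [e1, sw (hP k' hk' u) hk, (c _ m1 _ m2).eq, mul_assoc (O.g k s) (O.nf _),
            (c _ m2 _ (O.g_mem (j := 5) (by decide) _)).eq, commutatorElement_def]; group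
  have p8m : ∀ k ∈ ([0, 1, 7, 9] : List (Fin 12)), p8 k ∈ ([0, 1, 7, 9] : List (Fin 12)) ∧ p8 (p8 k) = k ∧
      st (p8 k) ∈ ([2, 3, 6, 8] : List (Fin 12)) ∧ ∀ j, j ≠ st (p8 k) → j ≠ 5 → j ∉ ([2, 3, 5, 6, 8] : List (Fin 12)) ∨
        ∃ k' ∈ ([0, 1, 7, 9] : List (Fin 12)), k' ≠ p8 k ∧ st k' = j := by decide
  refine ⟨fun k => P k 1 (st (p8 k)), fun k hk => ?_⟩
  obtain ⟨c1, c2, c3, c4⟩ := p8m k hk
  have hl : ∀ k' ∈ ([0, 1, 7, 9] : List (Fin 12)), ∀ s, P k s (st k') = s * P k 1 (st k') := fun k' hk' s => by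
    rw [← one_mul (P k s _), ← one_mul (P k 1 _), hS k hk k' hk', hS k hk k' hk', one_mul]
  refine ⟨by simpa [c2] using hS _ c1 k hk 1 1, fun s => ⟨P k s 5, ?_⟩⟩
  rw [e k hk, nf_two c3 fun j h1 h2 => (c4 j h1 h2).elim (hP k hk s j) ?_, hl _ c1]
  rintro ⟨k', hk', h3, rfl⟩
  obtain ⟨l, h4⟩ := hq.unit
  rw [hl k' hk', by_contra fun n => wt_ne O h4 hk hk' h3 (mul_right_cancel₀ n ((hl k' hk' _).symm.trans (hW k hk l _))),
    mul_zero]

end Act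

open Act CfsgLib.Tech in
/-- a 2-element normalising `C` and centralising `H8` -/
theorem act1 (O : OC σ sz G) (hq : Big K) {x : G} (hC : x ∈ normalizer (O.C : Set G)) (h8 : ∀ l, Commute x (O.h8 l))
    (h2 : T2 x) : ∃ c, ∀ y ∈ O.pat Y4, Commute ((O.g 4 c)⁻¹ * x) y := by
  have h : Hy O x := ⟨hC, h8, h2⟩
  have := O.charP
  obtain ⟨κ, hκ⟩ := h.kap hq
  have cE := h.cE hq
  have k9 : κ 9 = κ 0 := (hκ 0 (by decide)).1
  have k7 : κ 7 = κ 1 := (hκ 1 (by decide)).1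
  have k0 : κ 0 = κ 1 := by
    obtain ⟨q, hq', e⟩ := h.lay hq (k := 11) (by decide) (by decide) 1
    obtain ⟨p, hp, rfl⟩ := (O.mem_pat (by decide)).1 hq'
    obtain ⟨r1, e1⟩ := (hκ 1 (by decide)).2 1
    obtain ⟨r9, e9⟩ := (hκ 9 (by decide)).2 1
    have f : ∀ j ∈ ([2, 3, 5, 6, 8] : List (Fin 12)), ∀ t, x * O.g j t * x⁻¹ = O.g j t := fun j hj t =>
      mul_inv_eq_iff_eq_mul.2 (cE _ (O.g_mem hj t))
    have e2 := congrArg (fun y => (O.g 11 1)⁻¹ * (x * y * x⁻¹) * (O.g 10 1 * O.g 11 1)) (O.r1_11 1 1)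
    simp only [one_pow, map_one, mul_one] at e e2
    simp (disch := decide) only [← conj_mul, e, e1, e9, f, inv_mul_cancel_left, mul_assoc (O.g 11 1)] at e2
    rw [show ∀ a b c d e : G, (O.g 11 1)⁻¹ * (a * (b * (c * (d * (O.g 11 1 * e))))) =
      (O.g 11 1)⁻¹ * (a * (b * (c * d))) * O.g 11 1 * e from fun _ _ _ _ _ => by group] at e2
    simp (disch := decide) only [OC.nf, nfg, hp, st, p8, Matrix.cons_val, O.col, k9] at e2
    obtain ⟨-, -, -, -, -, -, e6, -, e8, -⟩ := O.nf_inj e2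
    rw [add_eq_left.1 e6, map_zero] at e8
    grind
  have c8 : ∀ l, Commute ((O.g 4 (κ 1))⁻¹ * x) (O.h8 l) := fun l => by
    refine Commute.mul_left (Commute.inv_left (Commute.symm (mul_inv_eq_iff_eq_mul.1 ?_))) (h8 l)
    simp [O.h8_g, wt8, mon, w8T]
  have cE' : ∀ y ∈ O.E, Commute ((O.g 4 (κ 1))⁻¹ * x) y := fun y hy =>
    (O.commute_pat (A := [4]) (by decide) (inv_mem (O.g_mem (by decide) _)) hy).mul_left (cE y hy)
  refine ⟨κ 1, cen_of_lay fun k hk => ?_⟩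
  by_cases hE : k ∈ ([2, 3, 5, 6, 8] : List (Fin 12))
  · exact fun t => ⟨1, one_mem _, by rw [(cE' _ (O.g_mem hE t)).eq, mul_inv_cancel_right, one_mul, mul_one]⟩
  have hk' : k ∈ ([0, 1, 7, 9] : List (Fin 12)) := by revert k; decide
  refine lay0 (j := 5) hq c8 (fun s => ?_) cE' (by clear hk hE; revert k; decide)
  obtain ⟨r, e⟩ := (hκ k hk').2 s
  refine ⟨O.g 5 r, O.g_mem (by decide) r, ?_⟩
  rw [show ∀ a y : G, a * x * y * (a * x)⁻¹ = a * (x * y * x⁻¹) * a⁻¹ from fun _ _ => by group, e]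
  simp only [List.mem_cons, List.not_mem_nil, or_false] at hk'
  rcases hk' with rfl | rfl | rfl | rfl <;> simp only [st, p8, Matrix.cons_val, O.col, k9, k7, k0, mul_comm (κ 1) s, CharTwo.add_cancel_left]

open Act CfsgLib.Tech in
theorem act2 (O : OC σ sz G) (hq : Big K) {x : G} (hC : x ∈ normalizer (O.C : Set G)) (h8 : ∀ l, Commute x (O.h8 l))
    (hY : ∀ y ∈ O.pat Y4, Commute x y) : (∀ u ∈ O.U, ⁅x, u⁆ ∈ O.E2) ∧ ∃ γ, ∀ s,
      x * O.g 4 (σ s) * x⁻¹ = O.g 4 (σ s) * O.g 5 (γ * s) ∧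
      x * O.g 11 (σ s) * x⁻¹ = O.g 11 (σ s) * O.g 8 (γ * s) := by
  have := O.charP
  have hU := O.norm_U_of_H8 hq hC h8
  have h1 : ∀ u ∈ O.U, ⁅x, u⁆ ∈ O.E2 := fun u hu =>
    cU_X6 O (mul_mem (conj_mem_of_mem_normalizer hU hu) (inv_mem hu)) fun y hy =>
      cen_comm (fun y hy => hY y (O.pat_mono (by decide) hy)) (O.pat_norm (by decide) hu) hy
  refine ⟨h1, ?_⟩
  have h4 : ∀ s, ∃ r, x * O.g 4 s * x⁻¹ = O.g 4 s * O.g 5 r := fun s => by
    obtain ⟨l, hl⟩ := hq.unit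
    have m := h1 _ (O.g_mem_U 4 s)
    have c : Commute (O.g 4 s) (O.h8 l) := Commute.symm (mul_inv_eq_iff_eq_mul.1 (by simp [O.h8_g, wt8, mon, w8T]))
    obtain ⟨r, e⟩ := O.mem_Z.1 (O.inf_mem (by decide) (by decide) (by decide) m (O.cent_h8 hl (O.pat_le_U _ m)
      ((((h8 l).mul_left c).mul_left (h8 l).inv_left).mul_left c.inv_left)))
    exact ⟨r, by rw [← O.r4_5, ← e, commutatorElement_def]; group⟩
  have h11 : ∀ v, ∃ r, x * O.g 11 v * x⁻¹ = O.g 11 v * O.g 8 r := fun v => by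
    obtain ⟨s, rfl⟩ := O.n_surj v
    obtain ⟨a, b, c, e⟩ := (mem_E2_iff O).1 (h1 _ (O.g_mem_U 10 s))
    rw [commutatorElement_def, mul_inv_eq_iff_eq_mul] at e
    refine ⟨b * s, ?_⟩
    rw [show O.g 11 (s * σ s) = O.g 10 s * O.g 10 s by simp only [O.col], ← conj_mul, e]
    simp only [O.col, CharTwo.add_cancel_left, add_comm (b * s) c]
  choose β' e4 using h4
  choose β e11 using h11
  have f : ∀ j ∈ Y4, ∀ t, x * O.g j t * x⁻¹ = O.g j t := fun j hj t => mul_inv_eq_iff_eq_mul.2 (hY _ (O.g_mem hj t))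
  have key : ∀ t u, β' (σ t * u) = t * β u := fun t u => by
    have e := congrArg (fun y => x * y * x⁻¹) (O.r0_11 t u)
    simp (disch := decide) only [← conj_mul, e4, e11, f] at e
    simp only [O.col, mul_right_inj, mul_left_inj] at e
    have := O.g_inj 5 e
    grind
  refine ⟨β 1, fun s => ?_⟩
  have k1 := key s 1
  have k2 := key 1 (σ s)
  rw [map_one, one_mul, one_mul] at k2
  rw [mul_one, mul_comm] at k1
  rw [e4, e11, ← k2, k1]
  exact ⟨rfl, rfl⟩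

open Act CfsgLib.Tech in
theorem act3 (O : OC σ sz G) (hq : Big K) {x : G} (hC : x ∈ normalizer (O.C : Set G))
    (hQ : ∀ y ∈ O.Q, Commute x y) : ∀ y ∈ O.C, Commute x y := by
  have h1 : ∀ c ∈ O.C, ∀ d ∈ O.C, Commute d ⁅x, c⁆ := fun c hc d hd => O.C_cent_Z hd (O.cent_Q
    (mul_mem (conj_mem_of_mem_normalizer hC hc) (inv_mem hc)) fun y hy => cen_comm hQ (O.C_norm_Q hc) hy)
  intro y hy
  refine (mem_centralizer_singleton_iff.1 (commutator_le.2 (fun a ha b hb => mem_centralizer_singleton_iff.2 ?_)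
    (O.perfect hq ▸ hy))).symm
  refine (mul_inv_eq_iff_eq_mul.1 ?_).symm
  have e : ∀ c, x * c * x⁻¹ = ⁅x, c⁆ * c := fun c => by rw [commutatorElement_def]; group
  rw [conjugate_commutatorElement, e a, e b, commutatorElement_def (_ * a), commutatorElement_def a]
  have m : ⁅x, b⁆ ∈ O.C := mul_mem (conj_mem_of_mem_normalizer hC hb) (inv_mem hb)
  calc _ = ⁅x, a⁆ * (a * (⁅x, b⁆ * b) * a⁻¹) * ⁅x, a⁆⁻¹ * (⁅x, b⁆ * b)⁻¹ := by group
    _ = a * (⁅x, b⁆ * b) * a⁻¹ * (⁅x, b⁆ * b)⁻¹ := by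
      rw [← (h1 a ha _ (mul_mem (mul_mem ha (mul_mem m hb)) (inv_mem ha))).eq, mul_inv_cancel_right]
    _ = ⁅x, b⁆ * (a * b * a⁻¹ * b⁻¹) * ⁅x, b⁆⁻¹ := by rw [← mul_assoc a, (h1 b hb a ha).eq]; group
    _ = _ := by rw [← (h1 b hb _ (mul_mem (mul_mem (mul_mem ha hb) (inv_mem ha)) (inv_mem hb))).eq, mul_inv_cancel_right]

end CfsgLib.RF4
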