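import Mathlib
import Cfsg.Agent.Lib.RF4.KL
import Cfsg.Agent.Lib.HX.AutA

set_option autoImplicit false
set_option Elab.async false
set_option linter.unusedSectionVars false

namespace CfsgLib.RF4

open Subgroup CfsgLib.F42
open scoped commutatorElement

/-! # The centraliser of `t` (package BAS) -/

variable {K : Type*} [Field K] [Finite K] {G : Type*} [Group G] [Finite G] {σ : K →+* K} {sz : Sz K} {O : OP σ sz G} {t : G}

theorem bas_comm {L : Subgroup G} {l k l' k' : G} (hl : l ∈ L) (hk : k ∈ centralizer (L : Set G)) (hl' : l' ∈ L)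
    (hk' : k' ∈ centralizer (L : Set G)) : ⁅l * k, l' * k'⁆ = ⁅l, l'⁆ * ⁅k, k'⁆ := by
  have m : ∀ {l k l' k' : G}, k ∈ centralizer (L : Set G) → l' ∈ L → l * k * (l' * k') = l * l' * (k * k') :=
    fun hk hl' => (show Commute _ _ from (hk _ hl').symm).mul_mul_mul_comm _ _
  have i : ∀ {l k : G}, k ∈ centralizer (L : Set G) → l ∈ L → (l * k)⁻¹ = l⁻¹ * k⁻¹ :=
    fun hk hl => by rw [hk _ hl, mul_inv_rev]
  simp only [commutatorElement_def]
  rw [i hk hl, i hk' hl', m hk hl', m (mul_mem hk hk') (inv_mem hl),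
    m (mul_mem (mul_mem hk hk') (inv_mem hk)) (inv_mem hl')]

theorem bas_inf (h : Sit0 O t) {x : G} (h1 : x ∈ O.G0) (h2 : x ∈ centralizer (O.G0 : Set G)) : x = 1 :=
  eq_one_of_cent O h.braid h1 fun y hy => (h2 y hy).symm

theorem bas_two (h : Sit0 O t) {P : Subgroup G} (hP : IsPGroup 2 P) (ht : t ∈ normalizer (P : Set G)) :
    IsPGroup 2 ((P ⊔ zpowers t) ⊓ O.G0 : Subgroup G) := by
  have : Fact (Nat.Prime 2) := ⟨Nat.prime_two⟩
  rw [sup_comm]
  exact (IsPGroup.to_sup_of_normal_right' (Tech.isPGroup_zpowers_of_pow (k := 1) (by rw [pow_one, sq, h.t2])) hP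
    (zpowers_le.2 ht)).to_inf_left

theorem bas_inv (h : Sit0 O t) {k : G} (hk : k ∈ centralizer (O.G0 : Set G)) (hc : Commute k t) (h2 : k * k = 1) :
    k = 1 ∨ k = t := by
  classical
  have : Fact (Nat.Prime 2) := ⟨Nat.prime_two⟩
  have z : ∀ {x : G}, x * x = 1 → IsPGroup 2 (zpowers x) := fun e =>
    Tech.isPGroup_zpowers_of_pow (k := 1) (by rw [pow_one, sq, e])
  have := h.cyc (zpowers k ⊔ zpowers t) (sup_le (zpowers_le.2 hk) (zpowers_le.2 fun y hy => (h.tC y hy).symm))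
    (IsPGroup.to_sup_of_normal_right' (z h2) (z h.t2) (zpowers_le.2 (Tech.mem_normalizer_of_forall fun y ⟨n, e⟩ => by
      rw [← e, (hc.zpow_right n).eq, mul_inv_cancel_right]; exact ⟨n, rfl⟩)))
  have := Fintype.ofFinite (zpowers k ⊔ zpowers t : Subgroup G)
  by_contra! n
  have h3 := (Finset.card_le_card (s := {1, ⟨k, mem_sup_left (mem_zpowers k)⟩, ⟨t, mem_sup_right (mem_zpowers t)⟩})
    fun x hx => ?_).trans (IsCyclic.card_pow_eq_one_le (α := (zpowers k ⊔ zpowers t : Subgroup G)) two_pos)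
  · rw [Finset.card_eq_three.2 ⟨_, _, _, by simpa [Subtype.ext_iff] using n.1.symm,
      by simpa [Subtype.ext_iff] using h.t1.symm, by simpa using n.2, rfl⟩] at h3
    omega
  · simp only [Finset.mem_insert, Finset.mem_singleton] at hx
    rcases hx with rfl | rfl | rfl <;> simp [Subtype.ext_iff, sq, h2, h.t2]

theorem bas_nocomm (h : Sit0 O t) {a b : G} (ha : T2 a) (hb : T2 b) (ha' : Commute a t) (hb' : Commute b t) :
    t ≠ ⁅a, b⁆ := fun e => by
  obtain ⟨W, -, h1, -, -, -, h3⟩ := HX.Nrm.exists_compl _ h.cyc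
  obtain ⟨l, hl, k, hk, rfl⟩ := h.split a (h.CN a ha') ha
  obtain ⟨l', hl', k', hk', rfl⟩ := h.split b (h.CN b hb') hb
  rw [bas_comm hl hk hl' hk'] at e
  have m := (h1 _).1 (h3 (commutator_mem_commutator hk hk'))
  rw [bas_inf h (commutator_le_self _ (commutator_mem_commutator hl hl')) (by
    rw [eq_mul_inv_of_mul_eq e.symm]; exact mul_mem (fun y hy => (h.tC y hy).symm) (inv_mem m.1)), one_mul] at e
  exact h.t1 ((T2.of_sq h.t2).eq_one (e ▸ m.2))

theorem bas_fix {X : Subgroup G} {g x : G} (ho : Odd (orderOf g)) (hx : x ∈ normalizer (X : Set G))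
    (hg : ∀ y ∈ X, Commute g y) (hd : (∀ y ∈ X, Commute (x⁻¹ * (g * x * g⁻¹)) y) →
      Commute g (x⁻¹ * (g * x * g⁻¹)) ∧ T2 (x⁻¹ * (g * x * g⁻¹))) : Commute g x := by
  obtain ⟨h1, h2⟩ := hd fun y hy => by
    have := (hg _ (Tech.conj_mem_of_mem_normalizer hx hy)).map (MulAut.conj x⁻¹)
    simpa [mul_assoc] using (show Commute (x⁻¹ * g * x) y by simpa [mul_assoc] using this).mul_left (hg y hy).inv_left
  exact odd_fix ho (mul_inv_cancel_left _ _).symm h1 h2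

theorem bas_cen (h : Sit O t) {p : G → Prop} {X : Subgroup G} (pm : ∀ a b, p a → p b → p (a * b)) (p1 : p 1) (pt : p t)
    (pv : ∀ a, p a → Commute a O.τ ∧ Commute a (O.g 8 1)) (pU : ∀ u ∈ O.U, p u → u ∈ X)
    (po : ∀ o, Odd (orderOf o) → Commute o t → p o → Od O t o) {g : G} (gt : Commute g t) (hg : p g) :
    ∃ l ∈ X, ∃ o, Od O t o ∧ (g = l * o ∨ g = t * l * o) := by
  have pp : ∀ n : ℕ, p (g ^ n) := fun n => by
    induction n with
    | zero => rwa [pow_zero]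
    | succ n ih => exact pow_succ g n ▸ pm _ _ ih hg
  have m : ∀ l ∈ O.G0, p l → l ∈ X := fun l hl k =>
    pU l (O.pat_le_U _ (mem_R_of O h.braid hl (pv l k).1 (pv l k).2)) k
  obtain ⟨m', k, -, h2, a, b, ho, e⟩ := exists_split g
  have od := po _ ho (gt.pow_left _) (pp _)
  rcases h.two (g ^ (m' * a)) (gt.pow_left _) (pow_mul g m' a ▸ h2.pow a) with k | k
  · exact ⟨_, m _ k (pp _), _, od, .inl e⟩
  · exact ⟨_, m _ k (pm _ _ pt (pp _)), _, od, .inr (by rw [← mul_assoc t, h.t2, one_mul]; exact e)⟩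

namespace Sit0

variable (h : Sit0 O t)
include h

theorem conj (x : G) : Sit0 (cj O x) (x * t * x⁻¹) := by
  have e : (cj O x).G0 = Tech.cj x O.G0 := push_G0 O _ _
  have c : ∀ {y}, Commute y (x * t * x⁻¹) ↔ Commute (x⁻¹ * y * x) t := fun {y} =>
    ⟨fun k => by simpa [mul_assoc] using k.map (MulAut.conj x⁻¹), fun k => by simpa [mul_assoc] using k.map (MulAut.conj x)⟩
  have := h.simple
  refine ⟨h.big, push_braid O _ _ h.braid, e ▸ (Tech.cjEquiv x O.G0).symm.isSimpleGroup, by rw [conj_mul, h.t2]; simp,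
    by simpa using h.t1, fun y hy => (c.2 (h.tC _ ((mem_cj_G0 O).1 hy)).symm).symm, fun g hg => ?_, fun g hg g2 => ?_,
    fun P hP p2 => ?_⟩
  · rw [e, ← Tech.cj_normalizer]
    exact Tech.mem_cj.2 (h.CN _ (c.1 hg))
  · rw [e, ← Tech.cj_normalizer] at hg
    obtain ⟨l, hl, k, hk, e1⟩ := h.split _ (Tech.mem_cj.1 hg) (by simpa using g2.conj x⁻¹)
    rw [e, ← Tech.cj_centralizer]
    exact ⟨_, Tech.conj_mem_cj.2 hl, _, Tech.conj_mem_cj.2 hk, by rw [conj_mul, ← e1]; group⟩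
  · rw [e, ← Tech.cj_centralizer] at hP
    have := h.cyc (Tech.cj x⁻¹ P) (Tech.cj_le_iff.2 fun y hy => by simpa using Tech.mem_cj.1 (hP hy))
      (Tech.isPGroup_cj _ p2)
    exact isCyclic_of_surjective _ (Tech.cjEquiv x⁻¹ P).symm.surjective

theorem t_not_mem : t ∉ O.G0 := fun e => h.t1 (eq_one_of_cent O h.braid e h.tC)

theorem t_inv : t⁻¹ = t := inv_eq_of_mul_eq_one_right h.t2

theorem tg (j : Fin 12) (c : K) : Commute t (O.g j c) := h.tC _ (g_mem_G0 O j c)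

/-- no conjugate of `t` is a commutator of 2-elements of its centraliser -/
theorem nocomm {g a b : G} (ha : T2 a) (hb : T2 b) (ha' : Commute a (g * t * g⁻¹)) (hb' : Commute b (g * t * g⁻¹)) :
    g * t * g⁻¹ ≠ ⁅a, b⁆ := bas_nocomm (h.conj g) ha hb ha' hb'

theorem not_mem_of_cb {X : Subgroup G} (hX : CB X) (g : G) : g * t * g⁻¹ ∉ X := fun e => by
  obtain ⟨a, -, b, -, ha, hb, ha', hb', e⟩ := hX _ e (h.conj g).t2
  exact h.nocomm ha hb ha' hb' e

theorem le_of_perf {M : Subgroup G} (hN : M ≤ normalizer (O.G0 : Set G)) (hp : M ≤ ⁅M, M⁆)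
    (h2 : ∀ P : Subgroup G, (∀ x ∈ M, T2 x → x ∈ P) → M ≤ P) : M ≤ O.G0 := by
  obtain ⟨W, -, h1, -, -, -, h3⟩ := HX.Nrm.exists_compl _ h.cyc
  have n : ∀ {B}, B ≤ centralizer (O.G0 : Set G) → B ≤ normalizer (O.G0 : Set G) := fun hB =>
    hB.trans (centralizer_le_normalizer _)
  have W1 : W ≤ centralizer (O.G0 : Set G) := fun w hw => ((h1 w).1 hw).1
  have m1 : M ≤ O.G0 ⊔ centralizer (O.G0 : Set G) := h2 _ fun x hx x2 => by
    obtain ⟨l, hl, k, hk, rfl⟩ := h.split x (hN hx) x2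
    exact mul_mem_sup hl hk
  have m2 : M ≤ O.G0 ⊔ W := hp.trans (commutator_le.2 fun a ha b hb => by
    obtain ⟨l, hl, k, hk, rfl⟩ := (Core.mem_sup_of_le_normalizer_left (n le_rfl)).1 (m1 ha)
    obtain ⟨l', hl', k', hk', rfl⟩ := (Core.mem_sup_of_le_normalizer_left (n le_rfl)).1 (m1 hb)
    rw [bas_comm hl hk hl' hk']
    exact mul_mem_sup (commutator_le_self _ (commutator_mem_commutator hl hl')) (h3 (commutator_mem_commutator hk hk')))
  refine h2 _ fun x hx ⟨n', x2⟩ => ?_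
  obtain ⟨l, hl, k, hk, rfl⟩ := (Core.mem_sup_of_le_normalizer_left (n W1)).1 (m2 hx)
  rw [(show Commute l k from W1 hk l hl).mul_pow, mul_eq_one_iff_inv_eq] at x2
  have := bas_inf h (x2 ▸ inv_mem (pow_mem hl _)) (pow_mem (W1 hk) _)
  rwa [HX.Nrm.eq_one_of_odd ((h1 k).1 hk).2 this, mul_one]

theorem inv_dec {s : G} (hs : Commute s t) (h2 : s * s = 1) : s ∈ O.G0 ∨ t * s ∈ O.G0 := by
  obtain ⟨l, hl, k, hk, rfl⟩ := h.split s (h.CN s hs) (.of_sq h2)
  have c : Commute l k := hk l hl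
  rw [c.symm.mul_mul_mul_comm, mul_eq_one_iff_inv_eq] at h2
  rcases bas_inv h hk (by simpa using (h.tC l hl).symm.inv_left.mul_left hs)
    (bas_inf h (h2 ▸ inv_mem (mul_mem hl hl)) (mul_mem hk hk)) with rfl | rfl
  · exact .inl (by rwa [mul_one])
  · exact .inr (by rwa [c.eq, ← mul_assoc, h.t2, one_mul])

/-- a 2-element of `C(L) ∩ C(t)` other than `1`, `t` gives a square root of `t` -/
theorem exists_root {k : G} (hk : k ∈ centralizer (O.G0 : Set G)) (hc : Commute k t) (h2 : T2 k) :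
    k = 1 ∨ k = t ∨ ∃ r ∈ centralizer (O.G0 : Set G), r * r = t := by
  obtain ⟨n, hn⟩ := h2
  induction n generalizing k with
  | zero => exact .inl (by simpa using hn)
  | succ n ih =>
    rcases ih (mul_mem hk hk) (hc.mul_left hc) (by rw [← sq, ← pow_mul, ← pow_succ', hn]) with e | e | e
    · exact (bas_inv h hk hc e).imp_right .inl
    · exact .inr (.inr ⟨k, hk, e⟩)
    · exact .inr (.inr e)

theorem od_mul {a b : G} (ha : Od O t a) (hb : Od O t b) : Od O t (a * b) := by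
  obtain ⟨W, -, h1, -⟩ := HX.Nrm.exists_compl _ h.cyc
  exact ⟨fun x hx => (ha.cen x hx).mul_left (hb.cen x hx), ha.ct.mul_left hb.ct, ((h1 _).1 (mul_mem
    ((h1 a).2 ⟨fun x hx => (ha.cen x hx).symm, ha.odd⟩) ((h1 b).2 ⟨fun x hx => (hb.cen x hx).symm, hb.odd⟩))).2⟩

/-- an element of odd order centralising `t` and a self-centralising normal pattern centralises `L` -/
theorem cen_odd {S : List (Fin 12)} (hS : Cl all12 S S) (h5 : 5 ∈ S) (h8 : 8 ∈ S)
    (hc : ∀ u ∈ O.U, (∀ x ∈ O.pat S, Commute u x) → u ∈ O.pat S) {g : G} (ho : Odd (orderOf g)) (gt : Commute g t)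
    (hg : ∀ x ∈ O.pat S, Commute g x) : Od O t g := by
  have gN := h.CN g gt
  have c5 : Commute g O.τ := hg _ (O.g_mem h5 1)
  have c8 : Commute g (O.g 8 1) := hg _ (O.g_mem h8 1)
  have cc : ∀ {x y : G}, Commute g y → Commute x y → Commute (g * x * g⁻¹) y := fun a b =>
    (a.mul_left b).mul_left a.inv_left
  have gC : g ∈ normalizer (O.C : Set G) := Tech.mem_normalizer_of_forall fun c hc => mem_C_of O h.braid
    (Tech.conj_mem_of_mem_normalizer gN (O.ti_C_le_G0 hc)) (cc c5 (O.C_cent_Z hc O.τ_mem))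
  have gU : g ∈ normalizer (O.U : Set G) := O.norm_U gC fun r hr => O.pat_le_U _ (mem_R_of O h.braid
    (Tech.conj_mem_of_mem_normalizer gN (pat_le_G0 O _ hr)) (cc c5 (O.R_cent_V hr (O.g_mem (by decide) 1)))
    (cc c8 (O.R_cent_V hr (O.g_mem (by decide) 1))))
  have hU : ∀ u ∈ O.U, Commute g u := fun u hu => bas_fix ho (O.pat_norm hS hu) hg fun e =>
    have k := hc _ (mul_mem (inv_mem hu) (Tech.conj_mem_of_mem_normalizer gU hu)) e
    ⟨hg _ k, .of_mem (O.isPGroup_pat _) k⟩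
  have hR : ∀ x ∈ O.G0, x ∈ normalizer (O.R : Set G) → Commute g x := fun x hx hn =>
    bas_fix ho hn (fun y hy => hU y (O.pat_le_U _ hy)) fun e =>
      have k := mem_R_of O h.braid (mul_mem (inv_mem hx) (Tech.conj_mem_of_mem_normalizer gN hx))
        (e _ (O.g_mem (by decide) 1)) (e _ (O.g_mem (by decide) 1))
      ⟨hU _ (O.pat_le_U _ k), .of_mem (O.isPGroup_pat _) k⟩
  refine ⟨fun x hx => (mem_centralizer_singleton_iff.1 (G0_le O (M := centralizer {g}) (fun j c => ?_) (fun y => ?_)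
    ?_ ?_ hx)).symm, gt, ho⟩ <;> refine mem_centralizer_singleton_iff.2 (Commute.symm ?_)
  · exact hU _ (O.g_mem_U j c)
  · exact hR _ (h_mem_G0 O y) (O.h_norm _ ⟨y, rfl⟩)
  · exact hR _ (mem_sup_right (mem_zpowers _)) O.sw.norm
  · exact bas_fix ho (O.C_norm_Q O.n8_mem_C) (fun y hy => hU y (O.pat_le_U _ hy)) fun e =>
      have k := O.cent_Q (mul_mem (inv_mem O.n8_mem_C) (Tech.conj_mem_of_mem_normalizer gC O.n8_mem_C)) e
      ⟨hU _ (O.pat_le_U _ k), .of_mem (O.isPGroup_pat _) k⟩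

theorem od_of_R {g : G} (ho : Odd (orderOf g)) (gt : Commute g t) (hg : ∀ x ∈ O.R, Commute g x) : Od O t g := h.cen_odd (by decide) (by decide) (by decide)
  (fun _ hu e => O.pat_mono (by decide) (cU_R O.toOC hu e)) ho gt hg

theorem od_of_X6 {g : G} (ho : Odd (orderOf g)) (gt : Commute g t) (hg : ∀ x ∈ O.pat X6, Commute g x) : Od O t g := h.cen_odd (by decide) (by decide) (by decide)
  (fun _ hu e => O.pat_mono (by decide) (cU_X6 O.toOC hu e)) ho gt hg

end Sit0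

namespace Sit

variable (h : Sit O t)
include h

theorem cen {S S' : List (Fin 12)} (hS : Cl all12 S S) (h5 : 5 ∈ S) (h8 : 8 ∈ S) (hle : ∀ j ∈ S', j ∈ S)
    (hc : ∀ u ∈ O.U, (∀ x ∈ O.pat S, Commute u x) → u ∈ O.pat S') : Cen O t S S' := fun _ gt hg =>
  bas_cen h (p := fun g => ∀ x ∈ O.pat S, Commute g x) (fun _ _ ha hb x hx => (ha x hx).mul_left (hb x hx))
    (fun x _ => Commute.one_left x) (fun x hx => h.tC x (pat_le_G0 O _ hx))
    (fun _ ha => ⟨ha _ (O.g_mem h5 1), ha _ (O.g_mem h8 1)⟩) hc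
    (fun _ ho ot k => h.toSit0.cen_odd hS h5 h8 (fun u hu e => O.pat_mono hle (hc u hu e)) ho ot k) gt hg

theorem cen_R : Cen O t [1, 2, 3, 4, 5, 6, 7, 8, 9, 10, 11] [5, 8] := 
  h.cen (by decide) (by decide) (by decide) (by decide) fun _ hu => cU_R O.toOC hu

theorem cen_Q : Cen O t [0, 1, 2, 3, 4, 5, 6, 7, 8, 9] [5] := 
  h.cen (by decide) (by decide) (by decide) (by decide) fun _ hu => cU_Q O.toOC hu

theorem cen_Ph : Cen O t [2, 3, 4, 5, 6, 8] [2, 3, 5, 6, 8] := 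
  h.cen (by decide) (by decide) (by decide) (by decide) fun _ hu => cU_Ph O.toOC h.big hu

theorem cen_X7 : Cen O t X7 [5, 6, 8] := 
  h.cen (by decide) (by decide) (by decide) (by decide) fun _ hu => cU_X7 O.toOC hu

theorem cen_X6 : Cen O t X6 [5, 6, 8] := 
  h.cen (by decide) (by decide) (by decide) (by decide) fun _ hu => cU_X6 O.toOC hu

theorem cen_E3 : Cen O t E3 E3 := 
  h.cen (by decide) (by decide) (by decide) (by decide) fun _ hu => cU_E3 O.toOC hu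

theorem cen_E2 {g : G} (gt : Commute g t) (hg : ∀ x ∈ O.E2, Commute g x) (hg' : ∀ x ∈ O.Ph, ⁅g, x⁆ ∈ O.Z) :
    ∃ l ∈ O.Ph, ∃ o, Od O t o ∧ (g = l * o ∨ g = t * l * o) := by
  have cZ : ∀ {a z : G}, (∀ x ∈ O.E2, Commute a x) → z ∈ O.Z → a * z * a⁻¹ = z := fun ha hz => by
    rw [(ha _ (O.pat_mono (by decide) hz)).eq, mul_inv_cancel_right]
  refine bas_cen h (p := fun g => (∀ x ∈ O.E2, Commute g x) ∧ ∀ x ∈ O.Ph, ⁅g, x⁆ ∈ O.Z)
    (fun a b ha hb => ⟨fun x hx => (ha.1 x hx).mul_left (hb.1 x hx), fun x hx => ?_⟩)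
    ⟨fun x _ => Commute.one_left x, fun x _ => by simp⟩ ⟨fun x hx => h.tC x (pat_le_G0 O _ hx), fun x hx => ?_⟩
    (fun a ha => ⟨ha.1 _ (O.g_mem (by decide) 1), ha.1 _ (O.g_mem (by decide) 1)⟩)
    (fun u hu e => cU_E2 O.toOC hu e.1 e.2) (fun o ho ot k => h.toSit0.cen_odd (S := [2, 3, 4, 5, 6, 8]) (by decide)
      (by decide) (by decide) (fun u hu e => O.pat_mono (by decide) (cU_Ph O.toOC h.big hu e)) ho ot fun x hx => ?_)
    gt ⟨hg, hg'⟩
  · rw [show ⁅a * b, x⁆ = a * ⁅b, x⁆ * a⁻¹ * ⁅a, x⁆ by simp only [commutatorElement_def]; group, cZ ha.1 (hb.2 x hx)]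
    exact mul_mem (hb.2 x hx) (ha.2 x hx)
  · rw [(h.tC x (pat_le_G0 O _ hx)).commutator_eq]; exact one_mem _
  · refine odd_fix (s := ⁅o, x⁆) ho ?_ (k.1 _ (O.pat_mono (by decide) (k.2 x hx))) (T2.of_mem (O.isPGroup_pat _) (k.2 x hx))
    rw [(O.C_cent_Z (O.pat_le_C _ hx) (k.2 x hx)).eq, commutatorElement_def, inv_mul_cancel_right]

/-- location of an element in a group of hats -/
theorem loc {S S' : List (Fin 12)} (hcen : Cen O t S S') {Eh : Subgroup G} (h2 : ∀ e ∈ Eh, T2 e) (hle : O.pat S' ≤ Eh)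
    (hc : ∀ e ∈ Eh, ∀ x ∈ O.pat S, Commute e x) (hco : ∀ e ∈ Eh, CO O t e)
    (hs : ∀ l ∈ O.pat S', ∃ e ∈ Eh, e * t * e⁻¹ = t * l) {z : G} (hz : ¬ Commute z t) (hzo : CO O t z)
    (hzE : ∀ e ∈ Eh, Commute z e) {g : G} (g1 : ∀ x ∈ O.pat S, Commute g x) (g2 : Commute g z)
    (g3 : ∃ l ∈ O.pat S', g * t * g⁻¹ = t * l) (g4 : T2 g ∨ ∃ s, CO O t s ∧ s * g * s⁻¹ = g⁻¹) : g ∈ Eh := by
  obtain ⟨l0, hl0, e0⟩ := g3
  obtain ⟨e, he, e1⟩ := hs l0 hl0
  obtain ⟨l, hl, o, ho, k | k⟩ := hcen (e⁻¹ * g) (by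
    show _ = _
    calc e⁻¹ * g * t = e⁻¹ * (g * t * g⁻¹) * g := by group
      _ = _ := by rw [e0, ← e1]; group) fun x hx => (hc e he x hx).inv_left.mul_left (g1 x hx)
  · have m := mul_mem he (hle hl)
    obtain rfl : g = e * l * o := by rw [mul_assoc, ← k, mul_inv_cancel_left]
    have : o = 1 := by
      rcases g4 with k | ⟨s, s1, s2⟩
      · exact k.odd_eq_one (h2 _ m) (hco _ m o ho) ho.odd
      · exact odd_eq_one_of_inv (h2 _ m) (hco _ m o ho) ho.odd (s1 o ho) s2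
    rwa [this, mul_one]
  · refine absurd ?_ hz
    rw [show t = e⁻¹ * g * o⁻¹ * l⁻¹ by rw [k]; group]
    exact (((hzE e he).inv_right.mul_right g2.symm).mul_right (hzo o ho).inv_right).mul_right
      (hzE l (hle hl)).inv_right

theorem bound {P : Subgroup G} (hP : IsPGroup 2 P) {g : G} (hc : ∀ x ∈ P, Commute x (g * t * g⁻¹)) :
    Nat.card P ≤ 2 * Nat.card K ^ 12 := by
  classical
  have c : ∀ x ∈ Tech.cj g⁻¹ P, Commute x t := fun x hx => by
    simpa [mul_assoc] using (hc _ (Tech.mem_cj.1 hx)).map (MulAut.conj g⁻¹)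
  have p2 := Tech.isPGroup_cj g⁻¹ hP
  rw [← Tech.card_cj g⁻¹ P]
  generalize Tech.cj g⁻¹ P = P at c p2
  obtain ⟨l, -, hl⟩ := conj_U O h.braid (bas_two h.toSit0 p2 (Tech.mem_normalizer_of_forall fun x hx => by
    rwa [← (c x hx).eq, mul_inv_cancel_right])) inf_le_right
  rw [← card_U O.toOC, ← Nat.card_eq_fintype_card.trans Fintype.card_bool, ← Nat.card_prod]
  refine Nat.card_le_card_of_injective (fun x : P => if k : (x : G) ∈ O.G0 then
    (true, (⟨_, hl x ⟨mem_sup_left x.2, k⟩⟩ : O.U)) else (false, ⟨_, hl (t * x) ⟨mul_mem (mem_sup_right (mem_zpowers t))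
      (mem_sup_left x.2), (h.two x (c x x.2) (.of_mem p2 x.2)).resolve_left k⟩⟩)) fun x y e => ?_
  by_cases k : (x : G) ∈ O.G0 <;> by_cases k' : (y : G) ∈ O.G0 <;> simp [k, k'] at e <;> exact e

/-- a 2-group containing `U` meets `C(t)` in `U ⟨t⟩` -/
theorem mem_U {P : Subgroup G} (hP : IsPGroup 2 P) (hU : O.U ≤ P) (ht : t ∈ normalizer (P : Set G)) {x : G} (hx : x ∈ P)
    (hc : Commute x t) : x ∈ O.U ∨ t * x ∈ O.U := by
  have e := O.syl_G0 h.braid (bas_two h.toSit0 hP ht) inf_le_right (le_inf (hU.trans le_sup_left) (pat_le_G0 O _))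
  exact (h.two x hc (.of_mem hP hx)).imp (fun k => e.le ⟨mem_sup_left hx, k⟩)
    fun k => e.le ⟨mul_mem (mem_sup_right (mem_zpowers t)) (mem_sup_left hx), k⟩

end Sit

end CfsgLib.RF4
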