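import Mathlib
import Cfsg.Agent.Lib.RF4.Bas

set_option autoImplicit false
set_option Elab.async false

namespace CfsgLib.RF4

open Subgroup CfsgLib.F42
open scoped commutatorElement

/-! # A 2-element moving `t` (package EXI) -/

variable {K : Type*} [Field K] [Finite K] {G : Type*} [Group G] [Finite G] {σ : K →+* K} {sz : Sz K} {O : OP σ sz G} {t : G}

open scoped Pointwise in
/-- Frattini argument -/
theorem exists_norm_H8 (O : OC σ sz G) {g : G} (hg : g ∈ normalizer (O.C : Set G)) :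
    ∃ c ∈ O.C, c * g ∈ normalizer (O.U : Set G) ∧ c * g ∈ normalizer (O.H8 : Set G) := by
  haveI : Fact (Nat.Prime 2) := ⟨Nat.prime_two⟩
  obtain ⟨c, hc, hU⟩ := O.exists_norm_U hg
  have hC : c * g ∈ normalizer (O.C : Set G) := mul_mem (le_normalizer hc) hg
  have hA : MulAut.conj (c * g) • O.H8 ≤ O.U ⊔ O.H8 := by
    refine Coprime.conj_smul_le_iff.2 fun y hy => ?_
    have hy' : y ∈ normalizer (O.U : Set G) := O.h8_norm _ hy
    obtain ⟨l, rfl⟩ := hy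
    refine O.mem_B8_of_R (Tech.conj_mem_of_mem_normalizer hC (O.h8_mem_C l)) fun r hr => ?_
    exact Tech.conj_mem_of_mem_normalizer (mul_mem (mul_mem hU hy') (inv_mem hU)) (O.pat_le_U _ hr)
  have hP := O.isPGroup_pat [0, 1, 2, 3, 4, 5, 6, 7, 8, 9, 10, 11]
  obtain ⟨n, hn⟩ := hP.exists_card_eq
  have hcop : (Nat.card (MulAut.conj (c * g) • O.H8 : Subgroup G)).Coprime (Nat.card O.U) := by
    rw [Coprime.card_conj_smul, O.card_H8, hn]
    exact Nat.Coprime.pow_right _ (Nat.coprime_two_right.2 O.odd_units)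
  haveI := hP.isNilpotent
  obtain ⟨k, hk, e⟩ := Coprime.exists_conj_smul_eq_of_le_sup (O.h8_norm _) hA hcop (.inr inferInstance)
    (by rw [Coprime.card_conj_smul])
  refine ⟨k * c, mul_mem (O.U_le_C hk) hc, ?_, ?_⟩
  · rw [mul_assoc]; exact mul_mem (le_normalizer hk) hU
  · rw [mul_assoc, Coprime.mem_normalizer_iff_conj_smul_eq, map_mul, mul_smul, e]

omit [Finite K] [Finite G] in
theorem exi_V_inj (O : OC σ sz G) {a b a' b' : K} (h : O.g 5 a * O.g 8 b = O.g 5 a' * O.g 8 b') : b = b' := by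
  rw [← O.r5_8, ← O.r5_8] at h
  exact O.layer_inj (k := 8) (S := [5]) (by decide) (by decide) (O.g_mem (by decide) _) (O.g_mem (by decide) _) h

theorem exi_wt_inj (O : OC σ sz G) {l m : Kˣ} (h : wt8 σ 8 l = wt8 σ 8 m) : l = m := by
  by_contra hne
  have h1 : l * m⁻¹ ≠ 1 := fun e => hne (mul_inv_eq_one.1 e)
  refine O.wt8_ne_one h1 (j := 8) (by decide) (by decide) ?_
  rw [wt8_mul, h, ← wt8_mul, mul_inv_cancel, wt8_one]

theorem cent_H8_of_two (O : OC σ sz G) {x : G} (hC : x ∈ normalizer (O.C : Set G)) (hU : x ∈ normalizer (O.U : Set G))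
    (h8 : x ∈ normalizer (O.H8 : Set G)) (h2 : T2 x) (l : Kˣ) : Commute x (O.h8 l) := by
  classical
  have hV := (O.norm_R hC hU).2.2.2
  have hZ := (O.norm_QE hC).2.2.2
  have e1 : ∀ s, ∃ a b, x * O.g 8 s * x⁻¹ = O.g 5 a * O.g 8 b := fun s =>
    O.mem_V.1 (Tech.conj_mem_of_mem_normalizer hV (O.g_mem (by decide) s))
  choose f' f hf using e1
  have e2 : ∀ l, ∃ m, O.h8 m = x * O.h8 l * x⁻¹ := fun l => Tech.conj_mem_of_mem_normalizer h8 ⟨l, rfl⟩
  choose φ hφ using e2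
  have e3 : ∀ μ : K, μ ≠ 0 → ∃ l, wt8 σ 8 l = μ := fun μ hμ => O.wt8_surj (by decide) (by decide) hμ
  choose! L hL using e3
  let ψ : K → K := fun μ => if μ = 0 then 0 else wt8 σ 8 (φ (L μ))
  have hψ : ∀ l, ψ (wt8 σ 8 l) = wt8 σ 8 (φ l) := fun l => by
    have h0 := wt8_ne (σ := σ) 8 l
    simp only [ψ, if_neg h0]
    rw [exi_wt_inj O (hL _ h0)]
  have ha : ∀ a b, f (a + b) = f a + f b := fun a b => by
    refine exi_V_inj O (a := f' (a + b)) (a' := f' a + f' b) ?_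
    rw [← hf, ← O.a8, ← conj_mul, hf, hf, ← O.a5, ← O.a8, mul_assoc, mul_assoc, ← mul_assoc (O.g 8 _), O.r5_8,
      mul_assoc]
  have h1 : ∃ a, f a ≠ 0 := ⟨1, fun h0 => O.z6_not_mem ((mem_normalizer_iff.1 hZ _).2 (by
    rw [hf, h0, O.g_zero, mul_one]; exact O.g_mem (by decide) _))⟩
  have hm : ∀ μ a, f (μ * a) = ψ μ * f a := fun μ a => by
    by_cases h0 : μ = 0
    · have : f 0 = 0 := by simpa using ha 0 0
      simp [ψ, h0, this]
    obtain ⟨l, rfl⟩ := O.wt8_surj (j := 8) (by decide) (by decide) h0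
    rw [hψ]
    refine exi_V_inj O (a := f' (wt8 σ 8 l * a)) (a' := wt8 σ 5 (φ l) * f' a) ?_
    rw [← hf, ← O.h8_g, ← O.h8_g, ← O.h8_g, conj_mul, ← hf, hφ]
    group
  obtain ⟨k, hk⟩ := h2
  have hi : ∀ n l, O.h8 (φ^[n] l) = x ^ n * O.h8 l * (x ^ n)⁻¹ ∧ ψ^[n] (wt8 σ 8 l) = wt8 σ 8 (φ^[n] l) := by
    intro n l
    induction n with
    | zero => simp
    | succ n ih =>
      rw [Function.iterate_succ_apply', Function.iterate_succ_apply', hφ, ih.1, ih.2, hψ, pow_succ']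
      exact ⟨by group, rfl⟩
  have hk' : ∀ μ, ψ^[2 ^ k] μ = μ := fun μ => by
    by_cases h0 : μ = 0
    · rw [h0]; exact Function.iterate_fixed (by simp [ψ]) _
    obtain ⟨l, rfl⟩ := O.wt8_surj (j := 8) (by decide) (by decide) h0
    obtain ⟨i1, i2⟩ := hi (2 ^ k) l
    rw [hk, one_mul, inv_one, mul_one] at i1
    have : φ^[2 ^ k] l * l⁻¹ = 1 := O.h8_eq_one (by rw [map_mul, i1, map_inv, mul_inv_cancel]; exact one_mem _)
    rw [i2, mul_inv_eq_one.1 this]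
  have := semi O ha h1 hm hk' (wt8 σ 8 l)
  rw [hψ] at this
  have e := hφ l
  rw [exi_wt_inj O this] at e
  exact mul_inv_eq_iff_eq_mul.1 e.symm

theorem cent_Z_of_two (O : OC σ sz G) (hq : Big K) {x : G} (hC : x ∈ normalizer (O.C : Set G))
    (h8 : ∀ l, Commute x (O.h8 l)) (h2 : T2 x) (c : K) : Commute x (O.g 5 c) := by
  obtain ⟨a, b, ha, -⟩ := O.scal_el hC (O.norm_U_of_H8 hq hC h8) h8
  obtain ⟨k, hk⟩ := h2
  have hi : ∀ n : ℕ, x ^ n * O.g 5 1 * (x ^ n)⁻¹ = O.g 5 ((a ^ n : Kˣ) : K) := fun n => by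
    induction n with
    | zero => simp
    | succ n ih =>
      rw [pow_succ', pow_succ', Units.val_mul, ← ha, ← ih]; group
  have h1 : a ^ 2 ^ k = 1 := by
    have := hi (2 ^ k)
    rw [hk, one_mul, inv_one, mul_one] at this
    exact Units.ext (O.g_inj 5 this).symm
  have h3 : a = 1 := eq_one_of_odd (O.odd_units.of_dvd_nat (orderOf_dvd_natCard a)) ⟨k, h1⟩
  have := ha c
  rw [h3, Units.val_one, one_mul] at this
  exact mul_inv_eq_iff_eq_mul.1 this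

omit [Finite G] in
theorem exi_pow {x z : G} (hc : Commute x z) (h2 : z * z = 1) (e : x * t * x⁻¹ = t * z) {m : ℕ} (hm : Odd m) :
    x ^ m * t * (x ^ m)⁻¹ = t * z := by
  have hi : ∀ n : ℕ, x ^ n * t * (x ^ n)⁻¹ = t * z ^ n := fun n => by
    induction n with
    | zero => simp
    | succ n ih =>
      calc x ^ (n + 1) * t * (x ^ (n + 1))⁻¹ = x * (x ^ n * t * (x ^ n)⁻¹) * x⁻¹ := by rw [pow_succ']; group
        _ = x * t * x⁻¹ * (x * z ^ n * x⁻¹) := by rw [ih]; group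
        _ = t * z ^ (n + 1) := by rw [e, (hc.pow_right n).eq, pow_succ']; group
  obtain ⟨k, rfl⟩ := hm
  rw [hi, pow_succ, pow_mul, pow_two, h2, one_pow, one_mul]

theorem exi_H_norm (O : OP σ sz G) (hb : O.Braid) : O.H ≤ normalizer (O.C : Set G) := fun y hy =>
  Tech.mem_normalizer_of_forall fun c hc => by
    have hy' := O.H_le_G0 hy
    refine mem_C_of O hb (mul_mem (mul_mem hy' (O.C_le_G0 hc)) (inv_mem hy')) ?_
    have h1 := O.C_cent_Z hc (Tech.conj_mem_of_mem_normalizer' (O.h_norm [5] hy) O.τ_mem)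
    have : y * c * y⁻¹ * O.τ = y * (c * (y⁻¹ * O.τ * y)) * y⁻¹ := by group
    show y * c * y⁻¹ * O.τ = O.τ * (y * c * y⁻¹)
    rw [this, h1.eq]; group

theorem Sit0.exi_od (h : Sit0 O t) {x o : G} (hC : x ∈ normalizer (O.C : Set G)) (e : x * t * x⁻¹ = t * O.τ)
    (ho : Od O t o) : Od O t (x * o * x⁻¹) := by
  have hc : ∀ c ∈ O.C, Commute (x * o * x⁻¹) c := fun c hc => by
    have h1 := ho.cen _ (O.C_le_G0 (Tech.conj_mem_of_mem_normalizer' hC hc))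
    have : x * o * x⁻¹ * c = x * (o * (x⁻¹ * c * x)) * x⁻¹ := by group
    show x * o * x⁻¹ * c = c * (x * o * x⁻¹)
    rw [this, h1.eq]; group
  have h1 : Commute (x * o * x⁻¹) (t * O.τ) := by
    rw [← e]
    show x * o * x⁻¹ * (x * t * x⁻¹) = x * t * x⁻¹ * (x * o * x⁻¹)
    rw [conj_mul, conj_mul, ho.ct.eq]
  have h2 : Commute (x * o * x⁻¹) t := by
    have := h1.mul_right (hc _ (O.g_mem_C 5 1))
    rwa [mul_assoc t, O.τ_sq, mul_one] at this
  refine h.od_of_R ?_ h2 fun r hr => hc r (O.pat_le_C _ hr)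
  have : orderOf (x * o * x⁻¹) = orderOf o := by simpa using (MulAut.conj x).orderOf_eq o
  rw [this]; exact ho.odd

theorem Sit.exists_two (h : Sit O t) : ∃ x ∈ normalizer (O.C : Set G), T2 x ∧ (∀ l, Commute x (O.h8 l)) ∧ CO O t x ∧
    x * t * x⁻¹ = t * O.τ := by
  obtain ⟨g, hg, gτ, eg⟩ := h.fus
  obtain ⟨c, hc, hU, hH⟩ := exists_norm_H8 O.toOC hg
  have cτ : Commute c O.τ := O.C_cent_Z hc O.τ_mem
  have ct : Commute t c := h.tC c (O.C_le_G0 hc)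
  have ey : c * g * t * (c * g)⁻¹ = t * O.τ := by
    calc c * g * t * (c * g)⁻¹ = c * (g * t * g⁻¹) * c⁻¹ := by group
      _ = t * O.τ := by rw [eg, ← mul_assoc, ← ct.eq, mul_assoc t, cτ.eq]; group
  obtain ⟨m, -, hm, x2, -⟩ := exists_split (c * g)
  have ex := exi_pow (cτ.mul_left gτ) O.τ_sq ey hm
  have xC : (c * g) ^ m ∈ normalizer (O.C : Set G) := pow_mem (mul_mem (le_normalizer hc) hg) m
  have x8 := cent_H8_of_two O.toOC xC (pow_mem hU m) (pow_mem hH m) x2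
  have xZ := cent_Z_of_two O.toOC h.big xC x8 x2
  generalize (c * g) ^ m = x at ex xC x2 x8 xZ
  have ex' : x⁻¹ * t * x⁻¹⁻¹ = t * O.τ := by
    have : t = x * (t * O.τ) * x⁻¹ := by
      rw [← conj_mul, ex, (xZ 1).eq, mul_inv_cancel_right, mul_assoc, O.τ_sq, mul_one]
    conv_lhs => rw [this]
    group
  obtain ⟨a, a0, a1⟩ := h.big
  obtain ⟨α, β, hχ⟩ := chi_surj O.toOC 5 a0
  have yH : O.h (α, β) ∈ O.H := ⟨_, rfl⟩
  have yτ : O.h (α, β) * O.τ * (O.h (α, β))⁻¹ = O.g 5 a := by rw [O.h_g, hχ, mul_one]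
  generalize O.h (α, β) = y at yH yτ
  have yL := O.H_le_G0 yH
  have yt := h.tC y yL
  have yC := exi_H_norm O h.braid yH
  have wo : CO O t (x * y * x⁻¹ * y⁻¹) := by
    refine CO.mul (fun o ho => ?_) (CO.of_mem yL).inv
    have h1 := (h.exi_od (inv_mem xC) ex' ho).cen y yL
    have : x * y * x⁻¹ * o = x * (y * (x⁻¹ * o * x⁻¹⁻¹)) * x⁻¹ := by group
    show x * y * x⁻¹ * o = o * (x * y * x⁻¹)
    rw [this, ← h1.eq]; group
  have wt : x * y * x⁻¹ * y⁻¹ * t * (x * y * x⁻¹ * y⁻¹)⁻¹ = t * O.g 5 (1 + a) := by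
    calc x * y * x⁻¹ * y⁻¹ * t * (x * y * x⁻¹ * y⁻¹)⁻¹
        = x * (y * (x⁻¹ * (y⁻¹ * (t * y)) * x⁻¹⁻¹) * y⁻¹) * x⁻¹ := by group
      _ = x * (y * (t * O.τ) * y⁻¹) * x⁻¹ := by rw [yt.eq, inv_mul_cancel_left, ex']
      _ = x * (t * O.g 5 a) * x⁻¹ := by rw [← conj_mul (a := t), yτ, ← yt.eq, mul_inv_cancel_right]
      _ = t * O.g 5 (1 + a) := by
        rw [← conj_mul (a := t), ex, (xZ a).eq, mul_inv_cancel_right, mul_assoc, O.a5]
  have wZ : Commute (x * y * x⁻¹ * y⁻¹) (O.g 5 (1 + a)) := by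
    obtain ⟨b, hb⟩ := O.mem_Z.1 (Tech.conj_mem_of_mem_normalizer' (O.h_norm [5] yH) (O.g_mem (j := 5) (by decide) (1 + a)))
    have : x * y * x⁻¹ * y⁻¹ * O.g 5 (1 + a) = x * y * (x⁻¹ * (y⁻¹ * O.g 5 (1 + a) * y)) * y⁻¹ := by group
    show x * y * x⁻¹ * y⁻¹ * O.g 5 (1 + a) = O.g 5 (1 + a) * (x * y * x⁻¹ * y⁻¹)
    rw [this, hb, (xZ b).inv_left.eq, ← hb, ← mul_assoc, ← mul_assoc, ← mul_assoc, mul_inv_cancel_right, (xZ _).eq]
    group
  have w8 : ∀ l, Commute (x * y * x⁻¹ * y⁻¹) (O.h8 l) := fun l =>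
    have := O.br_comm yH (O.br_h8 l)
    (((x8 l).mul_left this).mul_left (x8 l).inv_left).mul_left this.inv_left
  have wC : x * y * x⁻¹ * y⁻¹ ∈ normalizer (O.C : Set G) := mul_mem (mul_mem (mul_mem xC yC) (inv_mem xC)) (inv_mem yC)
  generalize x * y * x⁻¹ * y⁻¹ = w at wo wt wZ w8 wC
  obtain ⟨n, -, hn, w2, -⟩ := exists_split w
  have ew := exi_pow wZ (by rw [O.a5, O.add_self, O.g_zero]) wt hn
  obtain ⟨v, hv, ev⟩ := O.ti_conj_Z (O.g_mem (S := [5]) (j := 5) (by decide) (1 + a))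
    (fun e => a1 (O.add_eq_zero.1 (O.g_eq_one.1 e)).symm)
  have vL := O.H_le_G0 hv
  have vt := h.tC v vL
  have vC := exi_H_norm O h.braid hv
  refine ⟨v⁻¹ * w ^ n * v⁻¹⁻¹, mul_mem (mul_mem (inv_mem vC) (pow_mem wC n)) (inv_mem (inv_mem vC)), w2.conj _,
    fun l => ?_, (CO.of_mem vL).inv.conj (wo.pow n), ?_⟩
  · have := O.br_comm hv (O.br_h8 l)
    exact (this.inv_left.mul_left ((w8 l).pow_left n)).mul_left this.inv_left.inv_left
  · calc v⁻¹ * w ^ n * v⁻¹⁻¹ * t * (v⁻¹ * w ^ n * v⁻¹⁻¹)⁻¹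
        = v⁻¹ * (w ^ n * (v * t * v⁻¹) * (w ^ n)⁻¹) * v := by group
      _ = t * O.τ := by
        rw [← vt.eq, mul_inv_cancel_right, ew, ← ev, ← mul_assoc, ← mul_assoc, ← mul_assoc, mul_assoc v⁻¹, vt.eq]
        group

end CfsgLib.RF4
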