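import Mathlib
import Cfsg.Agent.Lib.RF4.Gen
import Cfsg.Agent.Lib.F42.Model
import Cfsg.Agent.Lib.UFP.Fld
import Cfsg.Agent.S2174
import Cfsg.Agent.Lib.CKS.F4a
import Cfsg.Agent.Lib.CT.Hom

set_option autoImplicit false
set_option Elab.async false

namespace CfsgLib.RF4

namespace F4M

open CfsgLib.RGD CfsgLib.Stein CfsgLib.Semi CfsgLib.CKS.F4D
open scoped commutatorElement

/-- the tails of the list generate normal subgroups of `U` -/
def Gd : List (Fin 48) → Prop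
  | [] => True
  | r :: L => (24 ≤ r ∧ r ∉ L ∧ ∀ s, 24 ≤ s → Cz 2 L r s) ∧ Gd L

instance decGd : ∀ L, Decidable (Gd L)
  | [] => isTrue trivial
  | r :: L => have := decGd L; inferInstanceAs (Decidable ((24 ≤ r ∧ r ∉ L ∧ ∀ s, 24 ≤ s → Cz 2 L r s) ∧ Gd L))

/-- a list of pairs of roots interchanged by the graph automorphism -/
def Pr : List (Fin 48) → Prop
  | [] => True
  | [_] => False
  | r :: s :: L => (rhoF4 r = s ∧ rhoF4 s = r ∧ expF4 r * expF4 s = 2) ∧ Pr L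

instance decPr : ∀ L, Decidable (Pr L)
  | [] => isTrue trivial
  | [_] => isFalse id
  | r :: s :: L => have := decPr L
    inferInstanceAs (Decidable ((rhoF4 r = s ∧ rhoF4 s = r ∧ expF4 r * expF4 s = 2) ∧ Pr L))

/-- the positive roots -/
def LL : List (Fin 48) := [25, 27, 28, 30, 24, 33, 26, 34, 31, 35, 29, 41, 36, 42, 32, 37, 38, 43, 39, 45, 40, 46, 44, 47]

theorem gd_LL : Gd LL := by decide +kernel

theorem pr_LL : Pr LL := by decide +kernel

theorem mem_LL : ∀ r, r ∈ LL ↔ 24 ≤ r := by decide +kernel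

theorem Gd.pos : ∀ {L}, Gd L → ∀ r ∈ L, 24 ≤ r
  | [], _ => by simp
  | _ :: _, h => List.forall_mem_cons.2 ⟨h.1.1, h.2.pos⟩

theorem Gd.nodup : ∀ {L}, Gd L → L.Nodup
  | [], _ => by simp
  | _ :: _, h => List.nodup_cons.2 ⟨h.1.2.1, h.2.nodup⟩

theorem cz_cons {L : List (Fin 48)} {a b : Fin 48} (r : Fin 48) (h : Cz 2 L a b) : Cz 2 (r :: L) a b :=
  h.imp_right fun h => ⟨h.1, fun c hc => (h.2 c hc).imp_left fun e => List.mem_cons_of_mem _ e⟩

theorem Gd.cz : ∀ {L}, Gd L → ∀ s, 24 ≤ s → ∀ r ∈ L, Cz 2 L r s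
  | [], _ => by simp
  | r :: _, h => fun s hs => List.forall_mem_cons.2 ⟨cz_cons r (h.1.2.2 s hs), fun a ha => cz_cons r (h.2.cz s hs a ha)⟩

variable {F G : Type*} [Field F] [Group G] [CharP F 2] {S : StSys ΦF4 F G} {y : ℕ → F → G}

omit [CharP F 2] in
theorem U_eq : S.U = UL S LL := congrArg S.UU (Set.ext fun r => (pos24 r).trans (mem_LL r).symm)

theorem two_eq : ((2 : ℤ) : F) = 0 := by exact_mod_cast CharP.cast_eq_zero F 2

variable (h : FD S y)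
include h

theorem nrm {L : List (Fin 48)} (hL : Gd L) {g z : G} (hg : g ∈ S.U) (hz : z ∈ UL S L) : g⁻¹ * z * g ∈ UL S L := by
  simpa using h.norm two_eq (fun r hr => hL.cz r ((pos24 r).1 hr)) g⁻¹ (Subgroup.mem_sup_left (inv_mem hg)) z hz

theorem peel {r : Fin 48} {L : List (Fin 48)} (hL : Gd (r :: L)) {u : G} (hu : u ∈ UL S (r :: L)) :
    ∃ a, ∃ m ∈ UL S L, u = S.x r a * m := by
  refine S.UU_induction (p := fun u => ∃ a, ∃ m ∈ UL S L, u = S.x r a * m) ⟨0, 1, one_mem _, by simp [S.x_zero]⟩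
    (fun s hs t g _ ⟨a, m, hm, e⟩ => ?_) hu
  rcases List.mem_cons.1 hs with rfl | hs
  · exact ⟨a + t, _, nrm h hL.2 (S.x_mem_UU ((pos24 s).2 hL.1.1) t) hm, by rw [e, S.x_add]; group⟩
  · exact ⟨a, _, mul_mem hm (x_mem t hs), by rw [e, mul_assoc]⟩

theorem exists_xprod : ∀ {L : List (Fin 48)}, Gd L → ∀ u ∈ UL S L, ∃ t, u = S.xprod L t
  | [], _ => fun u hu => ⟨0, by simpa [UL, S.UU_empty, S.xprod_nil] using hu⟩
  | r :: L, hL => fun u hu => by
    obtain ⟨a, m, hm, rfl⟩ := peel h hL hu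
    obtain ⟨t, rfl⟩ := exists_xprod hL.2 m hm
    exact ⟨Function.update t r a, by
      rw [S.xprod_cons, Function.update_self, S.xprod_congr (t := Function.update t r a) (t' := t) fun s hs =>
        Function.update_of_ne (ne_of_mem_of_not_mem hs hL.1.2.1) _ _]⟩

theorem eq_zero {r : Fin 48} {L : List (Fin 48)} (hL : Gd L) (hr : 24 ≤ r) (hn : r ∉ L) {a : F}
    (ha : S.x r a ∈ UL S L) : a = 0 := by
  obtain ⟨t, e⟩ := exists_xprod h hL _ ha
  have := h.nd.xprod_inj (L := r :: L) (List.nodup_cons.2 ⟨hn, hL.nodup⟩)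
    (List.forall_mem_cons.2 ⟨(pos24 r).2 hr, fun s hs => (pos24 s).2 (hL.pos s hs)⟩) (t := Function.update t r (-a))
    (t' := fun _ => 0) (by
      rw [S.xprod_zero, S.xprod_cons, Function.update_self, S.xprod_congr (t := Function.update t r (-a)) (t' := t)
        fun s hs => Function.update_of_ne (ne_of_mem_of_not_mem hs hn) _ _, ← e, S.x_neg, inv_mul_cancel]) r (by simp)
  simpa using this

variable {θ : F →+* F} (hθ : ∀ t, θ (θ t) ^ 2 = t) {σ : G →* G} (hσ : ∀ (r : Fin 48) t, σ (S.x r t) = y (rhoF4 r) (θ t ^ expF4 r))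
include hσ

omit [CharP F 2] in
theorem map_mem : ∀ {L : List (Fin 48)}, Pr L → ∀ r ∈ L, ∀ t, σ (S.x r t) ∈ UL S L
  | [], _ => by simp
  | [_], hL => hL.elim
  | r :: s :: L, hL => fun a ha t => by
    rcases List.mem_cons.1 ha with rfl | ha
    · rw [hσ, hL.1.1, h.hy]; exact x_mem _ (by simp)
    rcases List.mem_cons.1 ha with rfl | ha
    · rw [hσ, hL.1.2.1, h.hy]; exact x_mem _ (by simp)
    · exact S.UU_mono (fun _ h => by simp [show _ ∈ L from h]) (map_mem hL.2 a ha t)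

omit [CharP F 2] in
theorem map_UL {L : List (Fin 48)} (hL : Pr L) {u : G} (hu : u ∈ UL S L) : σ u ∈ UL S L :=
  S.UU_induction (p := fun u => σ u ∈ UL S L) (by simp)
    (fun r hr t g _ ih => by rw [map_mul]; exact mul_mem ih (map_mem h hσ hL r hr t)) hu

include hθ in
theorem inv : ∀ {L : List (Fin 48)}, Gd L → Pr L → ∀ u ∈ UL S L, u * σ u = 1 → ∃ v ∈ S.U, u = v * (σ v)⁻¹
  | [], _, _ => fun u hu _ => ⟨1, one_mem _, by simpa [UL, S.UU_empty] using hu⟩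
  | [_], _, hL => hL.elim
  | r :: s :: L, hG, hL => fun u hu e => by
    obtain ⟨a, m, hm, rfl⟩ := peel h hG hu
    have e1 : σ (S.x r a) = S.x s (θ a ^ expF4 r) := by rw [hσ, hL.1.1, h.hy]
    have e2 : σ (σ (S.x r a)) = S.x r a := by
      rw [e1, hσ, hL.1.2.1, h.hy, map_pow, ← pow_mul, hL.1.2.2, hθ]
    have e3 : m * σ (S.x r a) * σ (m * σ (S.x r a)) = 1 := by
      rw [map_mul, e2]
      rw [map_mul] at e
      calc _ = (S.x r a)⁻¹ * (S.x r a * m * (σ (S.x r a) * σ m)) * S.x r a := by group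
        _ = 1 := by rw [e]; group
    have hm' : m * σ (S.x r a) ∈ UL S (s :: L) := mul_mem hm (e1 ▸ x_mem _ (by simp))
    obtain ⟨b, n, hn, e4⟩ := peel h hG.2 hm'
    have e5 : θ b ^ expF4 s = 0 := eq_zero h hG.2 hG.1.1 hG.1.2.1 (by
      have : σ (S.x s b) = (m * σ (S.x r a))⁻¹ * (σ n)⁻¹ := by
        rw [eq_mul_inv_iff_mul_eq, ← map_mul, ← e4, eq_comm, inv_eq_iff_mul_eq_one, e3]
      rw [hσ, hL.1.2.1, h.hy] at this
      rw [this]
      exact mul_mem (inv_mem hm') (inv_mem (S.UU_mono (fun _ h => by simp [show _ ∈ L from h]) (map_UL h hσ hL.2 hn))))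
    rw [(map_eq_zero θ).1 (pow_eq_zero_iff (fun e => by simpa [e] using hL.1.2.2) |>.1 e5), S.x_zero, one_mul] at e4
    obtain ⟨v, hv, e6⟩ := inv hG.2.2 hL.2 n hn (e4 ▸ e3)
    refine ⟨S.x r a * v, mul_mem (S.x_mem_UU ((pos24 r).2 hG.1.1) a) hv, ?_⟩
    rw [map_mul, mul_inv_rev, mul_assoc, ← mul_assoc v, ← e6, ← e4, mul_inv_cancel_right]

omit hσ

/-- `x` is a commutator of two elements of `C_U(x)` -/
def CU (S : StSys ΦF4 F G) (x : G) : Prop := ∃ a ∈ S.U, ∃ b ∈ S.U, Commute a x ∧ Commute b x ∧ x = cm a b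

theorem cu_one (a b z : Fin 48) (hc : One a b z 1 ∧ 24 ≤ a ∧ 24 ≤ b ∧ Cz 2 [] a z ∧ Cz 2 [] b z := by decide +kernel) :
    CU S (S.x z 1) :=
  ⟨_, S.x_mem_UU ((pos24 a).2 hc.2.1) 1, _, S.x_mem_UU ((pos24 b).2 hc.2.2.1) 1, h.comm two_eq hc.2.2.2.1 _ _,
    h.comm two_eq hc.2.2.2.2 _ _, by rw [h.cm_one hc.1]; simp [CharTwo.neg_eq]⟩

theorem cu3 : CU S (S.x 47 1 * S.x 44 1) := by
  have c : ∀ a ∈ ([41, 29, 44] : List (Fin 48)), ∀ b ∈ ([47, 44] : List (Fin 48)), Cz 2 [] a b := by decide +kernel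
  have k : ∀ a ∈ ([41, 29, 44] : List (Fin 48)), ∀ b ∈ ([47, 44] : List (Fin 48)), Commute (S.x a 1) (S.x b 1) :=
    fun a ha b hb => h.comm two_eq (c a ha b hb) _ _
  refine ⟨S.x 41 1, S.x_mem_UU ((pos24 _).2 (by decide)) 1, S.x 29 1, S.x_mem_UU ((pos24 _).2 (by decide)) 1,
    (k _ (by simp) _ (by simp)).mul_right (k _ (by simp) _ (by simp)),
    (k _ (by simp) _ (by simp)).mul_right (k _ (by simp) _ (by simp)), ?_⟩
  rw [h.cm_eq (by decide) (by decide), show Cfsg.Lie.chevF4.commTerms (29 : Fin 48) (41 : Fin 48) =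
    [(((44 : Fin 48) : ℕ), 1, 1, 1), (((47 : Fin 48) : ℕ), 1, 2, 1)] by decide +kernel]
  simp only [List.map_cons, List.map_nil, List.prod_cons, List.prod_nil, h.hy]
  simpa [CharTwo.neg_eq] using (k 44 (by simp) 47 (by simp)).eq.symm

theorem cu4 : CU S (S.x 39 1 * S.x 45 1) := by
  have c : ∀ a ∈ ([29, 30, 35, 42] : List (Fin 48)), ∀ b ∈ ([39, 45] : List (Fin 48)), Cz 2 [] a b := by decide +kernel
  have k : ∀ a ∈ ([29, 30, 35, 42] : List (Fin 48)), ∀ b ∈ ([39, 45] : List (Fin 48)), Commute (S.x a 1) (S.x b 1) :=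
    fun a ha b hb => h.comm two_eq (c a ha b hb) _ _
  have k' : ∀ a ∈ ([29, 30, 35, 42] : List (Fin 48)), Commute (S.x a 1) (S.x 39 1 * S.x 45 1) :=
    fun a ha => (k a ha _ (by simp)).mul_right (k a ha _ (by simp))
  have m : ∀ a : Fin 48, 24 ≤ a → S.x a 1 ∈ S.U := fun a ha => S.x_mem_UU ((pos24 _).2 ha) 1
  refine ⟨S.x 29 1 * S.x 30 1, mul_mem (m _ (by decide)) (m _ (by decide)), S.x 35 1 * S.x 42 1,
    mul_mem (m _ (by decide)) (m _ (by decide)), (k' _ (by simp)).mul_left (k' _ (by simp)),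
    (k' _ (by simp)).mul_left (k' _ (by simp)), ?_⟩
  have e1 : cm (S.x 29 1) (S.x 35 1) = S.x 39 1 := by
    rw [h.cm_one (z := 39) (c := 1) (by decide +kernel)]; simp [CharTwo.neg_eq]
  have e2 : cm (S.x 30 1) (S.x 42 1) = S.x 45 1 := by
    rw [h.cm_one (z := 45) (c := 1) (by decide +kernel)]; simp [CharTwo.neg_eq]
  have e3 : Commute (S.x 29 1) (S.x 42 1) := h.comm two_eq (by decide +kernel) _ _
  have e4 : Commute (S.x 30 1) (S.x 35 1) := h.comm two_eq (by decide +kernel) _ _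
  calc _ = S.x 39 1 * ((S.x 42 1 * S.x 30 1)⁻¹ * (S.x 30 1 * S.x 42 1)) := by rw [← e2, cm]; group
    _ = (S.x 42 1 * S.x 30 1)⁻¹ * S.x 39 1 * (S.x 30 1 * S.x 42 1) := by
      rw [((k 42 (by simp) 39 (by simp)).mul_left (k 30 (by simp) 39 (by simp))).inv_left.eq, mul_assoc]
    _ = (S.x 30 1)⁻¹ * (S.x 29 1 * S.x 42 1)⁻¹ * (S.x 35 1)⁻¹ * S.x 29 1 * (S.x 35 1 * S.x 30 1) * S.x 42 1 := by
      rw [← e1, cm]; group
    _ = _ := by rw [← e4.eq, cm, e3.eq]; group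

end F4M

open Subgroup CfsgLib.F42
open scoped commutatorElement

/-! # Facts on `F₄(q)` and its graph automorphism (package F4M) -/

open Cfsg.Lie CfsgLib.Stein CfsgLib.Twist

variable {K : Type*} [Field K] [Fintype K] [CharP K 2] (θ : K →+* K) (hθ : ∀ t, θ (θ t) ^ 2 = t)

/-- the Sylow 2-subgroup of `F₄(q)` -/
abbrev UF (K : Type*) [Field K] : Subgroup (chevF4.group K) := (chevF4.posUnipotent K).subgroupOf (chevF4.group K)

omit [Fintype K] [CharP K 2] in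
theorem UF_eq : UF K = (gSys K Weyl.rtOKF4 genOKF4).U := by
  rw [UF, ← Chev.stSys_U Weyl.rtOKF4, RGD.StSys.U, ← map_UU (chevF4.group K).subtype
    (S := gSys K Weyl.rtOKF4 genOKF4) (fun _ _ => rfl), subgroupOf, comap_map_eq_self_of_injective Subtype.val_injective]
  rfl

theorem f4_simple : IsSimpleGroup (chevF4.group K) := RGD.isSimpleGroup_F4

theorem f4_perf : (⊤ : Subgroup (chevF4.group K)) ≤ ⁅(⊤ : Subgroup (chevF4.group K)), ⊤⁆ :=
  (RGD.commutator_eq_top_of_perfChk Weyl.rtOKF4 RGD.perfChkF4).ge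

omit [Fintype K] [CharP K 2] in
theorem f4_gen {M : Subgroup (chevF4.group K)} (h : ∀ r ∈ [33, 14, 27, 20, 25, 22, 24, 23], ∀ c, xG chevF4 K r c ∈ M) :
    M = ⊤ := by
  have e : ∀ k, ((Semi.ΦF4.simple k).1 ∈ [33, 14, 27, 20, 25, 22, 24, 23]) ∧
      (Semi.ΦF4.neg (Semi.ΦF4.simple k)).1 ∈ [33, 14, 27, 20, 25, 22, 24, 23] := by decide +kernel
  rw [eq_top_iff, ← Cover.sys_grp (cover_id Weyl.rtOKF4) Weyl.rtOKF4 genOKF4, CT.grp_le_iff]
  exact fun k t => ⟨h _ (e k).1 t, h _ (e k).2 t⟩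

theorem f4_pg : IsPGroup 2 (UF K) := UF_eq (K := K) ▸ St.isPGroup_U (gSys_nondeg _ _) 2

theorem f4_syl {P : Subgroup (chevF4.group K)} (hP : IsPGroup 2 P) (h : UF K ≤ P) : P = UF K := by
  have d := CKS.F4D.fd_F4 K
  refine ((f4_pg (K := K)).toSylow (UF_eq (K := K) ▸ St.not_dvd_index_U d.nd d.top 2 fun e => ?_)).is_maximal' hP h
  rw [d.cH, ← Nat.card_units] at e
  exact Nat.not_even_iff_odd.2 (odd_card_units (K := K)) (even_iff_two_dvd.2 (Nat.prime_two.dvd_of_dvd_pow e))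

theorem f4_cb : CB (⊤ : Subgroup (chevF4.group K)) := by
  intro x _ h2
  have d := CKS.F4D.fd_F4 K
  by_cases h1 : x = 1
  · exact ⟨1, trivial, 1, trivial, T2.one, T2.one, by simp, by simp, by simp [h1]⟩
  obtain ⟨y, hy, hl, g, hg, e⟩ := (Cfsg.Agent.S2174.result (F := K)).2.1 x x.2 (by
    rw [orderOf_coe]; exact orderOf_eq_prime (by rw [sq, h2]) h1)
  have : F4M.CU (gSys K Weyl.rtOKF4 genOKF4) ⟨y, hy⟩ := by
    simp only [List.mem_cons, List.not_mem_nil, or_false] at hl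
    rcases hl with l | l | l | l
    · convert F4M.cu_one d 46 24 47; exact Units.ext l
    · convert F4M.cu_one d 40 33 44; exact Units.ext l
    · convert F4M.cu3 d; exact Units.ext l
    · convert F4M.cu4 d; exact Units.ext l
  obtain ⟨a, ha, b, hb, c1, c2, c3⟩ := this
  have e' : x = (⟨g, hg⟩⁻¹ * ⟨y, hy⟩ * ⟨g, hg⟩⁻¹⁻¹ : chevF4.group K) := Subtype.ext (by simp [← e, mul_assoc])
  replace ha := (UF_eq (K := K)).ge ha
  replace hb := (UF_eq (K := K)).ge hb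
  refine ⟨_, trivial, _, trivial, (T2.of_mem f4_pg ha).inv.conj ⟨g, hg⟩⁻¹, (T2.of_mem f4_pg hb).inv.conj ⟨g, hg⟩⁻¹,
    e' ▸ c1.inv_left.conj _, e' ▸ c2.inv_left.conj _, ?_⟩
  rw [e', c3, Stein.cm, commutatorElement_def]
  group

theorem f4_U {u : chevF4.group K} (hu : u ∈ UF K) : endF4 θ hθ u ∈ UF K :=
  (UF_eq.trans F4M.U_eq).ge (F4M.map_UL (CKS.F4D.fd_F4 K) (fun r t => endF4_xG θ hθ r.2 t) F4M.pr_LL
    ((UF_eq.trans F4M.U_eq).le hu))

theorem f4_inv {u : chevF4.group K} (hu : u ∈ UF K) (h : u * endF4 θ hθ u = 1) :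
    ∃ v ∈ UF K, u = v * (endF4 θ hθ v)⁻¹ := by
  rw [UF_eq] at hu ⊢
  exact F4M.inv (CKS.F4D.fd_F4 K) hθ (fun r t => endF4_xG θ hθ r.2 t) F4M.gd_LL F4M.pr_LL u (F4M.U_eq.le hu) h

theorem f4_card : Nat.card K ^ 12 ≤ Nat.card (UF K ⊓ (endF4 θ hθ).eqLocus (MonoidHom.id _) : Subgroup _) := by
  let _ : Algebra (ZMod 2) K := ZMod.algebra K 2
  obtain ⟨i, hi⟩ := FiniteField.exists_forall_apply_eq_pow (ZMod 2) 2 K (AlgEquiv.ofRingEquiv
    (f := RingEquiv.ofBijective θ (Finite.injective_iff_bijective.1 θ.injective)) fun x =>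
      DFunLike.congr_fun (RingHom.ext_zmod (θ.comp (algebraMap (ZMod 2) K)) (algebraMap (ZMod 2) K)) x)
  have he : ∀ t, θ t = t ^ Nat.card (ZMod 2) ^ i := hi
  rw [Nat.card_eq_fintype_card, ← card_UF4 he hθ, eq_FixF4 he hθ, Chev.stSys_U,
    ← card_map_of_injective (K := UF K ⊓ _) (chevF4.group K).subtype_injective]
  refine card_le_of_le fun g hg => ?_
  have h1 : g ∈ chevF4.group K := Chev.stSys_grp Weyl.rtOKF4 (F := K) ▸ hg.2.1
  exact ⟨⟨g, h1⟩, ⟨hg.1, Subtype.ext ((extend_apply _ h1).symm.trans hg.2.2)⟩, rfl⟩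

end CfsgLib.RF4
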