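import Mathlib
import Cfsg.Agent.Lib.RF4.Bas
import Cfsg.Agent.Lib.RF4.Ct
import Cfsg.Agent.Lib.RF4.F4m

set_option autoImplicit false
set_option Elab.async false

namespace CfsgLib.RF4

open Subgroup CfsgLib.F42
open scoped commutatorElement

/-! # The case `F₄(q)` (package FF) -/

open Cfsg.Lie CfsgLib.Stein CfsgLib.Twist

variable {K : Type*} [Field K] [Fintype K] {G : Type*} [Group G] [Finite G] {σ : K →+* K} {sz : Sz K}
  {O : OP σ sz G} {t : G} {δ γ : K} {Z Y : ZMod 8 → K × K → G}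

section alg
omit [Fintype K]
variable [CharP K 2] (ss : ∀ t, σ (σ t) = t ^ 2) (hγ : δ = γ + σ γ + 1)
include ss hγ

theorem ff_c : δ + σ δ = γ + γ ^ 2 := by
  subst hγ
  simp only [map_add, map_one, ss]
  grind

theorem ff_ml11 (a b : K) : ml (δ + σ δ) (a • (1, γ)) (b • (1, γ)) = (a * b) • (1, γ) := by
  rw [ff_c ss hγ]
  ext <;> simp only [ml, Prod.smul_mk, smul_eq_mul] <;> grind

theorem ff_ml22 (a b : K) : ml (δ + σ δ) (a • (1, γ + 1)) (b • (1, γ + 1)) = (a * b) • (1, γ + 1) := by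
  rw [ff_c ss hγ]
  ext <;> simp only [ml, Prod.smul_mk, smul_eq_mul] <;> grind

theorem ff_ml12 (a b : K) : ml (δ + σ δ) (a • (1, γ)) (b • (1, γ + 1)) = 0 := by
  rw [ff_c ss hγ]
  ext <;> simp only [ml, Prod.smul_mk, smul_eq_mul, Prod.fst_zero, Prod.snd_zero] <;> grind

theorem ff_ml21 (a b : K) : ml (δ + σ δ) (a • (1, γ + 1)) (b • (1, γ)) = 0 := by
  rw [ff_c ss hγ]
  ext <;> simp only [ml, Prod.smul_mk, smul_eq_mul, Prod.fst_zero, Prod.snd_zero] <;> grind

omit ss in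
theorem ff_sg1 (a : K) : sg σ δ (a • (1, γ)) = σ a • (1, γ + 1) := by
  subst hγ
  ext <;> simp only [sg, Prod.smul_mk, smul_eq_mul, map_mul, map_one] <;> grind

omit ss in
theorem ff_sg2 (a : K) : sg σ δ (a • (1, γ + 1)) = σ a • (1, γ) := by
  subst hγ
  ext <;> simp only [sg, Prod.smul_mk, smul_eq_mul, map_mul, map_one, map_add] <;> grind

end alg

omit [Fintype K] [Finite G] in
theorem ff_zero {X : K × K → G} (h : ∀ p p', X (p + p') = X p * X p') : X 0 = 1 := by
  have := h 0 0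
  rw [add_zero] at this
  exact mul_eq_left.1 this.symm

omit [Finite G] in
theorem ff_comm {a b : G} (h : b * a * b⁻¹ = a * 1) : Commute a b := by
  rw [mul_one, mul_inv_eq_iff_eq_mul] at h
  exact h.symm

theorem OD.f4r (h : OD O t δ Z Y) (hγ : δ = γ + σ γ + 1) {θ : K →+* K} (h1 : ∀ t, θ (σ t) = t) (h2 : ∀ t, σ (θ t) = t) :
    F4R (fun i c => Z i (c • (1, γ))) (fun i c => Z i (θ c • (1, γ + 1))) (fun i c => Y i (c • (1, γ)))
      fun i c => Y i (θ c • (1, γ + 1)) := by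
  have := O.charP
  have ss := O.ss
  have z0 : ∀ i, Z i 0 = 1 := fun i => ff_zero (h.zadd i)
  have y0 : ∀ i, Y i 0 = 1 := fun i => ff_zero (h.yadd i)
  have h3 : ∀ c d, θ (c ^ 2 * d) = σ c * θ d := fun c d => by rw [map_mul, ← ss, h1]
  have m11 := ff_ml11 ss hγ
  have m22 := ff_ml22 ss hγ
  have m12 := ff_ml12 ss hγ
  have m21 := ff_ml21 ss hγ
  have s1 := ff_sg1 hγ
  have s2 := ff_sg2 hγ
  refine
    { sadd := fun i c d => by rw [add_smul, h.zadd]
      ladd := fun i c d => by rw [map_add, add_smul, h.zadd]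
      madd := fun i c d => by rw [add_smul, h.yadd]
      nadd := fun i c d => by rw [map_add, add_smul, h.yadd]
      ss := ?_, ll := ?_, sl := ?_
      ss3 := fun i c d => by rw [h.zz3, s1, s1, m21, m12, m11, z0, z0, one_mul, mul_one]
      ll3 := fun i c d => by rw [h.zz3, s2, s2, m21, m12, m22, z0, z0, one_mul, mul_one, map_mul]
      sl3 := fun i c d => by rw [h.zz3, s1, s2, h2, m22, m12, m11, y0, mul_one, h3]
      ls3 := fun i c d => by rw [h.zz3, s1, s2, h2, m22, m21, m11, y0, mul_one, h3, mul_comm d, mul_comm (θ d)]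
      ms := ?_, nl := ?_, ml := ?_, ns := ?_
      mn := fun i c d => by rw [Commute, SemiconjBy, ← h.yadd, ← h.yadd, add_comm]
      ms3 := fun i c d => by rw [h.yz3, m11]
      nl3 := fun i c d => by rw [h.yz3, m22, map_mul]
      ms6 := fun i c d => by rw [h.yz6, m11]
      nl6 := fun i c d => by rw [h.yz6, m22, map_mul] }
  · rintro i j (rfl | rfl) c d
    exacts [h.zz1 _ _ _, h.zz2 _ _ _]
  · rintro i j (rfl | rfl) c d
    exacts [h.zz1 _ _ _, h.zz2 _ _ _]
  · rintro i j (rfl | rfl) c d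
    · exact h.zz1 _ _ _
    · have := h.zz1 (i + 7) (θ d • (1, γ + 1)) (c • (1, γ))
      rw [add_assoc, show (7 + 1 : ZMod 8) = 0 from rfl, add_zero] at this
      exact this.symm
  · rintro i j (rfl | rfl) c d
    exacts [h.yz7 _ _ _, h.yz2 _ _ _]
  · rintro i j (rfl | rfl) c d
    exacts [h.yz7 _ _ _, h.yz2 _ _ _]
  · rintro i j (rfl | rfl) c d
    · exact h.yz7 _ _ _
    · exact ff_comm (by rw [h.yz3, m12, z0])
  · rintro i j (rfl | rfl | rfl) c d
    · exact h.yz2 _ _ _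
    · exact ff_comm (by rw [h.yz3, m21, z0])
    · exact ff_comm (by rw [h.yz6, m21, z0])

theorem OD.f4_end (h : OD O t δ Z Y) (hγ : δ = γ + σ γ + 1) :
    ∃ G1 Uh, End t (Nat.card K) G1 Uh (t * O.n1) ∧ Nonempty (G1 ≃* chevF4.group K) := by
  have := O.charP
  obtain ⟨θ, h1, h2, hθ, h3⟩ := exists_theta O.toOC
  obtain ⟨f, f33, f14, f27, f20, f25, f22, f24, f23⟩ := (h.f4r hγ h1 h2).exists_hom (four_lt O.toOC h.big)
  have b1 : ∀ c : K, ((c • ((1 : K), γ)).1, (c • ((1 : K), γ)).2 + (c • ((1 : K), γ)).1) = c • ((1 : K), γ + 1) :=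
    fun c => by ext <;> simp only [Prod.smul_mk, smul_eq_mul] <;> grind
  have b2 : ∀ c : K, ((c • ((1 : K), γ + 1)).1, (c • ((1 : K), γ + 1)).2 + (c • ((1 : K), γ + 1)).1) =
      c • ((1 : K), γ) := fun c => by ext <;> simp only [Prod.smul_mk, smul_eq_mul] <;> grind
  have hf : Function.Injective f := by
    have := f4_simple (K := K)
    rw [← MonoidHom.ker_eq_bot_iff]
    refine (f.normal_ker.eq_bot_or_eq_top).resolve_right fun e => ?_
    have e1 : Z 2 ((1 : K) • (1, γ)) = 1 := (f27 1).symm.trans (MonoidHom.mem_ker.1 (e ▸ mem_top _))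
    have e2 := h.tz 2 ((1 : K) • (1, γ))
    rw [b1, e1, mul_one, mul_inv_cancel] at e2
    have e3 := h.zadd 2 ((1 : K) • (1, γ)) ((1 : K) • (1, γ + 1))
    rw [e1, ← e2, show (1 : K) • ((1 : K), γ) + (1 : K) • ((1 : K), γ + 1) = (0, 1) by
      ext <;> simp only [Prod.smul_mk, smul_eq_mul, Prod.mk_add_mk] <;> grind, h.zbase, vz, mul_one,
      mul_inv_eq_one, mul_eq_left] at e3
    exact O.τ_ne e3
  set s := t * O.n1 with hs
  have s2 : s * s = 1 := by
    obtain ⟨g, e⟩ := h.n1t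
    rw [hs, ← e]
    calc g * t * g⁻¹ * (g * t * g⁻¹) = g * (t * t) * g⁻¹ := by group
      _ = 1 := by rw [h.t2, mul_one, mul_inv_cancel]
  have sz' : ∀ i p, s * Z i p * s⁻¹ = Z (1 - i) (p.1, p.2 + p.1) := fun i p => by
    rw [← h.tz, ← h.n1z, hs]; group
  have sy' : ∀ i p, s * Y i p * s⁻¹ = Y (-i) (p.1, p.2 + p.1) := fun i p => by
    rw [← h.ty, ← h.n1y, hs]; group
  have key : ∀ x, s * f x * s⁻¹ = f (endF4 θ hθ x) := by
    have : (((MulAut.conj s).toMonoidHom.comp f).eqLocus (f.comp (endF4 θ hθ))) = ⊤ := by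
      refine f4_gen fun r hr c => ?_
      change s * f _ * s⁻¹ = f (endF4 θ hθ _)
      simp only [List.mem_cons, List.not_mem_nil, or_false] at hr
      rcases hr with rfl | rfl | rfl | rfl | rfl | rfl | rfl | rfl
      · rw [endF4_xG θ hθ (by decide), f33, sy', b1, show rhoF4 33 = 24 from rfl, f24, show expF4 33 = 2 from rfl,
          ← h3, h1]; rfl
      · rw [endF4_xG θ hθ (by decide), f14, sy', b1, show rhoF4 14 = 23 from rfl, f23, show expF4 14 = 2 from rfl,
          ← h3, h1]; rfl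
      · rw [endF4_xG θ hθ (by decide), f27, sz', b1, show rhoF4 27 = 25 from rfl, f25, show expF4 27 = 2 from rfl,
          ← h3, h1]; rfl
      · rw [endF4_xG θ hθ (by decide), f20, sz', b1, show rhoF4 20 = 22 from rfl, f22, show expF4 20 = 2 from rfl,
          ← h3, h1]; rfl
      · rw [endF4_xG θ hθ (by decide), f25, sz', b2, show rhoF4 25 = 27 from rfl, f27, show expF4 25 = 1 from rfl,
          pow_one]; rfl
      · rw [endF4_xG θ hθ (by decide), f22, sz', b2, show rhoF4 22 = 20 from rfl, f20, show expF4 22 = 1 from rfl,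
          pow_one]; rfl
      · rw [endF4_xG θ hθ (by decide), f24, sy', b2, show rhoF4 24 = 33 from rfl, f33, show expF4 24 = 1 from rfl,
          pow_one]; rfl
      · rw [endF4_xG θ hθ (by decide), f23, sy', b2, show rhoF4 23 = 14 from rfl, f14, show expF4 23 = 1 from rfl,
          pow_one]; rfl
    intro x
    have hx : x ∈ ((MulAut.conj s).toMonoidHom.comp f).eqLocus (f.comp (endF4 θ hθ)) := this ▸ mem_top x
    exact hx
  have nU : ∀ u ∈ (UF K).map f, s * u * s⁻¹ ∈ (UF K).map f := by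
    rintro _ ⟨x, hx, rfl⟩
    exact ⟨_, f4_U θ hθ hx, (key x).symm⟩
  refine ⟨f.range, (UF K).map f, ⟨h.n1t, ?_, map_le_range _ _, f4_pg.map f, fun P hP p2 hU => ?_, ?_, ?_, ?_, ?_⟩,
    ⟨(MonoidHom.ofInjective hf).symm⟩⟩
  · rw [f.range_eq_map, ← map_commutator]
    exact map_mono f4_perf
  · rw [← f4_syl (p2.comap_of_injective f hf) (map_le_iff_le_comap.1 hU), map_comap_eq_self hP]
  · refine mem_normalizer_iff.2 fun u => ⟨nU u, fun hu => ?_⟩
    have := nU _ hu
    rwa [show s * (s * u * s⁻¹) * s⁻¹ = s * s * u * (s * s)⁻¹ by group, s2, one_mul, inv_one, mul_one] at this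
  · rintro _ ⟨x, hx, rfl⟩ e
    have e1 : f (x * endF4 θ hθ x) = f 1 := by
      rw [map_mul, ← key, map_one, ← e, inv_eq_of_mul_eq_one_right s2]; group
    obtain ⟨v, hv, e2⟩ := f4_inv θ hθ hx (hf e1)
    refine ⟨f v, ⟨v, hv, rfl⟩, ?_⟩
    rw [e2, map_mul, map_inv, ← key]
    group
  · rintro _ ⟨x, rfl⟩ e
    obtain ⟨a, -, b, -, ⟨k, ha⟩, ⟨l, hb⟩, ca, cb, e1⟩ := f4_cb x (mem_top x) (hf (by rw [map_mul, e, map_one]))
    exact ⟨f a, ⟨a, rfl⟩, f b, ⟨b, rfl⟩, ⟨k, by rw [← map_pow, ha, map_one]⟩, ⟨l, by rw [← map_pow, hb, map_one]⟩,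
      ca.map f, cb.map f, by rw [e1, map_commutatorElement]⟩
  · refine (f4_card θ hθ).trans ?_
    rw [← card_map_of_injective hf]
    refine card_le_of_le ?_
    rintro _ ⟨x, ⟨hx, e⟩, rfl⟩
    refine ⟨⟨x, hx, rfl⟩, mem_centralizer_singleton_iff.2 ?_⟩
    have := key x
    rw [show endF4 θ hθ x = x from e, mul_inv_eq_iff_eq_mul] at this
    exact this.symm

end CfsgLib.RF4
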