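import Mathlib
import Cfsg.Prelude.Def_Quasithin
import Cfsg.Agent.Lib.RF4.Bas
import Cfsg.Agent.Lib.Transfer.Thompson

set_option autoImplicit false
set_option Elab.async false

namespace CfsgLib.RF4

open Subgroup CfsgLib.F42
open scoped commutatorElement

/-! # The transfer argument (package FIN) -/

variable {K : Type*} [Field K] [Finite K] {G : Type*} [Group G] [Finite G] {σ : K →+* K} {sz : Sz K} {O : OP σ sz G} {t : G}

omit [Finite G] in
theorem fin_mem_sup {A : Subgroup G} {s : G} (h2 : s * s = 1) (hn : s ∈ normalizer (A : Set G)) {x : G}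
    (hx : x ∈ A ⊔ zpowers s) : x ∈ A ∨ x * s ∈ A := by
  have si : s⁻¹ = s := inv_eq_of_mul_eq_one_right h2
  have c : ∀ a ∈ A, s * a * s ∈ A := fun a ha => by
    have := Tech.conj_mem_of_mem_normalizer hn ha
    rwa [si] at this
  let B : Subgroup G :=
    { carrier := {x | x ∈ A ∨ x * s ∈ A}
      one_mem' := .inl A.one_mem
      mul_mem' := by
        rintro a b (ha | ha) (hb | hb)
        · exact .inl (mul_mem ha hb)
        · exact .inr (by rw [mul_assoc]; exact mul_mem ha hb)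
        · refine .inr ?_
          have : a * b * s = a * s * (s * b * s) := by
            simp only [← mul_assoc]; rw [mul_assoc a s s, h2, mul_one]
          rw [this]; exact mul_mem ha (c b hb)
        · refine .inl ?_
          have : a * b = a * s * (s * (b * s) * s) := by
            simp only [← mul_assoc]; rw [mul_assoc a s s, h2, mul_one, mul_assoc (a * b) s s, h2, mul_one]
          rw [this]; exact mul_mem ha (c _ hb)
      inv_mem' := by
        rintro a (ha | ha)
        · exact .inl (inv_mem ha)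
        · refine .inr ?_
          have : a⁻¹ * s = s * (a * s)⁻¹ * s := by
            rw [mul_inv_rev, si, ← mul_assoc, h2, one_mul]
          rw [this]; exact c _ (inv_mem ha) }
  have : A ⊔ zpowers s ≤ B := sup_le (fun a ha => .inl ha) (zpowers_le.2 (.inr (by rw [h2]; exact A.one_mem)))
  exact this hx

omit [Finite G] in
theorem fin_relIndex {A : Subgroup G} {s : G} (h2 : s * s = 1) (hn : s ∈ normalizer (A : Set G)) (hs : s ∉ A) :
    A.relIndex (A ⊔ zpowers s) = 2 := by
  rw [relIndex_eq_two_iff]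
  refine ⟨s, (le_sup_right : zpowers s ≤ _) (mem_zpowers s), fun b hb => ?_⟩
  rcases fin_mem_sup h2 hn hb with h | h
  · exact .inr ⟨h, fun h' => hs (by simpa using mul_mem (inv_mem h) h')⟩
  · exact .inl ⟨h, fun h' => hs (by simpa using mul_mem (inv_mem h') h)⟩

theorem fin_normal : (Cfsg.oddGenerated (⊤ : Subgroup G)).Normal := by
  refine ⟨fun x hx g => ?_⟩
  refine closure_induction (p := fun x _ => g * x * g⁻¹ ∈ Cfsg.oddGenerated (⊤ : Subgroup G)) ?_ ?_ ?_ ?_ hx
  · rintro y ⟨-, hy⟩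
    refine subset_closure ⟨mem_top _, ?_⟩
    have : orderOf (g * y * g⁻¹) = orderOf y := by
      simpa using (MulAut.conj g).orderOf_eq y
    rwa [this]
  · simp
  · intro a b _ _ ha hb
    have : g * (a * b) * g⁻¹ = g * a * g⁻¹ * (g * b * g⁻¹) := by group
    rw [this]; exact mul_mem ha hb
  · intro a _ ha
    have : g * a⁻¹ * g⁻¹ = (g * a * g⁻¹)⁻¹ := by group
    rw [this]; exact inv_mem ha

theorem fin_perf_le {X : Subgroup G} (hX : X ≤ ⁅X, X⁆) : X ≤ Cfsg.oddGenerated ⊤ := by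
  haveI := fin_normal (G := G)
  set N := Cfsg.oddGenerated (⊤ : Subgroup G)
  haveI : Fact (Nat.Prime 2) := ⟨Nat.prime_two⟩
  have hp : IsPGroup 2 (G ⧸ N) := by
    intro q
    obtain ⟨x, rfl⟩ := QuotientGroup.mk_surjective q
    obtain ⟨k, hk⟩ := exists_odd_pow x
    refine ⟨k, ?_⟩
    rw [← QuotientGroup.mk_pow, QuotientGroup.eq_one_iff]
    exact subset_closure ⟨mem_top _, hk⟩
  haveI := hp.isNilpotent
  have hY : X.map (QuotientGroup.mk' N) ≤ ⁅X.map (QuotientGroup.mk' N), X.map (QuotientGroup.mk' N)⁆ := by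
    rw [← map_commutator]; exact map_mono hX
  have hb : X.map (QuotientGroup.mk' N) = ⊥ := by
    by_contra hne
    exact absurd hY (IsSolvable.commutator_lt_of_ne_bot hne).not_ge
  rw [Subgroup.map_eq_bot_iff, QuotientGroup.ker_mk'] at hb
  exact hb

theorem Sit.fin (h : Sit O t) {G1 Uh : Subgroup G} {s : G} (e : End t (Nat.card K) G1 Uh s) :
    G1 ≤ Cfsg.oddGenerated ⊤ ∧ Odd (G1.relIndex (Cfsg.oddGenerated ⊤)) := by
  haveI : Fact (Nat.Prime 2) := ⟨Nat.prime_two⟩
  obtain ⟨g, hg⟩ := e.conj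
  have nc : ∀ x, x * s * x⁻¹ ∉ G1 := fun x => by
    have := h.not_mem_of_cb e.cb (x * g)
    rwa [show x * g * t * (x * g)⁻¹ = x * (g * t * g⁻¹) * x⁻¹ by group, hg] at this
  have s2 : s * s = 1 := by
    rw [← hg, show g * t * g⁻¹ * (g * t * g⁻¹) = g * (t * t) * g⁻¹ by group, h.t2]; group
  have sG : s ∉ G1 := by simpa using nc 1
  have sU : s ∉ Uh := fun h' => sG (e.le h')
  have s1 : s ≠ 1 := fun h' => sG (h' ▸ G1.one_mem)
  have zs : IsPGroup 2 (zpowers s) := Tech.isPGroup_zpowers_of_pow (k := 1) (by simpa [pow_two] using s2)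
  have sS : s ∈ Uh ⊔ zpowers s := (le_sup_right : zpowers s ≤ _) (mem_zpowers s)
  have hS : IsPGroup 2 (Uh ⊔ zpowers s : Subgroup G) :=
    IsPGroup.to_sup_of_normal_left' e.pg zs (zpowers_le.2 e.nU)
  have syl : Tech.IsSylowIn 2 (Uh ⊔ zpowers s) ⊤ := by
    by_contra hn
    obtain ⟨R, hR, hlt, -, hRn⟩ := Tech.exists_lt_pgroup_normalizer hS le_top hn
    obtain ⟨x, hxR, hxS⟩ := SetLike.exists_of_lt hlt
    have h1 : x * s * x⁻¹ ∈ Uh ⊔ zpowers s := Tech.conj_mem_of_mem_normalizer (hRn hxR) sS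
    have h2 : x * s * x⁻¹ * s ∈ Uh := (fin_mem_sup s2 e.nU h1).resolve_left fun h' => nc x (e.le h')
    have h3 : x * s * x⁻¹ * s * s = x * s * x⁻¹ := by rw [mul_assoc _ s s, s2, mul_one]
    obtain ⟨v, hv, ev⟩ := e.inv _ h2 (by
      rw [h3, show x * s * x⁻¹ * (x * s * x⁻¹) = x * (s * s) * x⁻¹ by group, s2]; group)
    rw [h3] at ev
    have hvR : v ∈ R := hlt.le (le_sup_left (a := Uh) hv)
    have hP : IsPGroup 2 (R ⊓ centralizer {s} : Subgroup G) := hR.to_inf_left
    have hb := h.bound hP (g := g) (fun y hy => by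
      rw [hg]; exact (mem_centralizer_singleton_iff.1 hy.2))
    have sn : s ∈ normalizer ((Uh ⊓ centralizer {s} : Subgroup G) : Set G) :=
      Tech.mem_normalizer_of_forall fun y hy => by
        have := mem_centralizer_singleton_iff.1 hy.2
        rw [← this, mul_inv_cancel_right]; exact hy
    have hle : (Uh ⊓ centralizer {s}) ⊔ zpowers s ≤ R ⊓ centralizer {s} :=
      sup_le (inf_le_inf_right _ (le_sup_left.trans hlt.le))
        (zpowers_le.2 ⟨hlt.le sS, mem_centralizer_singleton_iff.2 rfl⟩)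
    have hc := Tech.card_mul_relIndex' (le_sup_left : Uh ⊓ centralizer {s} ≤ (Uh ⊓ centralizer {s}) ⊔ zpowers s)
    rw [fin_relIndex s2 sn (fun h' => sU h'.1)] at hc
    have hq := e.card
    have heq : (Uh ⊓ centralizer {s}) ⊔ zpowers s = R ⊓ centralizer {s} :=
      eq_of_le_of_card_ge hle (by omega)
    have hm : v⁻¹ * x ∈ R ⊓ centralizer {s} := by
      refine mem_inf.2 ⟨mul_mem (inv_mem hvR) hxR, mem_centralizer_singleton_iff.2 ?_⟩
      calc v⁻¹ * x * s = v⁻¹ * (x * s * x⁻¹) * x := by group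
        _ = s * (v⁻¹ * x) := by rw [ev]; group
    rw [← heq] at hm
    have hm' : v⁻¹ * x ∈ Uh ⊔ zpowers s :=
      (sup_le_sup_right inf_le_left _ : (Uh ⊓ centralizer {s}) ⊔ zpowers s ≤ Uh ⊔ zpowers s) hm
    exact hxS (by simpa using mul_mem (le_sup_left (a := Uh) (b := zpowers s) hv) hm')
  have hG := fin_perf_le e.perf
  refine ⟨hG, ?_⟩
  have os : orderOf s = 2 := orderOf_eq_prime (by rw [pow_two, s2]) s1
  have hi : ¬ 2 ∣ (Uh ⊔ zpowers s).index := by
    have := syl.not_dvd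
    rwa [relIndex_top_right] at this
  rcases Transfer.thompson_transfer hi (fin_relIndex s2 e.nU sU) os with ⟨M, hM, hM2, hsM⟩ | ⟨x, hx⟩
  swap
  · exact absurd (e.le hx) (nc x)
  have hNM : Cfsg.oddGenerated (⊤ : Subgroup G) ≤ M := by
    refine (closure_le _).2 ?_
    rintro y ⟨-, k, hk⟩
    have h1 : y ^ (2 * k + 1) = 1 := by rw [← hk]; exact pow_orderOf_eq_one y
    have h2 : y ^ 2 ∈ M := by rw [← hM2]; exact M.pow_index_mem y
    have : y = ((y ^ 2) ^ k)⁻¹ := by
      rw [eq_inv_iff_mul_eq_one, ← pow_mul, ← pow_succ', h1]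
    show y ∈ M
    rw [this]; exact inv_mem (pow_mem h2 k)
  haveI := fin_normal (G := G)
  have hsy := syl.inf_of_le_normalizer (N := Cfsg.oddGenerated ⊤) (le_of_eq (normalizer_eq_top _).symm)
  rw [top_inf_eq] at hsy
  have hle : (Uh ⊔ zpowers s) ⊓ Cfsg.oddGenerated ⊤ ≤ G1 := by
    intro y hy'
    obtain ⟨hy, hyN⟩ := mem_inf.1 hy'
    rcases fin_mem_sup s2 e.nU hy with h1 | h1
    · exact e.le h1
    · exact absurd (hNM (by simpa using mul_mem (inv_mem hyN) (hG (e.le h1)))) hsM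
  rw [← Nat.not_even_iff_odd, even_iff_two_dvd]
  exact fun hd => hsy.not_dvd (hd.trans (relIndex_dvd_of_le_left _ hle))

end CfsgLib.RF4
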