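import Mathlib
import Cfsg.Agent.Lib.RF4.Bas

set_option autoImplicit false
set_option Elab.async false

namespace CfsgLib.RF4

open Subgroup CfsgLib.F42
open scoped commutatorElement

/-! # Fusion of `t` (package FUS) -/

variable {K : Type*} [Field K] [Finite K] {G : Type*} [Group G] [Finite G] {σ : K →+* K} {sz : Sz K} {O : OP σ sz G} {t : G}

omit [Finite G] in
theorem fus_comm_conj {a b : G} (g : G) (h : Commute a b) : Commute (g * a * g⁻¹) (g * b * g⁻¹) := by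
  show g * a * g⁻¹ * (g * b * g⁻¹) = g * b * g⁻¹ * (g * a * g⁻¹)
  rw [conj_mul, conj_mul, h.eq]

theorem Sit0.fus_le (h : Sit0 O t) (g : G) {M : Subgroup G} (hc : ∀ x ∈ M, Commute x (g * t * g⁻¹)) (hp : M ≤ ⁅M, M⁆)
    (h2 : ∀ P : Subgroup G, (∀ x ∈ M, T2 x → x ∈ P) → M ≤ P) {x : G} (hx : x ∈ M) : g⁻¹ * x * g ∈ O.G0 :=
  (mem_cj_G0 O).1 ((h.conj g).le_of_perf (fun y hy => (h.conj g).CN y (hc y hy)) hp h2 hx)

/-- conjugation by an element of `L` -/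
theorem Sit0.fus_cj (h : Sit0 O t) {w : G} (hw : w ∈ O.G0) (a : G) : w * (t * a) * w⁻¹ = t * (w * a * w⁻¹) := by
  rw [← mul_assoc, ← (h.tC w hw).eq]; group

theorem Sit0.fus_fix (h : Sit0 O t) {w : G} (hw : w ∈ O.G0) : w * t * w⁻¹ = t := by
  rw [← (h.tC w hw).eq, mul_inv_cancel_right]

theorem Sit0.fus_y (h : Sit0 O t) {g : G} (hg : g * t * g⁻¹ = t * O.g 6 1) : ∃ g, g * t * g⁻¹ = t * O.τ := by
  by_contra hn
  have noV : ∀ a, ∀ v ∈ O.V, v ≠ 1 → a * t * a⁻¹ ≠ t * v := fun a v hv h1 e => by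
    obtain ⟨y, hy, ey⟩ := O.conj_V hv h1
    refine hn ⟨y⁻¹ * a, ?_⟩
    calc y⁻¹ * a * t * (y⁻¹ * a)⁻¹ = y⁻¹ * (a * t * a⁻¹) * y⁻¹⁻¹ := by group
      _ = t * O.τ := by rw [e, h.fus_cj (inv_mem hy), ← ey]; group
  have y2 : O.g 6 1 * O.g 6 1 = 1 := by rw [O.a6, O.add_self, O.g_zero]
  have yD : O.g 6 1 ∈ O.D3 := O.g_mem (by decide) 1
  have cD : ∀ x ∈ O.D3, Commute x (O.g 6 1) := fun x hx => (O.cent6 one_ne_zero (O.pat_le_C _ hx)).2 hx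
  have hM : ∀ x ∈ O.D3 ⊔ zpowers O.n1, g⁻¹ * x * g ∈ O.G0 := fun x hx => by
    refine h.fus_le g (fun x hx => ?_) (perf_M O h.big) (fun P hP => sup_le (fun x hx => ?_) (zpowers_le.2 ?_)) hx
    · rw [hg]
      have : O.D3 ⊔ zpowers O.n1 ≤ centralizer {t * O.g 6 1} := by
        refine sup_le (fun x hx => mem_centralizer_singleton_iff.2 ?_) (zpowers_le.2 (mem_centralizer_singleton_iff.2 ?_))
        · exact ((h.tC x (pat_le_G0 O _ hx)).symm.mul_right (cD x hx)).eq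
        · exact ((h.tC _ O.n1_mem_G0).symm.mul_right (mul_inv_eq_iff_eq_mul.1 (O.n1_g 6 (by decide) 1))).eq
      exact mem_centralizer_singleton_iff.1 (this hx)
    · exact hP x (mem_sup_left hx) (T2.of_mem (O.isPGroup_pat _) hx)
    · exact hP _ (mem_sup_right (mem_zpowers _)) (T2.of_sq O.n1_sq)
  have y1 : O.g 6 1 ≠ 1 := fun e => one_ne_zero (O.g_eq_one.1 e)
  rcases inv_L O h.braid (hM _ (mem_sup_left yD)) (by
      rw [show g⁻¹ * O.g 6 1 * g * (g⁻¹ * O.g 6 1 * g) = g⁻¹ * (O.g 6 1 * O.g 6 1) * g by group, y2]; group)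
      (fun e => y1 (by rw [show O.g 6 1 = g * (g⁻¹ * O.g 6 1 * g) * g⁻¹ by group, e]; group)) with
    ⟨w, hw, ew⟩ | ⟨w, hw, ew⟩
  · refine hn ⟨w⁻¹ * g⁻¹, ?_⟩
    have e1 : t = g * (w * (t * O.τ) * w⁻¹) * g⁻¹ := by
      rw [h.fus_cj hw, ew, ← conj_mul, hg, show g * (g⁻¹ * O.g 6 1 * g) * g⁻¹ = O.g 6 1 by group, mul_assoc, y2,
        mul_one]
    conv_lhs => rw [e1]
    group
  have hP : IsPGroup 2 (Tech.cj (g * w)⁻¹ O.D3) := Tech.isPGroup_cj _ (O.isPGroup_pat _)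
  have gy : (g * w)⁻¹ * O.g 6 1 * (g * w)⁻¹⁻¹ = O.g 6 1 := by
    rw [show (g * w)⁻¹ * O.g 6 1 * (g * w)⁻¹⁻¹ = w⁻¹ * (g⁻¹ * O.g 6 1 * g) * w by group, ← ew]; group
  obtain ⟨l, hl, -, el⟩ := conj_D3 O h.braid hP
    (Tech.cj_le_iff.2 fun x hx => by
      rw [show (g * w)⁻¹ * x * (g * w)⁻¹⁻¹ = w⁻¹ * (g⁻¹ * x * g) * w by group]
      exact mul_mem (mul_mem (inv_mem hw) (hM x (mem_sup_left hx))) hw)
    (fun x hx => by
      have := fus_comm_conj (g * w)⁻¹ (cD _ (Tech.mem_cj.1 hx))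
      rwa [gy, show (g * w)⁻¹ * ((g * w)⁻¹⁻¹ * x * (g * w)⁻¹) * (g * w)⁻¹⁻¹ = x by group] at this)
  have hN : l * (g * w)⁻¹ ∈ normalizer (O.D3 : Set G) := Tech.mem_normalizer_of_forall fun x hx => by
    rw [show l * (g * w)⁻¹ * x * (l * (g * w)⁻¹)⁻¹ = l * ((g * w)⁻¹ * x * (g * w)⁻¹⁻¹) * l⁻¹ by group]
    exact el _ (Tech.conj_mem_cj.2 hx)
  have hE := inv_mem (norm_E2_of_D3 O.toOC h.big hN)
  have ek : (l * (g * w)⁻¹)⁻¹ * t * (l * (g * w)⁻¹)⁻¹⁻¹ = t * O.g 6 1 := by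
    rw [show (l * (g * w)⁻¹)⁻¹ * t * (l * (g * w)⁻¹)⁻¹⁻¹ = g * (w * (l⁻¹ * t * l⁻¹⁻¹) * w⁻¹) * g⁻¹ by group,
      h.fus_fix (inv_mem hl), h.fus_fix hw, hg]
  generalize (l * (g * w)⁻¹)⁻¹ = k at hE ek
  have yE : O.g 6 1 ∈ O.E2 := O.g_mem (by decide) 1
  have key : ∀ v ∈ O.V, v ≠ 1 → O.g 6 1 * (k * v * k⁻¹) ∈ O.V := fun v hv h1 => by
    by_contra hV
    obtain ⟨c, hc, r, hr, ec⟩ := O.conj_E2
      (mul_mem yE (Tech.conj_mem_of_mem_normalizer hE (O.pat_mono (by decide) hv))) hV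
    obtain ⟨u, hu, eu⟩ := O.cls_6 hr
    have hc' := pat_le_G0 O _ hc
    refine noV (k⁻¹ * c⁻¹ * u * k) v hv h1 ?_
    calc k⁻¹ * c⁻¹ * u * k * t * (k⁻¹ * c⁻¹ * u * k)⁻¹
        = k⁻¹ * (c⁻¹ * (u * (k * t * k⁻¹) * u⁻¹) * c⁻¹⁻¹) * k := by group
      _ = k⁻¹ * (t * O.g 6 1 * (k * v * k⁻¹)) * k := by
        rw [ek, h.fus_cj hu, eu, h.fus_cj (inv_mem hc'), ← ec]; group
      _ = t * v := by rw [← ek]; group
  have τV : O.τ ∈ O.V := O.g_mem (by decide) 1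
  have xV : O.g 8 1 ∈ O.V := O.g_mem (by decide) 1
  have k1 := key _ τV O.τ_ne
  have k2 := key _ xV fun e => one_ne_zero (O.g_eq_one.1 e)
  have k3 := key _ (mul_mem τV xV) fun e => O.z6_not_mem (by
    rw [eq_inv_of_mul_eq_one_right e]; exact inv_mem O.τ_mem)
  have cy : Commute (k * O.τ * k⁻¹) (O.g 6 1) := O.commute_pat (A := [5, 6, 8]) (B := [6]) (by decide)
    (Tech.conj_mem_of_mem_normalizer hE (O.g_mem (by decide) 1)) (O.g_mem (by decide) 1)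
  have k4 := mul_mem (mul_mem k1 k2) (inv_mem k3)
  rw [← conj_mul, mul_assoc (O.g 6 1), ← mul_assoc (k * O.τ * k⁻¹), cy.eq] at k4
  have : O.g 6 1 ∈ O.V := by
    convert k4 using 1
    group
  exact one_ne_zero ((O.g_mem_iff (by decide) (by decide)).1 this)

theorem Sit0.fus_z (h : Sit0 O t) (hs : ∃ g, g * t * g⁻¹ ≠ t ∧ Commute (g * t * g⁻¹) t) :
    ∃ g, g * t * g⁻¹ = t * O.τ := by
  obtain ⟨g, hne, hc⟩ := hs
  have s2 : g * t * g⁻¹ * (g * t * g⁻¹) = 1 := by rw [conj_mul, h.t2]; group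
  have hl := (h.inv_dec hc s2).resolve_left (h.not_mem_of_cb (cb_L O h.braid) g)
  have e : ∀ w ∈ O.G0, ∀ a, w * a * w⁻¹ = t * (g * t * g⁻¹) → w⁻¹ * g * t * (w⁻¹ * g)⁻¹ = t * a := fun w hw a e => by
    calc w⁻¹ * g * t * (w⁻¹ * g)⁻¹ = w⁻¹ * (t * (t * (g * t * g⁻¹))) * w⁻¹⁻¹ := by
          rw [← mul_assoc t t, h.t2]; group
      _ = t * a := by rw [h.fus_cj (inv_mem hw), ← e]; group
  rcases inv_L O h.braid hl (by
      rw [mul_assoc, ← mul_assoc _ t, hc.eq, mul_assoc t, s2, mul_one, h.t2])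
      (fun e => hne (by rw [eq_inv_of_mul_eq_one_right e, h.t_inv])) with ⟨w, hw, ew⟩ | ⟨w, hw, ew⟩
  · exact ⟨_, e w hw _ ew⟩
  · exact h.fus_y (e w hw _ ew)

theorem Sit0.fus_C (h : Sit0 O t) (hs : ∃ g, g * t * g⁻¹ = t * O.τ) :
    ∃ g ∈ normalizer (O.C : Set G), Commute g O.τ ∧ g * t * g⁻¹ = t * O.τ := by
  obtain ⟨g, hg⟩ := hs
  have hM : ∀ x ∈ O.C, g⁻¹ * x * g ∈ O.G0 := fun x hx => by
    refine h.fus_le g (fun x hx => ?_) (O.perfect h.big).ge (fun P hP => O.C_le_of_two hP) hx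
    rw [hg]
    exact (h.tC x (O.C_le_G0 hx)).symm.mul_right (O.C_cent_Z hx O.τ_mem)
  have hP : IsPGroup 2 (Tech.cj g⁻¹ O.U) := Tech.isPGroup_cj _ (O.isPGroup_pat _)
  obtain ⟨l, hl, el⟩ := conj_U O h.braid hP (Tech.cj_le_iff.2 fun x hx => by
    rw [inv_inv]; exact hM x (O.U_le_C hx))
  have hN : l * g⁻¹ ∈ normalizer (O.U : Set G) := Tech.mem_normalizer_of_forall fun x hx => by
    rw [show l * g⁻¹ * x * (l * g⁻¹)⁻¹ = l * (g⁻¹ * x * g⁻¹⁻¹) * l⁻¹ by group]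
    exact el _ (Tech.conj_mem_cj.2 hx)
  have hZ : l * g⁻¹ * O.τ * (l * g⁻¹)⁻¹ ∈ O.Z := by
    refine O.center_U (Tech.conj_mem_of_mem_normalizer hN (O.g_mem_U 5 1)) fun y hy => ?_
    have := fus_comm_conj (l * g⁻¹) (O.C_cent_Z (O.U_le_C (Tech.conj_mem_of_mem_normalizer' hN hy)) O.τ_mem).symm
    rwa [show l * g⁻¹ * ((l * g⁻¹)⁻¹ * y * (l * g⁻¹)) * (l * g⁻¹)⁻¹ = y by group] at this
  obtain ⟨y, hy, ey⟩ := O.ti_conj_Z hZ fun e => O.τ_ne (by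
    rw [show O.τ = (l * g⁻¹)⁻¹ * (l * g⁻¹ * O.τ * (l * g⁻¹)⁻¹) * (l * g⁻¹) by group, e]; group)
  have yL := O.H_le_G0 hy
  have e1 : (g * l⁻¹ * y)⁻¹ * O.τ * (g * l⁻¹ * y)⁻¹⁻¹ = O.τ := by
    rw [show (g * l⁻¹ * y)⁻¹ * O.τ * (g * l⁻¹ * y)⁻¹⁻¹ = y⁻¹ * (l * g⁻¹ * O.τ * (l * g⁻¹)⁻¹) * y by group, ← ey]
    group
  refine ⟨g * l⁻¹ * y, ?_, ?_, ?_⟩
  · rw [← inv_mem_iff]
    refine Tech.mem_normalizer_of_forall fun x hx => mem_C_of O h.braid ?_ ?_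
    · rw [show (g * l⁻¹ * y)⁻¹ * x * (g * l⁻¹ * y)⁻¹⁻¹ = y⁻¹ * (l * (g⁻¹ * x * g) * l⁻¹) * y by group]
      exact mul_mem (mul_mem (inv_mem yL) (mul_mem (mul_mem hl (hM x hx)) (inv_mem hl))) yL
    · have := fus_comm_conj (g * l⁻¹ * y)⁻¹ (O.C_cent_Z hx O.τ_mem)
      rwa [e1] at this
  · have : Commute (g * l⁻¹ * y)⁻¹ O.τ := mul_inv_eq_iff_eq_mul.1 e1
    exact Commute.inv_left_iff.1 this
  · rw [show g * l⁻¹ * y * t * (g * l⁻¹ * y)⁻¹ = g * (l⁻¹ * (y * t * y⁻¹) * l⁻¹⁻¹) * g⁻¹ by group, h.fus_fix yL,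
      h.fus_fix (inv_mem hl), hg]

theorem Sit0.sit (h : Sit0 O t) (hs : ∃ g, g * t * g⁻¹ ≠ t ∧ Commute (g * t * g⁻¹) t) : Sit O t := by
  have hf := h.fus_C (h.fus_z hs)
  refine { h with two := fun x hx h2 => ?_, fus := hf }
  obtain ⟨l, hl, k, hk, e⟩ := h.split x (h.CN x hx) h2
  have lk : Commute l k := mem_centralizer_iff.1 hk l hl
  have kt : Commute k t := by
    have := (h.tC l hl).symm.inv_left.mul_left hx
    rwa [e, inv_mul_cancel_left] at this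
  have k2 : T2 k := by
    obtain ⟨n, hn⟩ := h2
    rw [e, lk.mul_pow] at hn
    have h1 : l ^ 2 ^ n = 1 := eq_one_of_cent O h.braid (pow_mem hl _) fun y hy => by
      rw [eq_inv_of_mul_eq_one_left hn]
      exact (Commute.pow_right (mem_centralizer_iff.1 hk y hy) _).symm.inv_left
    exact ⟨n, by rwa [h1, one_mul] at hn⟩
  rcases h.exists_root hk kt k2 with rfl | rfl | ⟨r, hr, er⟩
  · left; rwa [e, mul_one]
  · right; rwa [e, lk.eq, ← mul_assoc, h.t2, one_mul]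
  exfalso
  obtain ⟨g, hg, -, eg⟩ := hf
  have rc : ∀ c ∈ O.C, Commute (g * r * g⁻¹) c := fun c hc => by
    have := fus_comm_conj g (Commute.symm
      (mem_centralizer_iff.1 hr _ (O.C_le_G0 (Tech.conj_mem_of_mem_normalizer' hg hc))))
    rwa [show g * (g⁻¹ * c * g) * g⁻¹ = c by group] at this
  have r2 : g * r * g⁻¹ * (g * r * g⁻¹) = t * O.τ := by rw [conj_mul, er, eg]
  generalize g * r * g⁻¹ = s at rc r2
  have tτ := h.tC _ (g_mem_G0 O 5 1)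
  have st : Commute s t := by
    have := ((Commute.refl s).mul_right (Commute.refl s)).mul_right (rc _ (O.g_mem_C 5 1))
    rwa [r2, mul_assoc, O.τ_sq, mul_one] at this
  have s2 : T2 s := ⟨2, by
    rw [show s ^ 2 ^ 2 = s * s * (s * s) by rw [show 2 ^ 2 = 2 + 2 from rfl, pow_add, pow_two], r2, mul_assoc,
      ← mul_assoc _ t, ← tτ.eq, mul_assoc t, O.τ_sq, mul_one, h.t2]⟩
  obtain ⟨l', hl', k', hk', e'⟩ := h.split s (h.CN s st) s2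
  have lc : ∀ c ∈ O.C, Commute l' c := fun c hc => by
    have := (rc c hc).mul_left (Commute.symm (mem_centralizer_iff.1 hk' c (O.C_le_G0 hc))).inv_left
    rwa [e', mul_inv_cancel_right] at this
  obtain ⟨a, ha⟩ := O.mem_Z.1 (O.cent_Q (mem_C_of O h.braid hl' (lc _ (O.g_mem_C 5 1))) fun y hy => lc y (O.pat_le_C _ hy))
  have lk' : Commute l' k' := mem_centralizer_iff.1 hk' l' hl'
  have e2 : O.τ = t * (k' * k') := by
    have : k' * k' = t * O.τ := by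
      rw [← r2, e', mul_assoc, ← mul_assoc k' l', ← lk'.eq, ← mul_assoc, ← mul_assoc, ha, O.a5, O.add_self, O.g_zero,
        one_mul]
    rw [this, ← mul_assoc, h.t2, one_mul]
  refine O.τ_ne (eq_one_of_cent O h.braid (g_mem_G0 O 5 1) fun y hy => ?_)
  have ky : Commute k' y := Commute.symm (mem_centralizer_iff.1 hk' y hy)
  rw [e2]
  exact (h.tC y hy).mul_left (ky.mul_left ky)

end CfsgLib.RF4
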