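import Mathlib
import Cfsg.Agent.Lib.RF4.Bas

set_option autoImplicit false
set_option Elab.async false
set_option linter.unusedSectionVars false

namespace CfsgLib.RF4

open Subgroup CfsgLib.F42
open scoped commutatorElement

/-! # Working with the hats (package HA) -/

variable {K : Type*} [Field K] [Finite K] {G : Type*} [Group G] [Finite G] {σ : K →+* K} {sz : Sz K} {O : OP σ sz G} {t : G} {hh : Fin 12 → K × K → G}

omit [Field K] [Finite K] [Finite G] in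
theorem hat_mem {S : List (Fin 12)} {j : Fin 12} (hj : j ∈ S) (p : K × K) : hh j p ∈ hat hh S := subset_closure ⟨j, hj, p, rfl⟩

omit [Field K] [Finite K] [Finite G] in
theorem hat_le {S : List (Fin 12)} {P : Subgroup G} : hat hh S ≤ P ↔ ∀ j ∈ S, ∀ p, hh j p ∈ P := by
  refine ⟨fun h j hj p => h (hat_mem hj p), fun h => (closure_le _).2 ?_⟩
  rintro _ ⟨j, hj, p, rfl⟩
  exact h j hj p

omit [Field K] [Finite K] [Finite G] in
theorem hat_mono {S T : List (Fin 12)} (h : ∀ j ∈ S, j ∈ T) : hat hh S ≤ hat hh T := hat_le.2 fun j hj p => hat_mem (h j hj) p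

omit [Field K] [Finite K] [Finite G] in
theorem commute_hat {S : List (Fin 12)} {x : G} (h : ∀ j ∈ S, ∀ p, Commute x (hh j p)) {e : G} (he : e ∈ hat hh S) :
    Commute x e := UFP.mem_cent1.1 (hat_le (P := centralizer {x}).2 (fun j hj p => UFP.mem_cent1.2 (h j hj p).eq) he)

namespace HH

variable (h : HH O t hh)
include h

omit h in
theorem ha_two (O : OP σ sz G) (p : K × K) : p + p = 0 := Prod.ext (O.add_self _) (O.add_self _)

omit h [Finite G] in
theorem ha_cj (n : G) {a b c a' b' c' : G} (e : a * b * a⁻¹ = b * c) (ha : n * a * n⁻¹ = a') (hb : n * b * n⁻¹ = b')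
    (hc : n * c * n⁻¹ = c') : a' * b' * a'⁻¹ = b' * c' := by
  subst ha hb hc
  calc _ = n * (a * b * a⁻¹) * n⁻¹ := by group
    _ = _ := by rw [e]; group

omit h [Finite G] in
theorem ha_mv {a b l m : G} (ha : a * t * a⁻¹ = t * l) (hb : b * t * b⁻¹ = t * m) (hc : Commute a m) :
    a * b * t * (a * b)⁻¹ = t * (l * m) := by
  calc _ = a * (b * t * b⁻¹) * a⁻¹ := by group
    _ = a * t * a⁻¹ * (a * m * a⁻¹) := by rw [hb]; group
    _ = _ := by rw [ha, hc.eq, mul_inv_cancel_right, mul_assoc]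

omit h in
theorem ha_E_inj (O : OP σ sz G) {a b c d e a' b' c' d' e' : K}
    (h : O.g 2 a * (O.g 3 b * (O.g 5 c * (O.g 6 d * O.g 8 e))) =
      O.g 2 a' * (O.g 3 b' * (O.g 5 c' * (O.g 6 d' * O.g 8 e')))) :
    a = a' ∧ b = b' ∧ c = c' ∧ d = d' ∧ e = e' := by
  have := O.nf_inj (a0 := 0) (a1 := 0) (a2 := a) (a3 := b) (a4 := 0) (a5 := c) (a6 := d) (a7 := 0) (a8 := e)
    (a9 := 0) (a10 := 0) (a11 := 0) (b0 := 0) (b1 := 0) (b2 := a') (b3 := b') (b4 := 0) (b5 := c') (b6 := d')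
    (b7 := 0) (b8 := e') (b9 := 0) (b10 := 0) (b11 := 0) (by simpa only [O.g_zero, one_mul, mul_one] using h)
  tauto

theorem ha_ti : t⁻¹ = t := inv_eq_of_mul_eq_one_right h.t2

theorem ha_tC {x : G} (hx : x ∈ O.C) : Commute t x := h.tC x (O.ti_C_le_G0 hx)

theorem zero {j : Fin 12} (hj : j ∈ JH) : hh j 0 = 1 := by
  rw [← O.g_zero j, ← h.base j hj]; rfl

theorem sq {j : Fin 12} (hj : j ∈ JH) (p : K × K) : hh j p * hh j p = 1 := by
  rw [← h.add j hj, ha_two O, h.zero hj]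

theorem inv {j : Fin 12} (hj : j ∈ JH) (p : K × K) : (hh j p)⁻¹ = hh j p := inv_eq_of_mul_eq_one_right (h.sq hj p)

theorem inj {j : Fin 12} (hj : j ∈ JH) {p p' : K × K} (e : hh j p = hh j p') : p = p' := by
  have e1 : p.1 = p'.1 := O.g_inj j (mul_left_cancel (a := t) (by rw [← h.mv j hj, ← h.mv j hj, e]))
  have e2 : hh j (p + p') = 1 := by rw [h.add j hj, e, h.sq hj]
  have e3 : p + p' = (0, p.2 + p'.2) := Prod.ext (O.add_eq_zero.2 e1) rfl
  rw [e3, h.base j hj, O.g_eq_one, O.add_eq_zero] at e2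
  exact Prod.ext e1 e2

theorem tconj {j : Fin 12} (hj : j ∈ JH) (p : K × K) : t * hh j p * t⁻¹ = hh j (p.1, p.2 + p.1) := by
  have e := h.mv j hj p
  have e2 : ((p.1, p.2 + p.1) : K × K) = (0, p.1) + p := Prod.ext (zero_add _).symm (add_comm _ _)
  rw [e2, h.add j hj, h.base j hj]
  calc _ = t⁻¹ * (hh j p * t * (hh j p)⁻¹) * hh j p := by rw [h.ha_ti]; group
    _ = _ := by rw [e]; group

theorem not_comm : ¬ Commute (hh 5 (1, 0)) t := by
  intro hc
  have e := h.mv 5 (by decide) (1, 0)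
  rw [hc.eq, mul_inv_cancel_right, left_eq_mul, O.g_eq_one] at e
  exact one_ne_zero e

theorem pat_le {S : List (Fin 12)} (hS : ∀ j ∈ S, j ∈ JH) : O.pat S ≤ hat hh S := O.pat_le.2 fun j hj c => h.base j (hS j hj) c ▸ hat_mem hj (0, c)

theorem co_hat {S : List (Fin 12)} (hS : ∀ j ∈ S, j ∈ JH) {e : G} (he : e ∈ hat hh S) : CO O t e := fun o ho => (commute_hat (fun j hj p => (h.co j (hS j hj) p o ho).symm) he).symm

theorem cpat {j : Fin 12} (hj : j ∈ JH) {S : List (Fin 12)} (hS : Cl [j] S []) (p : K × K) {x : G} (hx : x ∈ O.pat S) :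
    Commute (hh j p) x := by
  refine UFP.mem_cent1.1 (O.pat_le (P := centralizer {hh j p}).2 (fun k hk u => UFP.mem_cent1.2 ?_) hx)
  exact (h.cg j hj k (List.eq_nil_iff_forall_not_mem.2 fun i hi =>
    List.not_mem_nil (hS j (List.mem_singleton_self j) k hk i hi)) p u).eq

theorem hat_cpat {S T : List (Fin 12)} (hS : ∀ j ∈ S, j ∈ JH) (hc : Cl S T []) {e x : G} (he : e ∈ hat hh S)
    (hx : x ∈ O.pat T) : Commute e x := by
  refine (commute_hat (fun j hj p => (h.cpat (hS j hj) ?_ p hx).symm) he).symm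
  intro j' hj'
  rw [List.mem_singleton.1 hj']
  exact hc j hj

theorem hat_comm {S T : List (Fin 12)} (hS : ∀ j ∈ S, j ∈ JH) (hT : ∀ j ∈ T, j ∈ JH) (hc : Cl S T [])
    (hf : ∀ j ∈ S, ∀ k ∈ T, ¬ Far j k) {e e' : G} (he : e ∈ hat hh S) (he' : e' ∈ hat hh T) : Commute e e' := by
  refine (commute_hat (fun j hj p => (commute_hat (fun k hk p' => ?_) he').symm) he).symm
  exact h.cc j (hS j hj) k (hT k hk) (List.eq_nil_iff_forall_not_mem.2 fun i hi =>
    List.not_mem_nil (hc j hj k hk i hi)) (hf j hj k hk) p p'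

theorem c5 (p : K × K) {x : G} (hx : x ∈ O.C) : Commute (hh 5 p) x := by
  refine UFP.mem_cent1.1 ((show O.C ≤ centralizer {hh 5 p} from sup_le (sup_le ?_ ?_) ?_) hx)
  · intro y hy
    exact UFP.mem_cent1.2 (h.cpat (by decide) (by decide) p hy).eq
  · rintro _ ⟨l, rfl⟩
    have e1 := O.h_g (l * su σ l) (su σ l)⁻¹ 5 1
    rw [O.h_h8, O.h8_g, wt8_five, mul_one, mul_one] at e1
    have e2 := h.hc 5 (by decide) (l * su σ l) (su σ l)⁻¹ p
    rw [O.h_h8, ← O.g_inj 5 e1, one_smul, mul_inv_eq_iff_eq_mul] at e2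
    exact UFP.mem_cent1.2 e2.symm
  · have e := h.n8c 5 (by decide) (by decide) p
    rw [mul_inv_eq_iff_eq_mul] at e
    exact zpowers_le.2 (UFP.mem_cent1.2 e.symm)

/-! the one-term relations -/

theorem x9 (u : K) (p : K × K) : O.g 9 u * hh 2 p * (O.g 9 u)⁻¹ = hh 2 p * hh 5 (u • p) := ha_cj O.n8 (h.x0 u p) (O.n8_g 0 (by decide) u) (h.n8c 8 (by decide) (by decide) p)
  (h.n8c 5 (by decide) (by decide) _)

theorem x3 (u : K) (p : K × K) : O.g 3 u * hh 11 p * (O.g 3 u)⁻¹ = hh 11 p * hh 8 (u • p) := ha_cj O.n1 (h.x9 u p) (O.n1_g 9 (by decide) u) (h.n1c 2 (by decide) (by decide) p)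
  (h.n1c 5 (by decide) (by decide) _)

theorem y10 (u : K) (p : K × K) : O.g 10 u * hh 6 p * (O.g 10 u)⁻¹ = hh 6 p * hh 8 (u • p) := ha_cj O.n1 (h.y1 u p) (O.n1_g 1 (by decide) u) (h.n1c 6 (by decide) (by decide) p)
  (h.n1c 5 (by decide) (by decide) _)

theorem y7 (u : K) (p : K × K) : O.g 7 u * hh 3 p * (O.g 7 u)⁻¹ = hh 3 p * hh 5 (u • p) := ha_cj O.n8 (h.y1 u p) (O.n8_g 1 (by decide) u) (h.n8c 6 (by decide) (by decide) p)
  (h.n8c 5 (by decide) (by decide) _)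

theorem y49 (u : K) (p : K × K) : O.g 4 u * hh 9 p * (O.g 4 u)⁻¹ = hh 9 p * hh 8 (u • p) := ha_cj O.n1 (h.y7 u p) (O.n1_g 7 (by decide) u) (h.n1c 3 (by decide) (by decide) p)
  (h.n1c 5 (by decide) (by decide) _)

theorem y40 (u : K) (p : K × K) : O.g 4 u * hh 0 p * (O.g 4 u)⁻¹ = hh 0 p * hh 2 (u • p) := ha_cj O.n8 (h.y49 u p) (O.n8_g 4 (by decide) u) (h.n8c 9 (by decide) (by decide) p)
  (h.n8c 8 (by decide) (by decide) _)

/-! the groups `Ê2` and `Ê4` -/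

theorem ha_cE {j k : Fin 12} (p p' : K × K) (hj : j ∈ ([2, 3, 5, 6, 8] : List (Fin 12)) := by decide)
    (hk : k ∈ ([2, 3, 5, 6, 8] : List (Fin 12)) := by decide) : Commute (hh j p) (hh k p') :=
  h.hat_comm (S := [2, 3, 5, 6, 8]) (T := [2, 3, 5, 6, 8]) (by decide) (by decide) (by decide) (by decide)
    (hat_mem hj p) (hat_mem hk p')

theorem ha_mul2 (a b c a' b' c' : K × K) : hh 5 a * hh 6 b * hh 8 c * (hh 5 a' * hh 6 b' * hh 8 c') =
    hh 5 (a + a') * hh 6 (b + b') * hh 8 (c + c') := by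
  rw [((h.ha_cE c a').mul_right (h.ha_cE c b')).mul_mul_mul_comm, (h.ha_cE b a').mul_mul_mul_comm,
    h.add 5 (by decide), h.add 6 (by decide), h.add 8 (by decide)]

theorem ha_mul4 (a b c d f a' b' c' d' f' : K × K) :
    hh 2 a * hh 3 b * (hh 5 c * hh 6 d * hh 8 f) * (hh 2 a' * hh 3 b' * (hh 5 c' * hh 6 d' * hh 8 f')) =
    hh 2 (a + a') * hh 3 (b + b') * (hh 5 (c + c') * hh 6 (d + d') * hh 8 (f + f')) := by
  rw [((((h.ha_cE c a').mul_left (h.ha_cE d a')).mul_left (h.ha_cE f a')).mul_right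
    (((h.ha_cE c b').mul_left (h.ha_cE d b')).mul_left (h.ha_cE f b'))).mul_mul_mul_comm,
    (h.ha_cE b a').mul_mul_mul_comm, h.ha_mul2, h.add 2 (by decide), h.add 3 (by decide)]

theorem ha_mv2 (a b c : K × K) : hh 5 a * hh 6 b * hh 8 c * t * (hh 5 a * hh 6 b * hh 8 c)⁻¹ =
    t * (O.g 5 a.1 * (O.g 6 b.1 * O.g 8 c.1)) := by
  rw [ha_mv (ha_mv (h.mv 5 (by decide) a) (h.mv 6 (by decide) b) (h.cg 5 (by decide) 6 (by decide) _ _))
    (h.mv 8 (by decide) c) ((h.cg 5 (by decide) 8 (by decide) _ _).mul_left (h.cg 6 (by decide) 8 (by decide) _ _)),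
    mul_assoc]

theorem ha_mv4 (a b c d f : K × K) : hh 2 a * hh 3 b * (hh 5 c * hh 6 d * hh 8 f) * t *
    (hh 2 a * hh 3 b * (hh 5 c * hh 6 d * hh 8 f))⁻¹ =
    t * (O.g 2 a.1 * (O.g 3 b.1 * (O.g 5 c.1 * (O.g 6 d.1 * O.g 8 f.1)))) := by
  have hm : O.g 5 c.1 * (O.g 6 d.1 * O.g 8 f.1) ∈ O.E2 := (mem_E2_iff _).2 ⟨_, _, _, rfl⟩
  rw [ha_mv (ha_mv (h.mv 2 (by decide) a) (h.mv 3 (by decide) b) (h.cg 2 (by decide) 3 (by decide) _ _))
    (h.ha_mv2 c d f) ((h.cpat (by decide) (by decide) _ hm).mul_left (h.cpat (by decide) (by decide) _ hm)),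
    mul_assoc]

theorem mem2 {e : G} : e ∈ hat hh [5, 6, 8] ↔ ∃ a b c, e = hh 5 a * hh 6 b * hh 8 c := by
  refine ⟨fun he => ?_, ?_⟩
  · induction he using closure_induction with
    | mem x hx =>
      obtain ⟨j, hj, p, rfl⟩ := hx
      simp only [List.mem_cons, List.not_mem_nil, or_false] at hj
      rcases hj with rfl | rfl | rfl
      · exact ⟨p, 0, 0, by rw [h.zero (j := 6) (by decide), h.zero (j := 8) (by decide), mul_one, mul_one]⟩
      · exact ⟨0, p, 0, by rw [h.zero (j := 5) (by decide), h.zero (j := 8) (by decide), mul_one, one_mul]⟩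
      · exact ⟨0, 0, p, by rw [h.zero (j := 5) (by decide), h.zero (j := 6) (by decide), mul_one, one_mul]⟩
    | one => exact ⟨0, 0, 0, by
        rw [h.zero (j := 5) (by decide), h.zero (j := 6) (by decide), h.zero (j := 8) (by decide), mul_one, mul_one]⟩
    | mul x y _ _ hx hy =>
      obtain ⟨a, b, c, rfl⟩ := hx
      obtain ⟨a', b', c', rfl⟩ := hy
      exact ⟨_, _, _, h.ha_mul2 a b c a' b' c'⟩
    | inv x _ hx =>
      obtain ⟨a, b, c, rfl⟩ := hx
      refine ⟨a, b, c, inv_eq_of_mul_eq_one_right ?_⟩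
      rw [h.ha_mul2, ha_two O, ha_two O, ha_two O, h.zero (j := 5) (by decide), h.zero (j := 6) (by decide),
        h.zero (j := 8) (by decide), mul_one, mul_one]
  · rintro ⟨a, b, c, rfl⟩
    repeat' first | exact hat_mem (by decide) _ | apply mul_mem

theorem ha_one4 : hh 2 0 * hh 3 0 * (hh 5 0 * hh 6 0 * hh 8 0) = 1 := by
  rw [h.zero (j := 2) (by decide), h.zero (j := 3) (by decide), h.zero (j := 5) (by decide),
    h.zero (j := 6) (by decide), h.zero (j := 8) (by decide), mul_one, mul_one, mul_one]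

theorem ha_sq4 (a b c d f : K × K) :
    hh 2 a * hh 3 b * (hh 5 c * hh 6 d * hh 8 f) * (hh 2 a * hh 3 b * (hh 5 c * hh 6 d * hh 8 f)) = 1 := by
  rw [h.ha_mul4, ha_two O, ha_two O, ha_two O, ha_two O, ha_two O, h.ha_one4]

theorem mem4 {e : G} : e ∈ hat hh [2, 3, 5, 6, 8] ↔ ∃ a b c d f, e = hh 2 a * hh 3 b * (hh 5 c * hh 6 d * hh 8 f) := by
  have z2 := h.zero (j := 2) (by decide)
  have z3 := h.zero (j := 3) (by decide)
  have z5 := h.zero (j := 5) (by decide)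
  have z6 := h.zero (j := 6) (by decide)
  have z8 := h.zero (j := 8) (by decide)
  refine ⟨fun he => ?_, ?_⟩
  · induction he using closure_induction with
    | mem x hx =>
      obtain ⟨j, hj, p, rfl⟩ := hx
      simp only [List.mem_cons, List.not_mem_nil, or_false] at hj
      rcases hj with rfl | rfl | rfl | rfl | rfl
      · exact ⟨p, 0, 0, 0, 0, by simp only [z2, z3, z5, z6, z8, mul_one, one_mul]⟩
      · exact ⟨0, p, 0, 0, 0, by simp only [z2, z3, z5, z6, z8, mul_one, one_mul]⟩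
      · exact ⟨0, 0, p, 0, 0, by simp only [z2, z3, z5, z6, z8, mul_one, one_mul]⟩
      · exact ⟨0, 0, 0, p, 0, by simp only [z2, z3, z5, z6, z8, mul_one, one_mul]⟩
      · exact ⟨0, 0, 0, 0, p, by simp only [z2, z3, z5, z6, z8, mul_one, one_mul]⟩
    | one => exact ⟨0, 0, 0, 0, 0, h.ha_one4.symm⟩
    | mul x y _ _ hx hy =>
      obtain ⟨a, b, c, d, f, rfl⟩ := hx
      obtain ⟨a', b', c', d', f', rfl⟩ := hy
      exact ⟨_, _, _, _, _, h.ha_mul4 a b c d f a' b' c' d' f'⟩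
    | inv x _ hx =>
      obtain ⟨a, b, c, d, f, rfl⟩ := hx
      exact ⟨a, b, c, d, f, inv_eq_of_mul_eq_one_right (h.ha_sq4 a b c d f)⟩
  · rintro ⟨a, b, c, d, f, rfl⟩
    repeat' first | exact hat_mem (by decide) _ | apply mul_mem

theorem ha_base4 (a b c d f : K) : hh 2 (0, a) * hh 3 (0, b) * (hh 5 (0, c) * hh 6 (0, d) * hh 8 (0, f)) =
    O.g 2 a * (O.g 3 b * (O.g 5 c * (O.g 6 d * O.g 8 f))) := by
  rw [h.base 2 (by decide), h.base 3 (by decide), h.base 5 (by decide), h.base 6 (by decide), h.base 8 (by decide)]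
  simp only [mul_assoc]

theorem inj4 {a b c d f a' b' c' d' f' : K × K}
    (e : hh 2 a * hh 3 b * (hh 5 c * hh 6 d * hh 8 f) = hh 2 a' * hh 3 b' * (hh 5 c' * hh 6 d' * hh 8 f')) :
    a = a' ∧ b = b' ∧ c = c' ∧ d = d' ∧ f = f' := by
  have e1 := h.ha_mv4 a b c d f
  rw [e, h.ha_mv4, mul_right_inj] at e1
  obtain ⟨a1, b1, c1, d1, f1⟩ := ha_E_inj O e1
  have e2 := h.ha_mul4 a b c d f a' b' c' d' f'
  have k : ∀ {p p' : K × K}, p'.1 = p.1 → p + p' = (0, p.2 + p'.2) := fun e => Prod.ext (O.add_eq_zero.2 e.symm) rfl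
  rw [e, h.ha_sq4, k a1, k b1, k c1, k d1, k f1, h.ha_base4, ← h.ha_one4] at e2
  replace e2 := (h.ha_base4 0 0 0 0 0).symm.trans e2
  obtain ⟨a2, b2, c2, d2, f2⟩ := ha_E_inj O e2
  exact ⟨Prod.ext a1.symm (O.add_eq_zero.1 a2.symm), Prod.ext b1.symm (O.add_eq_zero.1 b2.symm),
    Prod.ext c1.symm (O.add_eq_zero.1 c2.symm), Prod.ext d1.symm (O.add_eq_zero.1 d2.symm),
    Prod.ext f1.symm (O.add_eq_zero.1 f2.symm)⟩

theorem inj2 {c d f c' d' f' : K × K} (e : hh 5 c * hh 6 d * hh 8 f = hh 5 c' * hh 6 d' * hh 8 f') :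
    c = c' ∧ d = d' ∧ f = f' := (h.inj4 (a := 0) (b := 0) (a' := 0) (b' := 0) (by rw [e])).2.2

theorem mul2 (a b c a' b' c' : K × K) : hh 5 a * hh 6 b * hh 8 c * (hh 5 a' * hh 6 b' * hh 8 c') =
    hh 5 (a + a') * hh 6 (b + b') * hh 8 (c + c') := h.ha_mul2 a b c a' b' c'

theorem mv2 (a b c : K × K) : hh 5 a * hh 6 b * hh 8 c * t * (hh 5 a * hh 6 b * hh 8 c)⁻¹ =
    t * (O.g 5 a.1 * (O.g 6 b.1 * O.g 8 c.1)) := h.ha_mv2 a b c

theorem sq4 {e : G} (he : e ∈ hat hh [2, 3, 5, 6, 8]) : e * e = 1 := by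
  obtain ⟨a, b, c, d, f, rfl⟩ := h.mem4.1 he
  exact h.ha_sq4 a b c d f

theorem ker4 {S : List (Fin 12)} (hS : S = [5, 6, 8] ∨ S = [2, 3, 5, 6, 8]) {e : G} (he : e ∈ hat hh S)
    (hc : Commute e t) : e ∈ O.pat S := by
  have g0 := O.g_zero
  rcases hS with rfl | rfl
  · obtain ⟨a, b, c, rfl⟩ := h.mem2.1 he
    have e := h.ha_mv2 a b c
    rw [hc.eq, mul_inv_cancel_right, left_eq_mul] at e
    obtain ⟨a1, b1, c1⟩ := E2_inj O.toOC (a' := 0) (b' := 0) (c' := 0) (e.trans (by simp only [g0, mul_one]))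
    rw [show a = (0, a.2) from Prod.ext a1 rfl, show b = (0, b.2) from Prod.ext b1 rfl,
      show c = (0, c.2) from Prod.ext c1 rfl, h.base 5 (by decide), h.base 6 (by decide), h.base 8 (by decide)]
    repeat' first | exact O.g_mem (by decide) _ | apply mul_mem
  · obtain ⟨a, b, c, d, f, rfl⟩ := h.mem4.1 he
    have e := h.ha_mv4 a b c d f
    rw [hc.eq, mul_inv_cancel_right, left_eq_mul] at e
    obtain ⟨a1, b1, c1, d1, f1⟩ := ha_E_inj O (a' := 0) (b' := 0) (c' := 0) (d' := 0) (e' := 0)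
      (e.trans (by simp only [g0, mul_one]))
    rw [show a = (0, a.2) from Prod.ext a1 rfl, show b = (0, b.2) from Prod.ext b1 rfl,
      show c = (0, c.2) from Prod.ext c1 rfl, show d = (0, d.2) from Prod.ext d1 rfl,
      show f = (0, f.2) from Prod.ext f1 rfl, h.ha_base4]
    repeat' first | exact O.g_mem (by decide) _ | apply mul_mem

theorem ha_ct {g e : G} (he : e * e = 1) (e1 : g * t * g⁻¹ = t * e) : Commute e t := by
  have e2 : t * e * (t * e) = 1 := by rw [← e1, conj_mul, h.t2, mul_one, mul_inv_cancel]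
  have e3 : e⁻¹ = e := inv_eq_of_mul_eq_one_right he
  have e4 := inv_eq_of_mul_eq_one_right e2
  rw [mul_inv_rev, e3, h.ha_ti] at e4
  exact e4

theorem ha_rho2 {e : G} (he : e ∈ hat hh [5, 6, 8]) : ∃ l ∈ O.E2, e * t * e⁻¹ = t * l := by
  obtain ⟨a, b, c, rfl⟩ := h.mem2.1 he
  exact ⟨_, (mem_E2_iff _).2 ⟨_, _, _, rfl⟩, h.ha_mv2 a b c⟩

theorem ha_rho4 {e : G} (he : e ∈ hat hh [2, 3, 5, 6, 8]) : ∃ l ∈ O.E, e * t * e⁻¹ = t * l := by
  obtain ⟨a, b, c, d, f, rfl⟩ := h.mem4.1 he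
  exact ⟨_, (mem_E_iff _).2 ⟨_, _, _, _, _, rfl⟩, h.ha_mv4 a b c d f⟩

theorem loc2 {g : G} (g1 : ∀ x ∈ O.pat X7, Commute g x) (g2 : Commute g (hh 5 (1, 0)))
    (g3 : ∃ e ∈ hat hh [5, 6, 8], g * t * g⁻¹ = t * e) (g4 : T2 g ∨ ∃ s, CO O t s ∧ s * g * s⁻¹ = g⁻¹) :
    g ∈ hat hh [5, 6, 8] := by
  have hm : hat hh [5, 6, 8] ≤ hat hh [2, 3, 5, 6, 8] := hat_mono (by decide)
  obtain ⟨e, he, g3⟩ := g3
  refine h.toSit.loc h.toSit.cen_X7 (fun e he => T2.of_sq (h.sq4 (hm he))) (h.pat_le (by decide))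
    (fun e he x hx => h.hat_cpat (by decide) (by decide) he hx) (fun e he => h.co_hat (by decide) he) ?_
    h.not_comm (h.co 5 (by decide) _)
    (fun e he => h.hat_comm (S := [5]) (by decide) (by decide) (by decide) (by decide) (hat_mem (by decide) _) he)
    g1 g2 ⟨e, h.ker4 (.inl rfl) he (h.ha_ct (h.sq4 (hm he)) g3), g3⟩ g4
  intro l hl
  obtain ⟨a, b, c, rfl⟩ := (mem_E2_iff _).1 hl
  exact ⟨_, h.mem2.2 ⟨(a, 0), (b, 0), (c, 0), rfl⟩, h.ha_mv2 _ _ _⟩

theorem loc4 {g : G} (g1 : ∀ x ∈ O.Ph, Commute g x) (g2 : Commute g (hh 5 (1, 0)))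
    (g3 : ∃ e ∈ hat hh [2, 3, 5, 6, 8], g * t * g⁻¹ = t * e) (g4 : T2 g ∨ ∃ s, CO O t s ∧ s * g * s⁻¹ = g⁻¹) :
    g ∈ hat hh [2, 3, 5, 6, 8] := by
  obtain ⟨e, he, g3⟩ := g3
  refine h.toSit.loc h.toSit.cen_Ph (fun e he => T2.of_sq (h.sq4 he)) (h.pat_le (by decide))
    (fun e he x hx => h.hat_cpat (by decide) (by decide) he hx) (fun e he => h.co_hat (by decide) he) ?_
    h.not_comm (h.co 5 (by decide) _)
    (fun e he => h.hat_comm (S := [5]) (by decide) (by decide) (by decide) (by decide) (hat_mem (by decide) _) he)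
    g1 g2 ⟨e, h.ker4 (.inr rfl) he (h.ha_ct (h.sq4 he) g3), g3⟩ g4
  intro l hl
  obtain ⟨a, b, c, d, f, rfl⟩ := (mem_E_iff _).1 hl
  exact ⟨_, h.mem4.2 ⟨(a, 0), (b, 0), (c, 0), (d, 0), (f, 0), rfl⟩, h.ha_mv4 _ _ _ _ _⟩

omit h [Finite G] in
theorem ha_cc {u e : G} {X : Subgroup G} (hu : u ∈ normalizer (X : Set G)) (he : ∀ x ∈ X, Commute e x) :
    ∀ x ∈ X, Commute (u * e * u⁻¹) x := fun x hx => by
  have h1 := (he _ (Tech.conj_mem_of_mem_normalizer' hu hx)).map (MulAut.conj u)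
  simpa [mul_assoc] using h1

omit h [Finite G] in
theorem ha_cmv {u e l : G} (hu : Commute t u) (he : e * t * e⁻¹ = t * l) :
    u * e * u⁻¹ * t * (u * e * u⁻¹)⁻¹ = t * (u * l * u⁻¹) := by
  have e1 : u⁻¹ * t * u = t := by rw [mul_assoc, hu.eq, inv_mul_cancel_left]
  calc _ = u * (e * (u⁻¹ * t * u) * e⁻¹) * u⁻¹ := by group
    _ = u * t * l * u⁻¹ := by rw [e1, he]; group
    _ = _ := by rw [← hu.eq]; group

theorem U_norm2 : O.U ≤ normalizer (hat hh [5, 6, 8] : Set G) := by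
  intro u hu
  refine Tech.mem_normalizer_of_forall fun e he => ?_
  have hC := O.U_le_C hu
  obtain ⟨l, hl, e1⟩ := h.ha_rho2 he
  have c5 := (h.c5 (1, 0) hC).symm
  refine h.loc2 (ha_cc (O.pat_norm (by decide) hu) fun x hx => h.hat_cpat (by decide) (by decide) he hx)
    ((c5.mul_left (h.hat_comm (T := [5]) (by decide) (by decide) (by decide) (by decide) he
      (hat_mem (by decide) _))).mul_left c5.inv_left)
    ⟨_, h.pat_le (by decide) (O.conj_mem (by decide) hu hl), ha_cmv (h.ha_tC hC) e1⟩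
    (.inl ((T2.of_sq (h.sq4 (hat_mono (by decide) he))).conj u))

theorem C_norm4 : O.C ≤ normalizer (hat hh [2, 3, 5, 6, 8] : Set G) := by
  intro u hC
  refine Tech.mem_normalizer_of_forall fun e he => ?_
  obtain ⟨l, hl, e1⟩ := h.ha_rho4 he
  have c5 := (h.c5 (1, 0) hC).symm
  refine h.loc4 (ha_cc (O.C_norm_Ph hC) fun x hx => h.hat_cpat (by decide) (by decide) he hx)
    ((c5.mul_left (h.hat_comm (T := [5]) (by decide) (by decide) (by decide) (by decide) he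
      (hat_mem (by decide) _))).mul_left c5.inv_left)
    ⟨_, h.pat_le (by decide) (Tech.conj_mem_of_mem_normalizer (O.C_norm_E hC) hl), ha_cmv (h.ha_tC hC) e1⟩
    (.inl ((T2.of_sq (h.sq4 he)).conj u))

theorem ha_c5 {z x : G} (hz : z ∈ hat hh [5]) (hx : x ∈ O.C) : Commute z x :=
  (commute_hat (fun j hj p => by rw [List.mem_singleton.1 hj]; exact (h.c5 p hx).symm) hz).symm

theorem ha_tv {j : Fin 12} (hj : j = 2 ∨ j = 3) (p : K × K) {y : G} (hy : y ∈ O.pat X7) :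
    ∃ z ∈ hat hh [5], hh j p * y * (hh j p)⁻¹ = y * z := by
  have hJ : j ∈ JH := by rcases hj with rfl | rfl <;> decide
  have key : ∀ {a s z : G}, a * s * a⁻¹ = s * z → s⁻¹ = s → Commute z a → s * a * s⁻¹ = a * z := by
    intro a s z e hs hc
    calc _ = s⁻¹ * (a * s * a⁻¹) * a := by rw [hs]; group
      _ = _ := by rw [e, inv_mul_cancel_left, hc.eq]
  refine O.pat_ind (p := fun y => ∃ z ∈ hat hh [5], hh j p * y * (hh j p)⁻¹ = y * z) hy
    ⟨1, one_mem _, by group⟩ ?_ ?_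
  · intro k hk u
    have : cm j k = [] ∨ (j = 2 ∧ k = 9) ∨ (j = 3 ∧ k = 7) := by
      rcases hj with rfl | rfl <;> revert k <;> decide
    rcases this with e | ⟨rfl, rfl⟩ | ⟨rfl, rfl⟩
    · exact ⟨1, one_mem _, by rw [(h.cg j hJ k e p u).eq, mul_inv_cancel_right, mul_one]⟩
    · exact ⟨_, hat_mem (by decide) _, key (h.x9 u p) (h.inv hJ p) (h.c5 _ (O.g_mem_C _ _))⟩
    · exact ⟨_, hat_mem (by decide) _, key (h.y7 u p) (h.inv hJ p) (h.c5 _ (O.g_mem_C _ _))⟩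
  · rintro x - y hy ⟨z, hz, e⟩ ⟨z', hz', e'⟩
    refine ⟨z * z', mul_mem hz hz', ?_⟩
    rw [← conj_mul, e, e', (h.ha_c5 hz (O.pat_le_C _ hy)).mul_mul_mul_comm]

/-- elements acting on `X7` by transvections: the hats of `x2`, `x3` -/
theorem cX7 {j : Fin 12} (hj : j = 2 ∨ j = 3) {u : G} (hu : u ∈ O.pat [2, 3, 4, 5, 6, 7, 8, 9, 11] ∨ j = 3 ∧ u ∈ O.pat [10])
    (p : K × K) : hh j p * (u * hh j p * u⁻¹) ∈ hat hh [5, 6, 8] := by
  have hJ : j ∈ JH := by rcases hj with rfl | rfl <;> decide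
  have hE : j ∈ ([2, 3, 5, 6, 8] : List (Fin 12)) := by rcases hj with rfl | rfl <;> decide
  have hU : u ∈ O.U := hu.elim (fun hu => O.pat_le_U _ hu) fun hu => O.pat_le_U _ hu.2
  have hC := O.U_le_C hU
  have si := h.inv hJ p
  have c5 := (h.c5 (1, 0) hC).symm
  have c5' : Commute (hh j p) (hh 5 (1, 0)) := h.ha_cE _ _ hE
  refine h.loc2 ?_ (c5'.mul_left ((c5.mul_left c5').mul_left c5.inv_left)) ?_
    (.inr ⟨hh j p, h.co j hJ p, ?_⟩)
  · intro y hy
    obtain ⟨z, hz, e⟩ := h.ha_tv hj p hy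
    have hd : Commute (hh j p) ⁅y⁻¹, u⁻¹⁆ := by
      rcases hu with hu | ⟨rfl, hu⟩
      · exact h.cpat hJ (by rcases hj with rfl | rfl <;> decide) p
          (O.comm_mem (D := [5, 6, 8]) (by decide) (by decide) (by decide) (inv_mem hy) (inv_mem hu))
      · exact h.cpat hJ (by decide) p
          (O.comm_mem (D := E3) (by decide) (by decide) (by decide) (inv_mem hy) (inv_mem hu))
    have hdC : ⁅y⁻¹, u⁻¹⁆ ∈ O.C := by
      have := O.pat_le_C _ hy
      rw [commutatorElement_def]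
      exact mul_mem (mul_mem (mul_mem (inv_mem this) (inv_mem hC)) (inv_mem (inv_mem this))) (inv_mem (inv_mem hC))
    have z1 := h.ha_c5 hz hdC
    have z2 := h.ha_c5 hz hC
    have z3 : Commute (hh j p) z := h.hat_comm (S := [j]) (by simpa using hJ) (by decide)
      (by rcases hj with rfl | rfl <;> decide) (by rcases hj with rfl | rfl <;> decide)
      (hat_mem (List.mem_singleton_self j) p) hz
    have z4 : z * z = 1 := h.sq4 (hat_mono (by decide) hz)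
    have e1 : hh j p * (u⁻¹ * y * u) * (hh j p)⁻¹ = u⁻¹ * y * u * z := by
      calc _ = hh j p * y * (hh j p)⁻¹ * (hh j p * ⁅y⁻¹, u⁻¹⁆ * (hh j p)⁻¹) := by
            rw [commutatorElement_def]; group
        _ = y * (z * ⁅y⁻¹, u⁻¹⁆) := by rw [e, hd.eq, mul_inv_cancel_right, mul_assoc]
        _ = _ := by rw [z1.eq, commutatorElement_def]; group
    refine mul_inv_eq_iff_eq_mul.1 ?_
    calc _ = hh j p * (u * (hh j p * (u⁻¹ * y * u) * (hh j p)⁻¹) * u⁻¹) * (hh j p)⁻¹ := by group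
      _ = hh j p * y * (u * z * u⁻¹) * (hh j p)⁻¹ := by rw [e1]; group
      _ = hh j p * y * (hh j p)⁻¹ * (hh j p * z * (hh j p)⁻¹) := by rw [← z2.eq]; group
      _ = y := by rw [e, z3.eq, mul_inv_cancel_right, mul_assoc, z4, mul_one]
  · have hg : O.g j p.1 ∈ O.pat [j] := O.g_mem (List.mem_singleton_self j) _
    have hd : ⁅(O.g j p.1)⁻¹, u⁆ ∈ O.E2 := by
      rcases hu with hu | ⟨rfl, hu⟩
      · exact O.comm_mem (A := [j]) (by rcases hj with rfl | rfl <;> decide)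
          (by rcases hj with rfl | rfl <;> decide) (by decide) (inv_mem hg) hu
      · exact O.comm_mem (by decide) (by decide) (by decide) (inv_mem hg) hu
    refine ⟨_, h.pat_le (by decide) hd, ?_⟩
    have e1 := h.mv j hJ p
    have e2 := ha_cmv (h.ha_tC hC) e1
    have e3 : u * O.g j p.1 * u⁻¹ = O.g j p.1 * ⁅(O.g j p.1)⁻¹, u⁆ := by rw [commutatorElement_def]; group
    have e4 : O.g j p.1 * O.g j p.1 = 1 := by rw [← h.base j hJ, h.sq hJ]
    rw [ha_mv e1 e2, e3, ← mul_assoc (O.g j p.1), e4, one_mul]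
    rw [e3]
    exact (h.cpat hJ (by rcases hj with rfl | rfl <;> decide) p hg).mul_right
      (h.cpat hJ (by rcases hj with rfl | rfl <;> decide) p hd)
  · calc _ = (hh j p * hh j p) * (u * hh j p * u⁻¹) * (hh j p)⁻¹ := by group
      _ = u * (hh j p)⁻¹ * u⁻¹ * (hh j p)⁻¹ := by rw [h.sq hJ, si, one_mul]
      _ = _ := by group

end HH

end CfsgLib.RF4
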