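import Mathlib
import Cfsg.Agent.Lib.RF4.Ha

set_option autoImplicit false
set_option Elab.async false
set_option linter.unusedSectionVars false
set_option linter.unusedSimpArgs false

namespace CfsgLib.RF4

open Subgroup CfsgLib.F42
open scoped commutatorElement

/-! # The action of `x8`, `y8` on the hats (package LB) -/

variable {K : Type*} [Field K] [Finite K] {G : Type*} [Group G] [Finite G] {σ : K →+* K} {sz : Sz K} {O : OP σ sz G} {t : G} {hh : Fin 12 → K × K → G}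

/-- conjugation -/
def lbc {G : Type*} [Group G] (x y : G) : G := x * y * x⁻¹

section
omit [Finite G]

theorem lbc_mul (x a b : G) : lbc x (a * b) = lbc x a * lbc x b := by unfold lbc; group

theorem mul_lbc (x y a : G) : lbc (x * y) a = lbc x (lbc y a) := by unfold lbc; group

theorem lbc_comm {x a : G} (h : Commute a x) : lbc x a = a := by
  unfold lbc; rw [← h.eq, mul_inv_cancel_right]

theorem lbc_lbc (w x a : G) : lbc w (lbc x a) = lbc (lbc w x) (lbc w a) := by unfold lbc; group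

theorem lbc_one (a : G) : lbc 1 a = a := by unfold lbc; group

end

/-- the elements of `Ê4` -/
def lbP {K G : Type*} [Group G] (hh : Fin 12 → K × K → G) (a b c d f : K × K) : G :=
  hh 2 a * hh 3 b * (hh 5 c * hh 6 d * hh 8 f)

omit [Finite K] [Finite G] in
theorem lb_self (O : OP σ sz G) (p : K × K) : p + p = 0 := Prod.ext (O.add_self _) (O.add_self _)

omit [Finite K] [Finite G] in
theorem lb_can (O : OP σ sz G) {c a b : K × K} (e : c = c + a + b) : b = a := by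
  have h1 : a + b = 0 := by rw [add_assoc] at e; exact (left_eq_add.1 e)
  rw [← zero_add b, ← lb_self O a, add_assoc, h1, add_zero]

namespace HH

variable (h : HH O t hh)
include h

theorem lb_e2 (a : K × K) : hh 2 a = lbP hh a 0 0 0 0 := by
  simp only [lbP, h.zero (j := 3) (by decide), h.zero (j := 5) (by decide), h.zero (j := 6) (by decide),
    h.zero (j := 8) (by decide), mul_one]

theorem lb_e3 (a : K × K) : hh 3 a = lbP hh 0 a 0 0 0 := by
  simp only [lbP, h.zero (j := 2) (by decide), h.zero (j := 5) (by decide), h.zero (j := 6) (by decide),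
    h.zero (j := 8) (by decide), mul_one, one_mul]

theorem lb_e5 (a : K × K) : hh 5 a = lbP hh 0 0 a 0 0 := by
  simp only [lbP, h.zero (j := 3) (by decide), h.zero (j := 2) (by decide), h.zero (j := 6) (by decide),
    h.zero (j := 8) (by decide), mul_one, one_mul]

theorem lb_e6 (a : K × K) : hh 6 a = lbP hh 0 0 0 a 0 := by
  simp only [lbP, h.zero (j := 3) (by decide), h.zero (j := 5) (by decide), h.zero (j := 2) (by decide),
    h.zero (j := 8) (by decide), mul_one, one_mul]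

theorem lb_e8 (a : K × K) : hh 8 a = lbP hh 0 0 0 0 a := by
  simp only [lbP, h.zero (j := 3) (by decide), h.zero (j := 5) (by decide), h.zero (j := 6) (by decide),
    h.zero (j := 2) (by decide), mul_one, one_mul]

theorem lb_mul (a b c d f a' b' c' d' f' : K × K) :
    lbP hh a b c d f * lbP hh a' b' c' d' f' = lbP hh (a + a') (b + b') (c + c') (d + d') (f + f') := by
  have c1 : Commute (hh 5 c * hh 6 d * hh 8 f) (hh 2 a' * hh 3 b') :=
    h.hat_comm (S := [5, 6, 8]) (T := [2, 3]) (by decide) (by decide) (by decide) (by decide)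
      (h.mem2.2 ⟨c, d, f, rfl⟩) (mul_mem (hat_mem (by decide) _) (hat_mem (by decide) _))
  have c2 : Commute (hh 3 b) (hh 2 a') := h.cc 3 (by decide) 2 (by decide) (by decide) (by decide) _ _
  unfold lbP
  rw [c1.mul_mul_mul_comm, c2.mul_mul_mul_comm, h.mul2, h.add 2 (by decide), h.add 3 (by decide)]

theorem lb_inj {a b c d f a' b' c' d' f' : K × K} (e : lbP hh a b c d f = lbP hh a' b' c' d' f') :
    a = a' ∧ b = b' ∧ c = c' ∧ d = d' ∧ f = f' := h.inj4 e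

theorem lb_cg {j : Fin 12} (hj : j ∈ JH) {k : Fin 12} (hk : cm j k = []) (p : K × K) (u : K) :
    lbc (O.g k u) (hh j p) = hh j p := lbc_comm (h.cg j hj k hk p u)

theorem lb_fix {k : Fin 12} (hk : k ∈ ([2, 3, 4, 5, 6, 8] : List (Fin 12))) (u : K) (a b c d f : K × K) :
    lbc (O.g k u) (lbP hh a b c d f) = lbP hh a b c d f :=
  lbc_comm (h.hat_cpat (S := [2, 3, 5, 6, 8]) (T := [2, 3, 4, 5, 6, 8]) (by decide) (by decide)
    (h.mem4.2 ⟨a, b, c, d, f, rfl⟩) (O.g_mem hk u))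

theorem lb_0 (u : K) (a b c d f : K × K) : lbc (O.g 0 u) (lbP hh a b c d f) = lbP hh a b (c + u • f) d f := by
  have e : lbc (O.g 0 u) (hh 8 f) = hh 8 f * hh 5 (u • f) := h.x0 u f
  rw [lbP, lbc_mul, lbc_mul, lbc_mul, lbc_mul, e, h.lb_cg (by decide) (by decide), h.lb_cg (by decide) (by decide),
    h.lb_cg (by decide) (by decide), h.lb_cg (by decide) (by decide)]
  simp only [h.lb_e2, h.lb_e3, h.lb_e5, h.lb_e6, h.lb_e8, h.lb_mul, add_zero, zero_add]

theorem lb_1 (u : K) (a b c d f : K × K) : lbc (O.g 1 u) (lbP hh a b c d f) = lbP hh a b (c + u • d) d f := by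
  have e : lbc (O.g 1 u) (hh 6 d) = hh 6 d * hh 5 (u • d) := h.y1 u d
  rw [lbP, lbc_mul, lbc_mul, lbc_mul, lbc_mul, e, h.lb_cg (by decide) (by decide), h.lb_cg (by decide) (by decide),
    h.lb_cg (by decide) (by decide), h.lb_cg (by decide) (by decide)]
  simp only [h.lb_e2, h.lb_e3, h.lb_e5, h.lb_e6, h.lb_e8, h.lb_mul, add_zero, zero_add]

theorem lb_7 (u : K) (a b c d f : K × K) : lbc (O.g 7 u) (lbP hh a b c d f) = lbP hh a b (c + u • b) d f := by
  have e : lbc (O.g 7 u) (hh 3 b) = hh 3 b * hh 5 (u • b) := h.y7 u b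
  rw [lbP, lbc_mul, lbc_mul, lbc_mul, lbc_mul, e, h.lb_cg (by decide) (by decide), h.lb_cg (by decide) (by decide),
    h.lb_cg (by decide) (by decide), h.lb_cg (by decide) (by decide)]
  simp only [h.lb_e2, h.lb_e3, h.lb_e5, h.lb_e6, h.lb_e8, h.lb_mul, add_zero, zero_add, add_comm c]

theorem lb_9 (u : K) (a b c d f : K × K) : lbc (O.g 9 u) (lbP hh a b c d f) = lbP hh a b (c + u • a) d f := by
  have e : lbc (O.g 9 u) (hh 2 a) = hh 2 a * hh 5 (u • a) := h.x9 u a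
  rw [lbP, lbc_mul, lbc_mul, lbc_mul, lbc_mul, e, h.lb_cg (by decide) (by decide), h.lb_cg (by decide) (by decide),
    h.lb_cg (by decide) (by decide), h.lb_cg (by decide) (by decide)]
  simp only [h.lb_e2, h.lb_e3, h.lb_e5, h.lb_e6, h.lb_e8, h.lb_mul, add_zero, zero_add, add_comm c]

theorem lb_10 (u : K) (c d f : K × K) : lbc (O.g 10 u) (lbP hh 0 0 c d f) = lbP hh 0 0 c d (f + u • d) := by
  have e : lbc (O.g 10 u) (hh 6 d) = hh 6 d * hh 8 (u • d) := h.y10 u d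
  rw [lbP, h.zero (by decide), h.zero (by decide), one_mul, one_mul, lbc_mul, lbc_mul, e,
    h.lb_cg (by decide) (by decide), h.lb_cg (by decide) (by decide)]
  simp only [h.lb_e5, h.lb_e6, h.lb_e8, h.lb_mul, add_zero, zero_add, add_comm f]

theorem lb_11 (u : K) (c d f : K × K) : lbc (O.g 11 u) (lbP hh 0 0 c d f) = lbP hh 0 0 c d f := by
  rw [lbP, h.zero (by decide), h.zero (by decide), one_mul, one_mul, lbc_mul, lbc_mul,
    h.lb_cg (by decide) (by decide), h.lb_cg (by decide) (by decide), h.lb_cg (by decide) (by decide)]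

theorem lb_h (α β : Kˣ) (a b c d f : K × K) : lbc (O.h (α, β)) (lbP hh a b c d f) =
    lbP hh (chi σ 2 α β • a) (chi σ 3 α β • b) (chi σ 5 α β • c) (chi σ 6 α β • d) (chi σ 8 α β • f) := by
  have e : ∀ j ∈ JH, ∀ p, lbc (O.h (α, β)) (hh j p) = hh j (chi σ j α β • p) := fun j hj p => h.hc j hj α β p
  rw [lbP, lbc_mul, lbc_mul, lbc_mul, lbc_mul, e 2 (by decide), e 3 (by decide), e 5 (by decide), e 6 (by decide),
    e 8 (by decide), lbP]

theorem lb_t (a b c d f : K × K) : lbc t (lbP hh a b c d f) =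
    lbP hh (a.1, a.2 + a.1) (b.1, b.2 + b.1) (c.1, c.2 + c.1) (d.1, d.2 + d.1) (f.1, f.2 + f.1) := by
  have e : ∀ j ∈ JH, ∀ p, lbc t (hh j p) = hh j (p.1, p.2 + p.1) := fun j hj p => h.tconj hj p
  rw [lbP, lbc_mul, lbc_mul, lbc_mul, lbc_mul, e 2 (by decide), e 3 (by decide), e 5 (by decide), e 6 (by decide),
    e 8 (by decide), lbP]

theorem lb_x2 {u : G} (hu : u ∈ O.pat [2, 3, 4, 5, 6, 7, 8, 9, 11]) (p : K × K) :
    ∃ c d f, lbc u (lbP hh p 0 0 0 0) = lbP hh p 0 c d f := by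
  obtain ⟨c, d, f, e⟩ := h.mem2.1 (h.cX7 (j := 2) (.inl rfl) (.inl hu) p)
  refine ⟨c, d, f, ?_⟩
  rw [← h.lb_e2, lbP, h.zero (by decide), mul_one, ← e, ← mul_assoc, h.sq (by decide), one_mul, lbc]

theorem lb_x3 {u : G} (hu : u ∈ O.pat [2, 3, 4, 5, 6, 7, 8, 9, 11] ∨ u ∈ O.pat [10]) (p : K × K) :
    ∃ c d f, lbc u (lbP hh 0 p 0 0 0) = lbP hh 0 p c d f := by
  obtain ⟨c, d, f, e⟩ := h.mem2.1 (h.cX7 (j := 3) (.inr rfl) (hu.imp id fun x => ⟨rfl, x⟩) p)
  refine ⟨c, d, f, ?_⟩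
  rw [← h.lb_e3, lbP, h.zero (by decide), one_mul, ← e, ← mul_assoc, h.sq (by decide), one_mul, lbc]

/-- `x8` on the hats of `x2`, up to the `x4`-part -/
theorem lb_l3a : ∃ μ : K → K × K → K × K, ∀ v p,
    lbc (O.g 11 v) (lbP hh p 0 0 0 0) = lbP hh p 0 (μ v p) (v • p) (σ v • p) := by
  have key : ∀ v p, ∃ c, lbc (O.g 11 v) (lbP hh p 0 0 0 0) = lbP hh p 0 c (v • p) (σ v • p) := by
    intro v p
    obtain ⟨c, d, f, e⟩ := h.lb_x2 (O.g_mem (j := 11) (by decide) v) p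
    have e1 := congrArg (lbc · (lbP hh p 0 0 0 0)) (O.r1_11 1 v)
    have e0 := congrArg (lbc · (lbP hh p 0 0 0 0)) (O.r0_11 1 v)
    simp only [mul_lbc, h.lb_0, h.lb_1, h.lb_7, h.lb_9, h.lb_fix (k := 2) (by decide), h.lb_fix (k := 3) (by decide),
      h.lb_fix (k := 4) (by decide), h.lb_fix (k := 5) (by decide), h.lb_fix (k := 6) (by decide),
      h.lb_fix (k := 8) (by decide), smul_zero, add_zero, e, one_mul, one_smul] at e1 e0
    exact ⟨c, by rw [e, lb_can O (h.lb_inj e1).2.2.1, lb_can O (h.lb_inj e0).2.2.1]⟩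
  choose μ hμ using key
  exact ⟨μ, hμ⟩

theorem lb_l3 : ∃ δ : K, ∀ v p,
    lbc (O.g 11 v) (lbP hh p 0 0 0 0) = lbP hh p 0 (v • sg σ δ p) (v • p) (σ v • p) := by
  obtain ⟨μ, hμ⟩ := h.lb_l3a
  have ad : ∀ v p p', μ v (p + p') = μ v p + μ v p' := fun v p p' => by
    have e := lbc_mul (O.g 11 v) (lbP hh p 0 0 0 0) (lbP hh p' 0 0 0 0)
    simp only [h.lb_mul, add_zero, hμ] at e
    exact (h.lb_inj e).2.2.1
  have bs : ∀ v c, μ v (0, c) = (0, σ c * v) := fun v c => by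
    have e := hμ v (0, c)
    have e1 : lbc (O.g 11 v) (O.g 2 c) = O.g 2 c * (O.g 5 (σ c * v) * O.g 6 (c * v) * O.g 8 (c * σ v)) := by
      rw [lbc, O.r2_11]; group
    rw [← h.lb_e2, h.base 2 (by decide), e1, ← h.base 2 (by decide), ← h.base 5 (by decide), ← h.base 6 (by decide),
      ← h.base 8 (by decide)] at e
    simp only [h.lb_e2, h.lb_e5, h.lb_e6, h.lb_e8, h.lb_mul, add_zero, zero_add] at e
    exact (h.lb_inj e).2.2.1.symm
  have f1 : (μ 1 (1, 0)).1 = 1 := by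
    have e := lbc_lbc t (O.g 11 1) (lbP hh (1, 0) 0 0 0 0)
    rw [lbc_comm (h.tg 11 1).symm, hμ, h.lb_t, h.lb_t] at e
    simp only [Prod.fst_zero, Prod.snd_zero, add_zero, Prod.mk_zero_zero, hμ, zero_add] at e
    have e2 := congrArg Prod.snd (h.lb_inj e).2.2.1
    rw [show ((1 : K), (1 : K)) = (1, 0) + (0, 1) by simp, ad, bs] at e2
    simpa using e2
  have tr : ∀ α β v p, μ (chi σ 11 α β * v) (chi σ 2 α β • p) = chi σ 5 α β • μ v p := fun α β v p => by
    have e := lbc_lbc (O.h (α, β)) (O.g 11 v) (lbP hh p 0 0 0 0)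
    have e1 : lbc (O.h (α, β)) (O.g 11 v) = O.g 11 (chi σ 11 α β * v) := O.h_g α β 11 v
    rw [hμ, h.lb_h, h.lb_h, e1] at e
    simp only [smul_zero, hμ] at e
    exact (h.lb_inj e).2.2.1.symm
  refine ⟨(μ 1 (1, 0)).2, fun v p => ?_⟩
  rw [hμ]
  congr 1
  obtain ⟨a, c⟩ := p
  have a0 : μ v (a, 0) = (σ a * v) • μ 1 (1, 0) := by
    by_cases ha : a = 0
    · subst ha
      rw [bs]; simp
    by_cases hv : v = 0
    · subst hv
      have e := hμ 0 (a, 0)
      rw [O.g_zero, lbc_one] at e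
      rw [← (h.lb_inj e).2.2.1]; simp
    obtain ⟨α, β, h2, h11⟩ := chi_pair O.toOC (j := 2) (k := 11) (by decide) ha hv
    have e := tr α β 1 (1, 0)
    rw [(chi_rel O.toOC α β).2.2.1, h2, h11] at e
    simpa using e
  rw [show (a, c) = (a, 0) + (0, c) by simp, ad, a0, bs]
  ext
  · simp [sg, f1, mul_comm]
  · simp [sg]; ring

theorem lb_l4 (u : K) (p : K × K) :
    ∃ c d f, lbc (O.g 10 u) (lbP hh p 0 0 0 0) = lbP hh p (u • p) c d f := by
  obtain ⟨a, b, c, d, f, e⟩ := h.mem4.1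
    ((mem_normalizer_iff.1 (h.C_norm4 (O.g_mem_C 10 u)) (hh 2 p)).1 (hat_mem (by decide) p))
  replace e : lbc (O.g 10 u) (lbP hh p 0 0 0 0) = lbP hh a b c d f := by rw [← h.lb_e2]; exact e
  have e9 := congrArg (lbc · (lbP hh p 0 0 0 0)) (O.r9_10 1 u)
  have e7 := congrArg (lbc · (lbP hh p 0 0 0 0)) (O.r7_10 1 u)
  have s : lbP hh p 0 p 0 0 = lbP hh p 0 0 0 0 * lbP hh 0 0 p 0 0 := by simp only [h.lb_mul, add_zero, zero_add]
  simp only [mul_lbc, h.lb_7, h.lb_9, smul_zero, add_zero, zero_add, e, one_mul, one_smul] at e9 e7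
  rw [s, lbc_mul, e, h.lb_10, h.lb_mul] at e9
  have ha : p = a := add_left_cancel (h.lb_inj e9).2.2.1
  subst ha
  exact ⟨c, d, f, by rw [e, lb_can O (h.lb_inj e7).2.2.1]⟩

theorem lb_l6 (v : K) (p : K × K) : lbc (O.g 11 v) (lbP hh 0 p 0 0 0) = lbP hh 0 p 0 0 (v • p) := by
  have key : ∀ v, ∃ c, lbc (O.g 11 v) (lbP hh 0 p 0 0 0) = lbP hh 0 p c 0 (v • p) := by
    intro v
    obtain ⟨c, d, f, e⟩ := h.lb_x3 (.inl (O.g_mem (j := 11) (by decide) v)) p
    have e1 := congrArg (lbc · (lbP hh 0 p 0 0 0)) (O.r1_11 1 v)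
    have e0 := congrArg (lbc · (lbP hh 0 p 0 0 0)) (O.r0_11 1 v)
    simp only [mul_lbc, h.lb_0, h.lb_1, h.lb_7, h.lb_9, h.lb_fix (k := 2) (by decide), h.lb_fix (k := 3) (by decide),
      h.lb_fix (k := 4) (by decide), h.lb_fix (k := 5) (by decide), h.lb_fix (k := 6) (by decide),
      h.lb_fix (k := 8) (by decide), smul_zero, add_zero, e, one_mul, one_smul] at e1 e0
    exact ⟨c, by rw [e, left_eq_add.1 (h.lb_inj e1).2.2.1, lb_can O (h.lb_inj e0).2.2.1]⟩
  choose μ hμ using key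
  have ad : ∀ v v', μ (v + v') = μ v + μ v' := fun v v' => by
    have e := mul_lbc (O.g 11 v) (O.g 11 v') (lbP hh 0 p 0 0 0)
    have s : lbP hh 0 p (μ v') 0 (v' • p) = lbP hh 0 p 0 0 0 * lbP hh 0 0 (μ v') 0 (v' • p) := by
      simp only [h.lb_mul, add_zero, zero_add]
    rw [O.a11, hμ, hμ, s, lbc_mul, hμ, h.lb_11, h.lb_mul] at e
    exact (h.lb_inj e).2.2.1
  have tr : ∀ (β : Kˣ) v, μ (β * σ β * v) = (β : K) • μ v := fun β v => by
    obtain ⟨h3, h11, h5⟩ := chi_H3 O.toOC β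
    have e := lbc_lbc (O.h ((su σ β)⁻¹, β)) (O.g 11 v) (lbP hh 0 p 0 0 0)
    have e1 : lbc (O.h ((su σ β)⁻¹, β)) (O.g 11 v) = O.g 11 (chi σ 11 (su σ β)⁻¹ β * v) := O.h_g _ β 11 v
    rw [hμ, h.lb_h, h.lb_h, e1, h3, h11, h5] at e
    simp only [smul_zero, one_smul, hμ] at e
    exact (h.lb_inj e).2.2.1.symm
  have z1 := na3 O.toOC h.big (ψ := fun v => (μ v).1) (fun a b => by simp [ad]) (fun β a => by simp [tr]) v
  have z2 := na3 O.toOC h.big (ψ := fun v => (μ v).2) (fun a b => by simp [ad]) (fun β a => by simp [tr]) v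
  rw [hμ, show μ v = 0 from Prod.ext z1 z2]

theorem lb_l5 {δ : K}
    (h3 : ∀ v p, lbc (O.g 11 v) (lbP hh p 0 0 0 0) = lbP hh p 0 (v • sg σ δ p) (v • p) (σ v • p)) (u : K)
    (p : K × K) : lbc (O.g 10 u) (lbP hh 0 p 0 0 0) = lbP hh 0 p (u • sg σ δ p) (σ u • p) 0 := by
  have key : ∀ p, ∃ c, lbc (O.g 10 u) (lbP hh 0 p 0 0 0) = lbP hh 0 p c (σ u • p) 0 := by
    intro p
    obtain ⟨c, d, f, e⟩ := h.lb_x3 (.inr (O.g_mem (j := 10) (by decide) u)) p
    have e1 := congrArg (lbc · (lbP hh 0 p 0 0 0)) (O.r1_10 1 u)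
    have e0 := congrArg (lbc · (lbP hh 0 p 0 0 0)) (O.r0_10 1 u)
    simp only [mul_lbc, h.lb_0, h.lb_1, h.lb_7, h.lb_9, h.lb_fix (k := 2) (by decide), h.lb_fix (k := 3) (by decide),
      h.lb_fix (k := 4) (by decide), h.lb_fix (k := 5) (by decide), h.lb_fix (k := 6) (by decide),
      h.lb_fix (k := 8) (by decide), smul_zero, add_zero, e, one_mul, one_smul] at e1 e0
    have hd := lb_can O (h.lb_inj e1).2.2.1
    subst hd
    have hf := (h.lb_inj e0).2.2.1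
    rw [smul_smul, add_assoc c, lb_self O, add_zero] at hf
    exact ⟨c, by rw [e, left_eq_add.1 hf]⟩
  by_cases hu : u = 0
  · subst hu
    simp only [O.g_zero, lbc_one, map_zero, zero_smul]
  obtain ⟨p, rfl⟩ : ∃ p', p = u • p' := ⟨u⁻¹ • p, by rw [smul_smul, mul_inv_cancel₀ hu, one_smul]⟩
  obtain ⟨μ, hμ⟩ := key (u • p)
  obtain ⟨c, d, f, e⟩ := h.lb_l4 u p
  have e1 := mul_lbc (O.g 10 u) (O.g 10 u) (lbP hh p 0 0 0 0)
  have s : lbP hh p (u • p) c d f = lbP hh p 0 0 0 0 * (lbP hh 0 (u • p) 0 0 0 * lbP hh 0 0 c d f) := by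
    simp only [h.lb_mul, add_zero, zero_add]
  rw [O.a10, O.add_self, O.g_zero, one_mul, h3, e, s, lbc_mul, lbc_mul, e, hμ, h.lb_10, h.lb_mul, h.lb_mul] at e1
  have e2 := (h.lb_inj e1).2.2.1
  rw [add_comm μ, ← add_assoc, lb_self O, zero_add] at e2
  rw [hμ, ← e2]
  congr 1
  ext
  · simp [sg]; ring
  · simp [sg]; ring

end HH

theorem HH.exists_hl (h : HH O t hh) : ∃ δ, HL O t hh δ := by
  obtain ⟨δ, h3⟩ := h.lb_l3
  refine ⟨δ, h, fun v p => ?_, fun u p => ?_, fun u p => ?_, fun v p => ?_⟩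
  · have e := h3 v p
    rw [← h.lb_e2, lbP, h.zero (by decide), mul_one] at e
    exact e
  · obtain ⟨c, d, f, e⟩ := h.lb_l4 u p
    rw [← h.lb_e2] at e
    exact ⟨_, h.mem2.2 ⟨c, d, f, rfl⟩, e⟩
  · have e := h.lb_l5 h3 u p
    rw [← h.lb_e3, lbP, h.zero (by decide), h.zero (by decide), mul_one, one_mul] at e
    exact e
  · have e := h.lb_l6 v p
    rw [← h.lb_e3, lbP, h.zero (by decide), h.zero (by decide), h.zero (by decide), one_mul, one_mul, one_mul] at e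
    exact e

theorem HH.lb_n1 (h : HH O t hh) {j : Fin 12} (hj : j ∈ JH) (h0 : 0 < j) (p : K × K) :
    lbc O.n1 (hh j p) = hh (p1 j) p := h.n1c j hj h0 p

theorem HH.lb_n8 (h : HH O t hh) {j : Fin 12} (hj : j ∈ JH) (h0 : j < 10) (p : K × K) :
    lbc O.n8 (hh j p) = hh (p8 j) p := h.n8c j hj h0 p

omit [Finite K] [Finite G] in
theorem lb_n1g (O : OP σ sz G) {j : Fin 12} (h0 : 0 < j) (u : K) : lbc O.n1 (O.g j u) = O.g (p1 j) u := O.n1_g j h0 u

omit [Finite K] [Finite G] in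
theorem lb_n8g (O : OP σ sz G) {j : Fin 12} (h0 : j < 10) (u : K) : lbc O.n8 (O.g j u) = O.g (p8 j) u := O.n8_g j h0 u

namespace HL

variable {δ : K} (h : HL O t hh δ)
include h

theorem l3' (v : K) (p : K × K) :
    O.g 2 v * hh 11 p * (O.g 2 v)⁻¹ = hh 11 p * (hh 5 (σ v • p) * hh 6 (v • p) * hh 8 (v • sg σ δ p)) := by
  have e : lbc O.n1 (lbc (O.g 11 v) (hh 2 p)) = lbc O.n1 _ := congrArg (lbc O.n1) (h.l3 v p)
  rw [lbc_lbc, lbc_mul, lbc_mul, lbc_mul, lb_n1g O (by decide), h.lb_n1 (by decide) (by decide),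
    h.lb_n1 (by decide) (by decide), h.lb_n1 (by decide) (by decide), h.lb_n1 (by decide) (by decide)] at e
  refine e.trans ?_
  show hh 11 p * (hh 8 _ * hh 6 _ * hh 5 _) = _
  simp only [h.lb_e5, h.lb_e6, h.lb_e8, h.lb_mul, add_zero, zero_add]

theorem l5' (u : K) (p : K × K) :
    O.g 1 u * hh 9 p * (O.g 1 u)⁻¹ = hh 9 p * (hh 6 (σ u • p) * hh 8 (u • sg σ δ p)) := by
  have e : lbc O.n1 (lbc (O.g 10 u) (hh 3 p)) = lbc O.n1 _ := congrArg (lbc O.n1) (h.l5 u p)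
  rw [lbc_lbc, lbc_mul, lbc_mul, lb_n1g O (by decide), h.lb_n1 (by decide) (by decide),
    h.lb_n1 (by decide) (by decide), h.lb_n1 (by decide) (by decide)] at e
  refine e.trans ?_
  show hh 9 p * (hh 8 _ * hh 6 _) = _
  simp only [h.lb_e6, h.lb_e8, h.lb_mul, add_zero, zero_add]

theorem l5'' (u : K) (p : K × K) :
    O.g 7 u * hh 0 p * (O.g 7 u)⁻¹ = hh 0 p * (hh 2 (u • sg σ δ p) * hh 3 (σ u • p)) := by
  have e : lbc O.n8 (lbc (O.g 1 u) (hh 9 p)) = lbc O.n8 _ := congrArg (lbc O.n8) (h.l5' u p)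
  rw [lbc_lbc, lbc_mul, lbc_mul, lb_n8g O (by decide), h.lb_n8 (by decide) (by decide),
    h.lb_n8 (by decide) (by decide), h.lb_n8 (by decide) (by decide)] at e
  refine e.trans ?_
  show hh 0 p * (hh 3 _ * hh 2 _) = _
  simp only [h.lb_e2, h.lb_e3, h.lb_mul, add_zero, zero_add]

theorem l6' (v : K) (p : K × K) : O.g 2 v * hh 9 p * (O.g 2 v)⁻¹ = hh 9 p * hh 5 (v • p) := by
  have e : lbc O.n1 (lbc (O.g 11 v) (hh 3 p)) = lbc O.n1 _ := congrArg (lbc O.n1) (h.l6 v p)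
  rw [lbc_lbc, lbc_mul, lb_n1g O (by decide), h.lb_n1 (by decide) (by decide),
    h.lb_n1 (by decide) (by decide)] at e
  exact e

theorem l6'' (v : K) (p : K × K) : O.g 8 v * hh 0 p * (O.g 8 v)⁻¹ = hh 0 p * hh 5 (v • p) := by
  have e : lbc O.n8 (lbc (O.g 2 v) (hh 9 p)) = lbc O.n8 _ := congrArg (lbc O.n8) (h.l6' v p)
  rw [lbc_lbc, lbc_mul, lb_n8g O (by decide), h.lb_n8 (by decide) (by decide),
    h.lb_n8 (by decide) (by decide)] at e
  exact e

end HL

end CfsgLib.RF4
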