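import Mathlib
import Cfsg.Agent.Lib.RF4.Lb

set_option autoImplicit false
set_option Elab.async false
set_option linter.unusedSectionVars false
set_option linter.unusedSimpArgs false

namespace CfsgLib.RF4

open Subgroup CfsgLib.F42
open scoped commutatorElement

/-! # Commutators with the hats of `x8` (package HC1) -/

variable {K : Type*} [Field K] [Finite K] {G : Type*} [Group G] [Finite G] {σ : K →+* K} {sz : Sz K} {O : OP σ sz G} {t : G} {hh : Fin 12 → K × K → G} {δ : K}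

theorem hc1_fix {x a b e1 e2 : G} (ha : lbc x a = a * e1) (hb : lbc x b = b * e2) (c1a : Commute e1 a)
    (c1b : Commute e1 b) (c2a : Commute e2 a) (c12 : Commute e1 e2) (s1 : e1 * e1 = 1) :
    Commute (a * lbc b a) x := by
  have e : lbc x (a * lbc b a) = a * lbc b a := by
    rw [lbc_mul, lbc_lbc, ha, hb, mul_lbc, lbc_mul, lbc_mul, lbc_comm c2a.symm, lbc_comm c12, lbc_comm c1b,
      mul_assoc, ← mul_assoc e1]
    have : Commute e1 (lbc b a) := (c1b.mul_right c1a).mul_right c1b.inv_right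
    rw [this.eq, mul_assoc, s1, mul_one]
  rw [lbc, mul_inv_eq_iff_eq_mul] at e
  exact e.symm

theorem hc1_swap {a b e : G} (h : lbc b a = a * e) (ha : a * a = 1) (hc : Commute e b) : lbc a b = b * e := by
  rw [lbc, mul_inv_eq_iff_eq_mul] at h
  rw [lbc, inv_eq_of_mul_eq_one_right ha, mul_assoc, h, ← mul_assoc, ← mul_assoc, ha, one_mul, hc.eq]

namespace HL

variable (h : HL O t hh δ)
include h

theorem hc1_c {j : Fin 12} (hj : j ∈ ([2, 11] : List (Fin 12))) {e : G} (he : e ∈ hat hh [5, 6, 8]) (p : K × K) :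
    Commute e (hh j p) :=
  h.hat_comm (S := [5, 6, 8]) (T := [2, 11]) (by decide) (by decide) (by decide) (by decide) he (hat_mem hj p)

theorem hc1_mem (p p' : K × K) : hh 2 p * lbc (hh 11 p') (hh 2 p) ∈ hat hh [5, 6, 8] := by
  have cE : ∀ e ∈ hat hh [5, 6, 8], Commute (hh 2 p * lbc (hh 11 p') (hh 2 p)) e := fun e he =>
    ((h.hc1_c (by decide) he p).mul_right (((h.hc1_c (by decide) he p').mul_right
      (h.hc1_c (by decide) he p)).mul_right (h.hc1_c (by decide) he p').inv_right)).symm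
  have g1 : ∀ j ∈ X7, ∀ u, Commute (hh 2 p * lbc (hh 11 p') (hh 2 p)) (O.g j u) := by
    have both : ∀ j, cm 2 j = [] → cm 11 j = [] → ∀ u, Commute (hh 2 p * lbc (hh 11 p') (hh 2 p)) (O.g j u) :=
      fun j h2 h11 u => hc1_fix (e1 := 1) (e2 := 1) (by rw [mul_one]; exact h.lb_cg (by decide) h2 p u)
        (by rw [mul_one]; exact h.lb_cg (by decide) h11 p' u) (.one_left _) (.one_left _) (.one_left _)
        (.one_left _) (one_mul _)
    intro j hj u
    simp only [List.mem_cons, List.not_mem_nil, or_false] at hj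
    rcases hj with rfl | rfl | rfl | rfl | rfl | rfl | rfl | rfl
    · exact hc1_fix (e1 := 1) (by rw [mul_one]; exact h.lb_cg (by decide) (by decide) p u) (h.l3' u p')
        (.one_left _) (.one_left _) (h.hc1_c (by decide) (h.mem2.2 ⟨_, _, _, rfl⟩) p) (.one_left _) (one_mul _)
    · exact hc1_fix (e1 := 1) (by rw [mul_one]; exact h.lb_cg (by decide) (by decide) p u) (h.x3 u p')
        (.one_left _) (.one_left _) (h.hc1_c (by decide) (hat_mem (by decide) _) p) (.one_left _) (one_mul _)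
    · exact both _ (by decide) (by decide) u
    · exact both _ (by decide) (by decide) u
    · exact both _ (by decide) (by decide) u
    · exact both _ (by decide) (by decide) u
    · exact both _ (by decide) (by decide) u
    · exact hc1_fix (e2 := 1) (h.x9 u p) (by rw [mul_one]; exact h.lb_cg (by decide) (by decide) p' u)
        (h.hc1_c (by decide) (hat_mem (by decide) _) p) (h.hc1_c (by decide) (hat_mem (by decide) _) p')
        (.one_left _) (.one_right _) (h.sq (by decide) _)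
  refine h.loc2 (fun x hx => ?_) (cE _ (hat_mem (by decide) _)) ?_ (.inr ⟨hh 2 p, h.co 2 (by decide) p, ?_⟩)
  · exact (mem_centralizer_singleton_iff.1
      ((O.pat_le (P := centralizer {hh 2 p * lbc (hh 11 p') (hh 2 p)})).2
        (fun j hj u => mem_centralizer_singleton_iff.2 (g1 j hj u).symm) hx)).symm
  · have ta : lbc t (hh 2 p) = hh 2 p * O.g 2 p.1 := by
      rw [lbc, h.tconj (by decide), ← h.base 2 (by decide), ← h.add 2 (by decide)]; congr 1; ext <;> simp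
    have tb : lbc t (hh 11 p') = hh 11 p' * O.g 11 p'.1 := by
      rw [lbc, h.tconj (by decide), ← h.base 11 (by decide), ← h.add 11 (by decide)]; congr 1; ext <;> simp
    obtain ⟨e1, m1, q1⟩ : ∃ e ∈ hat hh [5, 6, 8], lbc (O.g 11 p'.1) (hh 2 p * O.g 2 p.1) = hh 2 p * O.g 2 p.1 * e := by
      rw [← h.base 2 (by decide), ← h.add 2 (by decide)]
      exact ⟨_, h.mem2.2 ⟨_, _, _, rfl⟩, h.l3 _ _⟩
    obtain ⟨e2, m2, q2⟩ : ∃ e ∈ hat hh [5, 6, 8], lbc (hh 11 p') (O.g 2 p.1) = O.g 2 p.1 * e := by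
      refine ⟨_, h.mem2.2 ⟨_, _, _, rfl⟩, hc1_swap (h.l3' p.1 p') (h.sq (by decide) _) ?_⟩
      rw [← h.base 2 (by decide)]
      exact h.hc1_c (by decide) (h.mem2.2 ⟨_, _, _, rfl⟩) _
    have cx : Commute (lbc (hh 11 p') (hh 2 p)) (O.g 2 p.1) := by
      have := (h.cg 2 (by decide) 2 (by decide) p p.1).inv_left.mul_left (g1 2 (by decide) p.1)
      rwa [inv_mul_cancel_left] at this
    have e : lbc t (hh 2 p * lbc (hh 11 p') (hh 2 p)) = hh 2 p * lbc (hh 11 p') (hh 2 p) * (e2 * e1) := by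
      rw [lbc_mul, lbc_lbc, ta, tb, mul_lbc, q1, lbc_mul, lbc_mul, q2, lbc_comm (h.hc1_c (by decide) m1 p')]
      have : O.g 2 p.1 * O.g 2 p.1 = 1 := by rw [O.a2, O.add_self, O.g_zero]
      calc _ = hh 2 p * (O.g 2 p.1 * lbc (hh 11 p') (hh 2 p)) * O.g 2 p.1 * (e2 * e1) := by group
        _ = hh 2 p * lbc (hh 11 p') (hh 2 p) * (O.g 2 p.1 * O.g 2 p.1) * (e2 * e1) := by rw [← cx.eq]; group
        _ = _ := by rw [this, mul_one]
    refine ⟨e2 * e1, mul_mem m2 m1, ?_⟩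
    generalize hh 2 p * lbc (hh 11 p') (hh 2 p) = k at e cE
    rw [lbc, h.t_inv, (cE _ (mul_mem m2 m1)).eq] at e
    calc k * t * k⁻¹ = t * (t * k * t) * k⁻¹ := by rw [← mul_assoc, ← mul_assoc, h.t2, one_mul]
      _ = _ := by rw [e]; group
  · rw [lbc, mul_inv_rev, mul_inv_rev, mul_inv_rev, inv_inv, h.inv (j := 2) (by decide), h.inv (j := 11) (by decide),
      ← mul_assoc, h.sq (by decide), one_mul, mul_assoc (hh 11 p')]

theorem hc1_fixE (p' c d f : K × K) : lbc (hh 11 p') (lbP hh 0 0 c d f) = lbP hh 0 0 c d f := by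
  rw [lbP, h.zero (by decide), h.zero (by decide), one_mul, one_mul]
  exact lbc_comm (h.hc1_c (by decide) (h.mem2.2 ⟨_, _, _, rfl⟩) _)

theorem hc1_h1 : ∃ c m, ∀ p p', lbc (hh 11 p') (lbP hh p 0 0 0 0) =
    lbP hh p 0 (mu σ δ c m p' p) (ml c p p') (mu σ δ c m p p') := by
  have key : ∀ p p', ∃ c d f, lbc (hh 11 p') (lbP hh p 0 0 0 0) = lbP hh p 0 c d f := fun p p' => by
    obtain ⟨c, d, f, e⟩ := h.mem2.1 (h.hc1_mem p p')
    refine ⟨c, d, f, ?_⟩
    rw [← h.lb_e2, lbP, h.zero (by decide), mul_one, ← e, ← mul_assoc, h.sq (by decide), one_mul]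
  choose μ4 μ5 μ6 hμ using key
  have ad1 : ∀ p q p', μ5 (p + q) p' = μ5 p p' + μ5 q p' ∧ μ6 (p + q) p' = μ6 p p' + μ6 q p' := fun p q p' => by
    have e := lbc_mul (hh 11 p') (lbP hh p 0 0 0 0) (lbP hh q 0 0 0 0)
    simp only [h.lb_mul, add_zero, hμ] at e
    exact (h.lb_inj e).2.2.2
  have ad2 : ∀ p p' q', μ5 p (p' + q') = μ5 p p' + μ5 p q' ∧ μ6 p (p' + q') = μ6 p p' + μ6 p q' := fun p p' q' => by
    have e := mul_lbc (hh 11 p') (hh 11 q') (lbP hh p 0 0 0 0)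
    have s : lbP hh p 0 (μ4 p q') (μ5 p q') (μ6 p q') =
        lbP hh p 0 0 0 0 * lbP hh 0 0 (μ4 p q') (μ5 p q') (μ6 p q') := by simp only [h.lb_mul, add_zero, zero_add]
    rw [← h.add 11 (by decide), hμ, hμ, s, lbc_mul, hμ, h.hc1_fixE, h.lb_mul] at e
    exact (h.lb_inj e).2.2.2
  have bs : ∀ p v, μ4 p (0, v) = v • sg σ δ p ∧ μ5 p (0, v) = v • p ∧ μ6 p (0, v) = σ v • p := fun p v => by
    have e := hμ p (0, v)
    have e1 : lbc (O.g 11 v) (hh 2 p) = _ := h.l3 v p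
    rw [h.base 11 (by decide), ← h.lb_e2, e1] at e
    simp only [h.lb_e2, h.lb_e5, h.lb_e6, h.lb_e8, h.lb_mul, add_zero, zero_add] at e
    obtain ⟨-, -, e4, e5, e6⟩ := h.lb_inj e
    exact ⟨e4.symm, e5.symm, e6.symm⟩
  have sy : ∀ p p', μ4 p' p = μ6 p p' ∧ μ5 p' p = μ5 p p' := fun p p' => by
    have q : ∀ p p', lbc (hh 11 p') (hh 2 p) = hh 2 p * (hh 5 (μ4 p p') * hh 6 (μ5 p p') * hh 8 (μ6 p p')) :=
      fun p p' => by rw [h.lb_e2, hμ, ← h.lb_e2, lbP, h.zero (by decide), mul_one]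
    have e := congrArg (lbc O.n1) (q p p')
    rw [lbc_lbc, lbc_mul, lbc_mul, lbc_mul, h.lb_n1 (by decide) (by decide), h.lb_n1 (by decide) (by decide),
      h.lb_n1 (by decide) (by decide), h.lb_n1 (by decide) (by decide), h.lb_n1 (by decide) (by decide)] at e
    have e' := hc1_swap (q p' p) (h.sq (by decide) _) (h.hc1_c (by decide) (h.mem2.2 ⟨_, _, _, rfl⟩) _)
    have e2 : hh 5 (μ4 p' p) * hh 6 (μ5 p' p) * hh 8 (μ6 p' p) = hh 8 (μ4 p p') * hh 6 (μ5 p p') * hh 5 (μ6 p p') :=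
      mul_left_cancel (e'.symm.trans e)
    simp only [h.lb_e5, h.lb_e6, h.lb_e8, h.lb_mul, add_zero, zero_add] at e2
    exact ⟨(h.lb_inj e2).2.2.1, (h.lb_inj e2).2.2.2.1⟩
  have tr : ∀ α β p p', μ5 (chi σ 2 α β • p) (chi σ 11 α β • p') = chi σ 6 α β • μ5 p p' ∧
      μ6 (chi σ 2 α β • p) (chi σ 11 α β • p') = chi σ 8 α β • μ6 p p' := fun α β p p' => by
    have e := lbc_lbc (O.h (α, β)) (hh 11 p') (lbP hh p 0 0 0 0)
    have e1 : lbc (O.h (α, β)) (hh 11 p') = hh 11 (chi σ 11 α β • p') := h.hc 11 (by decide) α β p'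
    rw [hμ, h.lb_h, h.lb_h, e1] at e
    simp only [smul_zero, hμ] at e
    exact ⟨(h.lb_inj e).2.2.2.1.symm, (h.lb_inj e).2.2.2.2.symm⟩
  have b5 : ∀ v p', μ5 (0, v) p' = v • p' := fun v p' => by rw [(sy _ _).2, (bs _ _).2.1]
  have b6 : ∀ v p', μ6 (0, v) p' = v • sg σ δ p' := fun v p' => by rw [← (sy _ _).1, (bs _ _).1]
  have f1 : (μ5 (1, 0) (1, 0)).1 = 1 ∧ (μ6 (1, 0) (1, 0)).1 = 1 + δ := by
    have e := lbc_lbc t (hh 11 (1, 0)) (lbP hh (1, 0) 0 0 0 0)
    have e1 : lbc t (hh 11 (1, 0)) = _ := h.tconj (by decide) _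
    rw [e1, hμ, h.lb_t, h.lb_t] at e
    simp only [Prod.fst_zero, Prod.snd_zero, add_zero, Prod.mk_zero_zero, hμ, zero_add] at e
    have e5 := congrArg Prod.snd (h.lb_inj e).2.2.2.1
    have e6 := congrArg Prod.snd (h.lb_inj e).2.2.2.2
    rw [show ((1 : K), (1 : K)) = (1, 0) + (0, 1) by simp, (ad1 _ _ _).1, (ad2 _ _ _).1, (ad2 _ _ _).1, b5, b5,
      (bs _ _).2.1] at e5
    rw [show ((1 : K), (1 : K)) = (1, 0) + (0, 1) by simp, (ad1 _ _ _).2, (ad2 _ _ _).2, (ad2 _ _ _).2, b6, b6,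
      (bs _ _).2.2] at e6
    constructor
    · simpa using e5
    · simp [sg] at e6
      rw [e6, add_comm]
  have a0 : ∀ a a' : K, μ5 (a, 0) (a', 0) = (a * a') • μ5 (1, 0) (1, 0) ∧
      μ6 (a, 0) (a', 0) = (a * σ a') • μ6 (1, 0) (1, 0) := fun a a' => by
    by_cases ha : a = 0
    · subst ha
      rw [b5, b6]; simp
    by_cases ha' : a' = 0
    · subst ha'
      rw [(bs _ _).2.1, (bs _ _).2.2]; simp
    obtain ⟨α, β, h2, h11⟩ := chi_pair O.toOC (j := 2) (k := 11) (by decide) ha ha'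
    have e := tr α β (1, 0) (1, 0)
    rw [(chi_rel O.toOC α β).2.2.2.1, (chi_rel O.toOC α β).2.2.2.2.1, h2, h11] at e
    simpa using e
  have m5 : ∀ p p', μ5 p p' = ml (μ5 (1, 0) (1, 0)).2 p p' := by
    rintro ⟨a, c⟩ ⟨a', c'⟩
    rw [show (a, c) = (a, 0) + (0, c) by simp, (ad1 _ _ _).1, b5, show (a', c') = (a', 0) + (0, c') by simp,
      (ad2 _ _ _).1, (a0 _ _).1, (bs _ _).2.1]
    ext
    · simp [ml, f1.1, mul_comm]
    · simp [ml]; ring
  have m6 : ∀ p p', μ6 p p' = mu σ δ (μ5 (1, 0) (1, 0)).2 ((μ6 (1, 0) (1, 0)).2 - (μ5 (1, 0) (1, 0)).2) p p' := by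
    rintro ⟨a, c⟩ ⟨a', c'⟩
    rw [show (a, c) = (a, 0) + (0, c) by simp, (ad1 _ _ _).2, b6, show (a', c') = (a', 0) + (0, c') by simp,
      (ad2 _ _ _).2, (a0 _ _).2, (bs _ _).2.2]
    ext
    · simp [mu, ml, sg, f1.2]; ring
    · simp [mu, ml, sg]; ring
  exact ⟨_, _, fun p p' => by rw [hμ, (sy _ _).1, m5 p p', m6 p p', m6 p' p]⟩

end HL

theorem HL.exists_hr1 (h : HL O t hh δ) : ∃ c m, HR1 O t hh δ c m := by
  obtain ⟨c, m, h1⟩ := h.hc1_h1
  refine ⟨c, m, h, fun p p' => ?_, fun p p' => ?_⟩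
  · have e := h1 p p'
    rw [← h.lb_e2, lbP, h.zero (by decide), mul_one] at e
    exact e
  · obtain ⟨c', d, f, e⟩ := h.lb_l4 1 p
    have e1 := lbc_lbc (O.g 10 1) (hh 11 p') (lbP hh p 0 0 0 0)
    have s : ∀ b c d f, lbP hh p b c d f = lbP hh p 0 0 0 0 * (hh 3 b * lbP hh 0 0 c d f) := fun b c d f => by
      simp only [h.lb_e3, h.lb_mul, add_zero, zero_add]
    rw [h.lb_cg (by decide) (by decide), h1, e, s, s (1 • p), lbc_mul, lbc_mul, lbc_mul, lbc_mul, e, h1, h.lb_10,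
      h.hc1_fixE, h.zero (by decide), one_smul, one_smul] at e1
    have e2 : lbc (hh 11 p') (hh 3 p) = (lbP hh p 0 (mu σ δ c m p' p) (ml c p p') (mu σ δ c m p p'))⁻¹ *
        (lbP hh p p c' d f * lbP hh 0 0 (mu σ δ c m p' p) (ml c p p') (mu σ δ c m p p' + ml c p p')) *
        (lbP hh 0 0 c' d f)⁻¹ := by
      rw [show lbc (O.g 10 1) 1 = 1 by simp [lbc], one_mul] at e1
      rw [e1]; group
    have iv : ∀ a b c d f, (lbP hh a b c d f)⁻¹ = lbP hh a b c d f := fun a b c d f =>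
      inv_eq_of_mul_eq_one_right (h.sq4 (h.mem4.2 ⟨_, _, _, _, _, rfl⟩))
    refine e2.trans ?_
    simp only [iv, h.lb_e3, h.lb_e8, h.lb_mul, add_zero, zero_add]
    have := O.charP
    congr 1 <;> ext <;> simp <;> grind

theorem HR1.h2' {c m : K} (h : HR1 O t hh δ c m) (p p' : K × K) :
    hh 2 p' * hh 9 p * (hh 2 p')⁻¹ = hh 9 p * hh 5 (ml c p p') := by
  have e : lbc O.n1 (lbc (hh 11 p') (hh 3 p)) = lbc O.n1 _ := congrArg (lbc O.n1) (h.h2 p p')
  rw [lbc_lbc, lbc_mul, h.lb_n1 (by decide) (by decide), h.lb_n1 (by decide) (by decide),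
    h.lb_n1 (by decide) (by decide)] at e
  exact e

theorem HR1.h2'' {c m : K} (h : HR1 O t hh δ c m) (p p' : K × K) :
    hh 8 p' * hh 0 p * (hh 8 p')⁻¹ = hh 0 p * hh 5 (ml c p p') := by
  have e : lbc O.n8 (lbc (hh 2 p') (hh 9 p)) = lbc O.n8 _ := congrArg (lbc O.n8) (h.h2' p p')
  rw [lbc_lbc, lbc_mul, h.lb_n8 (by decide) (by decide), h.lb_n8 (by decide) (by decide),
    h.lb_n8 (by decide) (by decide)] at e
  exact e

end CfsgLib.RF4
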