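import Mathlib
import Cfsg.Agent.Lib.RF4.Hc1
import Cfsg.Agent.Lib.Ward.Loc3

set_option autoImplicit false
set_option Elab.async false
set_option linter.unusedSectionVars false
set_option linter.unusedSimpArgs false

namespace CfsgLib.RF4

open Subgroup CfsgLib.F42
open scoped commutatorElement

/-! # The group generated by `U` and the hats is a 2-group (package GAM) -/

variable {K : Type*} [Field K] [Finite K] {G : Type*} [Group G] [Finite G] {σ : K →+* K} {sz : Sz K} {O : OP σ sz G} {t : G} {hh : Fin 12 → K × K → G} {δ c m : K}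

/-- the flag in `Ê3` -/
def gamLow : Fin 12 → List (Fin 12) := ![[], [], [], [5, 6, 8], [], [], [5, 8], [], [5], [3, 5, 6, 8], [], []]

/-- `g` acts unipotently on the flag -/
def GamUn {K G : Type*} [Group G] (hh : Fin 12 → K × K → G) (g : G) : Prop :=
  ∀ j ∈ E3, ∀ p, (hh j p)⁻¹ * lbc g (hh j p) ∈ hat hh (gamLow j)

theorem gam_norm_hat {S : List (Fin 12)} {g : G} (h : ∀ j ∈ S, ∀ p, lbc g (hh j p) ∈ hat hh S) :
    g ∈ normalizer (hat hh S : Set G) :=
  mem_normalizer_fintype fun _ hn => (hat_le (P := (hat hh S).comap (MulAut.conj g).toMonoidHom)).2 h hn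

theorem GamUn.norm {g : G} (h : GamUn hh g) {S : List (Fin 12)} (hS : ∀ j ∈ S, j ∈ E3 ∧ ∀ k ∈ gamLow j, k ∈ S) :
    g ∈ normalizer (hat hh S : Set G) := gam_norm_hat fun j hj p => by
  have := mul_mem (hat_mem hj p) (hat_mono (hS j hj).2 (h j (hS j hj).1 p))
  rwa [mul_inv_cancel_left] at this

theorem gam_low : ∀ j ∈ E3, ∀ k ∈ gamLow j, k ∈ E3 ∧ ∀ i ∈ gamLow k, i ∈ gamLow j := by decide

/-- the elements acting unipotently on the flag -/
def gamU (hh : Fin 12 → K × K → G) : Subgroup G where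
  carrier := {g | GamUn hh g}
  one_mem' j _ p := by rw [lbc_one, inv_mul_cancel]; exact one_mem _
  mul_mem' {a b} ha hb j hj p := by
    have := mul_mem (ha j hj p) ((mem_normalizer_iff.1 (ha.norm (gam_low j hj)) _).1 (hb j hj p))
    rwa [show (hh j p)⁻¹ * lbc a (hh j p) * (a * ((hh j p)⁻¹ * lbc b (hh j p)) * a⁻¹) =
      (hh j p)⁻¹ * lbc (a * b) (hh j p) by simp only [lbc]; group] at this
  inv_mem' {a} ha j hj p := by
    have := (mem_normalizer_iff.1 (inv_mem (GamUn.norm ha (gam_low j hj))) _).1 (inv_mem (ha j hj p))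
    rwa [show a⁻¹ * ((hh j p)⁻¹ * lbc a (hh j p))⁻¹ * a⁻¹⁻¹ = (hh j p)⁻¹ * lbc a⁻¹ (hh j p) by
      simp only [lbc]; group] at this

theorem gam_of {g : G} {j : Fin 12} {p : K × K} {e : G} (h : g * hh j p * g⁻¹ = hh j p * e)
    (he : e ∈ hat hh (gamLow j)) : (hh j p)⁻¹ * lbc g (hh j p) ∈ hat hh (gamLow j) := by
  rwa [lbc, h, inv_mul_cancel_left]

theorem gam_of_comm {g : G} {j : Fin 12} {p : K × K} (h : Commute (hh j p) g) :
    (hh j p)⁻¹ * lbc g (hh j p) ∈ hat hh (gamLow j) := by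
  rw [lbc_comm h, inv_mul_cancel]; exact one_mem _

theorem gam_le {P : Subgroup G} (h1 : ∀ j u, O.g j u ∈ P) (h2 : ∀ j ∈ JH, ∀ p, hh j p ∈ P) : Gam O hh ≤ P :=
  sup_le (O.pat_le.2 fun j _ => h1 j) (hat_le.2 h2)

theorem gam_g (j : Fin 12) (u : K) : O.g j u ∈ Gam O hh := mem_sup_left (O.g_mem_U j u)

theorem gam_hh {j : Fin 12} (hj : j ∈ JH) (p : K × K) : hh j p ∈ Gam O hh := mem_sup_right (hat_mem hj p)

theorem gam_norm_cent {S : Subgroup G} {g : G} (hg : g ∈ normalizer (S : Set G)) {x : G}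
    (hx : x ∈ centralizer (S : Set G)) : g * x * g⁻¹ ∈ centralizer (S : Set G) := fun y hy => by
  have := hx _ ((mem_normalizer_iff.1 (inv_mem hg) y).1 hy)
  calc y * (g * x * g⁻¹) = g * (g⁻¹ * y * g⁻¹⁻¹ * x) * g⁻¹ := by group
    _ = _ := by rw [this]; group

namespace HR

variable (h : HR O t hh δ c m)
include h

theorem gam_c06 (p p' : K × K) : Commute (hh 6 p) (hh 0 p') := by
  have e : lbc O.n8 (hh 3 p * hh 9 p') = lbc O.n8 (hh 9 p' * hh 3 p) := congrArg (lbc O.n8) (h.h3 p p').eq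
  rw [lbc_mul, lbc_mul, h.lb_n8 (by decide) (by decide), h.lb_n8 (by decide) (by decide)] at e
  exact e

theorem gam_hat_un {k : Fin 12} (hk : k ∈ JH) (π : K × K) : GamUn hh (hh k π) := by
  intro j hj p
  have hj' : j ∈ JH := by revert j; decide
  by_cases hc : cm j k = [] ∧ ¬ Far j k
  · exact gam_of_comm (h.cc j hj' k hk hc.1 hc.2 p π)
  have : (j, k) ∈ [((8 : Fin 12), (0 : Fin 12)), (6, 0), (3, 11), (3, 9), (9, 0), (9, 2), (9, 3)] := by
    revert j k; decide
  simp only [List.mem_cons, Prod.mk.injEq, List.not_mem_nil, or_false] at this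
  rcases this with ⟨rfl, rfl⟩ | ⟨rfl, rfl⟩ | ⟨rfl, rfl⟩ | ⟨rfl, rfl⟩ | ⟨rfl, rfl⟩ | ⟨rfl, rfl⟩ | ⟨rfl, rfl⟩
  · exact gam_of (hc1_swap (h.h2'' π p) (h.sq (by decide) _)
      (h.cc 5 (by decide) 8 (by decide) (by decide) (by decide) _ _)) (hat_mem (by decide) _)
  · exact gam_of_comm (h.gam_c06 _ _)
  · exact gam_of (h.h2 p π) (hat_mem (by decide) _)
  · exact gam_of_comm (h.h3 _ _)
  · exact gam_of (h.h4 π p) (mul_mem (hat_mem (by decide) _) (hat_mem (by decide) _))
  · exact gam_of (h.h2' p π) (hat_mem (by decide) _)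
  · exact gam_of_comm (h.h3 _ _).symm

theorem gam_g_un (k : Fin 12) (u : K) : GamUn hh (O.g k u) := by
  by_cases hk : k ∈ JH
  · rw [← h.base k hk]; exact h.gam_hat_un hk _
  intro j hj p
  have hj' : j ∈ JH := by revert j; decide
  by_cases hc : cm j k = []
  · exact gam_of_comm (h.cg j hj' k hc p u)
  have : (j, k) ∈ [((6 : Fin 12), (1 : Fin 12)), (6, 10), (3, 7), (3, 10), (9, 1), (9, 4)] := by
    revert j k; decide
  simp only [List.mem_cons, Prod.mk.injEq, List.not_mem_nil, or_false] at this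
  rcases this with ⟨rfl, rfl⟩ | ⟨rfl, rfl⟩ | ⟨rfl, rfl⟩ | ⟨rfl, rfl⟩ | ⟨rfl, rfl⟩ | ⟨rfl, rfl⟩
  · exact gam_of (h.y1 u p) (hat_mem (by decide) _)
  · exact gam_of (h.y10 u p) (hat_mem (by decide) _)
  · exact gam_of (h.y7 u p) (hat_mem (by decide) _)
  · exact gam_of (h.l5 u p) (mul_mem (hat_mem (by decide) _) (hat_mem (by decide) _))
  · exact gam_of (h.l5' u p) (mul_mem (hat_mem (by decide) _) (hat_mem (by decide) _))
  · exact gam_of (h.y49 u p) (hat_mem (by decide) _)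

theorem gam_un : Gam O hh ≤ gamU hh := gam_le h.gam_g_un fun _ hj => h.gam_hat_un hj

theorem gam_norm : Gam O hh ≤ normalizer (hat hh E3 : Set G) := fun _ hg => GamUn.norm (h.gam_un hg) (by decide)

theorem gam_cc {j k : Fin 12} (hj : j ∈ E3) (hk : k ∈ E3) (p p' : K × K) : Commute (hh j p) (hh k p') := by
  have hj' : j ∈ JH := by revert j; decide
  have hk' : k ∈ JH := by revert k; decide
  by_cases hc : Far j k
  · have : (j, k) ∈ [((3 : Fin 12), (9 : Fin 12)), (9, 3)] := by revert j k; decide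
    simp only [List.mem_cons, Prod.mk.injEq, List.not_mem_nil, or_false] at this
    rcases this with ⟨rfl, rfl⟩ | ⟨rfl, rfl⟩
    · exact h.h3 _ _
    · exact (h.h3 _ _).symm
  · exact h.cc j hj' k hk' ((by decide : ∀ j ∈ E3, ∀ k ∈ E3, cm j k = []) j hj k hk) hc p p'

theorem gam_ab {e e' : G} (he : e ∈ hat hh E3) (he' : e' ∈ hat hh E3) : Commute e e' :=
  commute_hat (fun _ hk _ => (commute_hat (fun _ hj _ => h.gam_cc hk hj _ _) he).symm) he'

theorem gam_sq {e : G} (he : e ∈ hat hh E3) : e * e = 1 := by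
  induction he using closure_induction with
  | mem x hx =>
    obtain ⟨j, hj, p, rfl⟩ := hx
    exact h.sq (by revert j; decide) p
  | one => exact one_mul 1
  | mul x y hx hy h1 h2 => rw [(h.gam_ab hy hx).mul_mul_mul_comm, h1, h2, one_mul]
  | inv x hx h1 => rw [← mul_inv_rev, h1, inv_one]

/-- the action on `Ê3` is unipotent -/
theorem gam_odd {g : G} (hg : g ∈ Gam O hh) (ho : Odd (orderOf g)) : ∀ e ∈ hat hh E3, Commute g e := by
  have step : ∀ j ∈ E3, (∀ k ∈ gamLow j, ∀ p, Commute g (hh k p)) → ∀ p, Commute g (hh j p) := fun j hj hk p =>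
    odd_fix (s := (hh j p)⁻¹ * lbc g (hh j p)) ho (by rw [mul_inv_cancel_left, lbc])
      (commute_hat hk (h.gam_un hg j hj p))
      (T2.of_sq (h.gam_sq (hat_mono (fun k hk => (gam_low j hj k hk).1) (h.gam_un hg j hj p))))
  have c5 := step 5 (by decide) (by simp [gamLow])
  have c8 := step 8 (by decide) (by simp [gamLow, c5])
  have c6 := step 6 (by decide) (by simp [gamLow, c5, c8])
  have c3 := step 3 (by decide) (by simp [gamLow, c5, c8, c6])
  have c9 := step 9 (by decide) (by simp [gamLow, c5, c8, c6, c3])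
  exact fun e he => commute_hat (by simp [c5, c8, c6, c3, c9]) he

theorem gam_c5 {g : G} (hg : g ∈ Gam O hh) (p : K × K) : Commute g (hh 5 p) :=
  mem_centralizer_singleton_iff.1 (gam_le (P := centralizer {hh 5 p})
    (fun j u => mem_centralizer_singleton_iff.2 (h.c5 p (O.g_mem_C j u)).symm)
    (fun j hj p' => mem_centralizer_singleton_iff.2 (h.cc j hj 5 (by decide) (by revert j; decide)
      (by revert j; decide) p' p)) hg)

theorem gam_tE : t ∈ normalizer (hat hh E3 : Set G) := gam_norm_hat fun j hj p => by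
  rw [lbc, h.tconj (by revert j; decide)]; exact hat_mem hj _

theorem gam_hE (x : Kˣ × Kˣ) : O.h x ∈ normalizer (hat hh E3 : Set G) := gam_norm_hat fun j hj p => by
  rw [lbc, h.hc j (by revert j; decide)]; exact hat_mem hj _

theorem gam_n1E : O.n1 ∈ normalizer (hat hh E3 : Set G) := gam_norm_hat fun j hj p => by
  rw [lbc, h.n1c j (by revert j; decide) (by revert j; decide)]; exact hat_mem (by revert j; decide) _

theorem gam_hc {x : G} (hx : x ∈ centralizer (hat hh E3 : Set G)) (h2 : T2 x) (hc : Commute x t) : x ∈ O.pat E3 := by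
  have cx : ∀ e ∈ hat hh E3, Commute x e := fun e he => (hx e he).symm
  obtain ⟨l, hl, o, ho, e | e⟩ := h.cen_E3 x hc fun y hy => cx y (h.pat_le (by decide) hy)
  · rw [e] at h2 ⊢
    rw [h2.odd_eq_one (T2.of_mem (O.isPGroup_pat _) hl) (ho.cen l (pat_le_G0 O _ hl)).symm ho.odd, mul_one]
    exact hl
  · refine absurd ?_ h.not_comm
    have := ((cx _ (hat_mem (j := 5) (by decide) (1, 0))).symm.mul_right
      (h.co 5 (by decide) (1, 0) o ho).inv_right).mul_right (h.c5 (1, 0) (O.pat_le_C _ hl)).inv_right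
    rwa [e, mul_inv_cancel_right, mul_inv_cancel_right] at this

theorem gam_hs {l : G} (hl : l ∈ O.pat E3) : ∃ y ∈ hat hh E3, y * t * y⁻¹ = t * l := by
  refine O.pat_ind hl ⟨1, one_mem _, by simp⟩ (fun j hj u => ⟨_, hat_mem hj (u, 0), h.mv j (by revert j; decide) _⟩)
    ?_
  rintro a ha b hb ⟨y, hy, e⟩ ⟨y', hy', e'⟩
  refine ⟨y * y', mul_mem hy hy', ?_⟩
  calc y * y' * t * (y * y')⁻¹ = y * (y' * t * y'⁻¹) * y⁻¹ := by group
    _ = y * t * y⁻¹ * (y * b * y⁻¹) := by rw [e']; group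
    _ = _ := by rw [e, (h.gam_ab hy (h.pat_le (by decide) hb)).eq, mul_inv_cancel_right, mul_assoc]

theorem gam_W : ∃ W : Subgroup G, (∀ g, g ∈ W ↔ g ∈ centralizer (hat hh E3 : Set G) ∧ Odd (orderOf g)) ∧
    Gam O hh ≤ centralizer (W : Set G) := by
  obtain ⟨W, hW, mW⟩ := exists_odd_compl (N := centralizer (hat hh E3 : Set G)) (Zh := hat hh E3) (t := t)
    (isPGroup_of_T2 fun x hx => T2.of_sq (h.gam_sq hx)) h.t2
    (mem_normalizer_fintype fun _ => gam_norm_cent h.gam_tE) h.gam_tE (fun x hx y hy => (h.gam_ab hy hx).eq)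
    (fun z hz x hx => hx z hz) (fun x hx h2 hc => h.pat_le (by decide) (h.gam_hc hx h2 hc)) fun z hz e => by
      refine h.gam_hs (h.gam_hc (fun y hy => (h.gam_ab hy hz).eq) (T2.of_sq (h.gam_sq hz)) ?_)
      calc z * t = t * (t * z * (t * z)) * z := by
            rw [show t * (t * z * (t * z)) * z = t * t * z * t * (z * z) by group, h.t2, h.gam_sq hz, one_mul, mul_one]
        _ = t * z := by rw [e, mul_one]
  refine ⟨W, mW, ?_⟩
  have nW : ∀ g ∈ normalizer (hat hh E3 : Set G), g ∈ normalizer (W : Set G) := fun g hg =>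
    mem_normalizer_fintype fun w hw => (mW _).2 ⟨gam_norm_cent hg ((mW w).1 hw).1, by
      rw [show g * w * g⁻¹ = MulAut.conj g w from rfl, MulEquiv.orderOf_eq]; exact ((mW w).1 hw).2⟩
  have od : ∀ w ∈ W, Commute w t → Od O t w := fun w hw hc =>
    h.cen_odd (S := E3) (by decide) (by decide) (by decide) (fun u hu => cU_E3 O.toOC hu) ((mW w).1 hw).2 hc
      fun x hx => (((mW w).1 hw).1 x (h.pat_le (by decide) hx)).symm
  have gW : ∀ j ∈ JH, ∀ u, O.g j u ∈ centralizer (W : Set G) := fun j hj u => by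
    by_cases hu : u = 0
    · rw [hu, O.g_zero]; exact one_mem _
    have x2 : O.g j u * O.g j u = 1 := by rw [← h.base j hj]; exact h.sq hj _
    have : W ≤ centralizer {O.g j u} := by
      refine UFP.le_of_four hW h.t2 x2 (h.tg j u).eq h.t1 (fun e => hu (O.g_eq_one.1 e)) (fun e => h.t_not_mem ?_)
        (nW _ h.gam_tE) (nW _ (h.gam_norm (gam_g j u))) (fun w hw => ?_) inf_le_right fun w hw => ?_
      · rw [eq_inv_of_mul_eq_one_left e]; exact inv_mem (g_mem_G0 O j u)
      · exact mem_centralizer_singleton_iff.2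
          ((od w hw.1 (mem_centralizer_singleton_iff.1 hw.2)).cen _ (g_mem_G0 O j u))
      · have e := h.mv j hj (u, 0)
        have hw2 : Commute w (hh j (u, 0) * t * (hh j (u, 0))⁻¹) := by
          rw [e]; exact mem_centralizer_singleton_iff.1 hw.2
        have o := od _ ((mem_normalizer_iff.1 (inv_mem (nW _ (h.gam_norm (gam_hh hj (u, 0))))) w).1 hw.1) (by
          have := hw2.map (MulAut.conj (hh j (u, 0))⁻¹)
          simpa [mul_assoc] using this)
        have e2 : (hh j (u, 0))⁻¹ * w * (hh j (u, 0))⁻¹⁻¹ = w := by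
          have := (h.co j hj (u, 0) _ o).eq
          rw [inv_inv] at this ⊢
          rw [← mul_assoc, mul_inv_cancel_left, mul_left_inj] at this
          exact this.symm
        rw [e2] at o
        exact mem_centralizer_singleton_iff.2 (o.cen _ (g_mem_G0 O j u))
    exact fun w hw => mem_centralizer_singleton_iff.1 (this hw)
  have h5 : ∀ α : Kˣ, O.h (α ^ 2, α⁻¹) * O.n1 ∈ centralizer (W : Set G) := fun α => by
    rw [h5_n1]
    exact mul_mem (mul_mem (gW 0 (by decide) _) (gam_norm_cent (nW _ h.gam_n1E) (gW 0 (by decide) _)))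
      (gW 0 (by decide) _)
  have n1W : O.n1 ∈ centralizer (W : Set G) := by
    have := h5 1
    rwa [one_pow, inv_one, Prod.mk_one_one, map_one, one_mul] at this
  obtain ⟨a, a0, a1⟩ := h.big
  obtain ⟨α, hα⟩ : ∃ α : Kˣ, α ≠ 1 := ⟨Units.mk0 a a0, fun e => a1 (congrArg Units.val e)⟩
  have hW5 : O.h (α ^ 2, α⁻¹) ∈ centralizer (W : Set G) := by simpa using mul_mem (h5 α) (inv_mem n1W)
  have br : ∀ g ∈ Gam O hh, g⁻¹ * (O.h (α ^ 2, α⁻¹) * g * (O.h (α ^ 2, α⁻¹))⁻¹) ∈ centralizer (W : Set G) :=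
    fun g hg => by
      have := mul_mem (gam_norm_cent (inv_mem (nW _ (h.gam_norm hg))) hW5) (inv_mem hW5)
      simpa only [inv_inv, mul_assoc] using this
  have ne : ∀ j, j ≠ 6 → 1 + chi σ j (α ^ 2) α⁻¹ ≠ 0 := fun j hj e =>
    chi_H5_ne O.toOC hα hj (O.add_eq_zero.1 e).symm
  refine gam_le (fun j u => ?_) fun j hj p => ?_
  · by_cases hj : j ∈ JH
    · exact gW j hj u
    have hd : ∀ i ∈ cm j j, i ∈ JH := by revert j; decide
    obtain ⟨s, rfl⟩ : ∃ s, u = s + chi σ j (α ^ 2) α⁻¹ * s :=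
      ⟨u / (1 + chi σ j (α ^ 2) α⁻¹), by
        have := ne j (by rintro rfl; exact hj (by decide))
        field_simp⟩
    obtain ⟨d, md, ed⟩ := O.add' hd s s
    obtain ⟨d', md', ed'⟩ := O.add' hd s (chi σ j (α ^ 2) α⁻¹ * s)
    have m1 := br _ (gam_g j s)
    rw [O.h_g] at m1
    rw [O.add_self, O.g_zero, one_mul] at ed
    have := mul_mem (mul_mem (O.pat_le.2 gW md) m1) (inv_mem (O.pat_le.2 gW md'))
    rwa [← ed, mul_assoc (O.g j s), mul_assoc (O.g j s), mul_inv_cancel_left, ← mul_assoc, ed',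
      mul_inv_cancel_right] at this
  · by_cases h6 : j = 6
    · subst h6
      exact fun w hw => (((mW w).1 hw).1 _ (hat_mem (by decide) p)).symm
    obtain ⟨s, rfl⟩ : ∃ s, p = s + chi σ j (α ^ 2) α⁻¹ • s :=
      ⟨(1 + chi σ j (α ^ 2) α⁻¹)⁻¹ • p, by
        rw [smul_smul, ← add_smul, ← one_add_mul, mul_inv_cancel₀ (ne j h6), one_smul]⟩
    have m1 := br _ (gam_hh hj s)
    rwa [h.hc j hj, h.inv hj, ← h.add j hj] at m1

theorem gam_two : IsPGroup 2 (Gam O hh) := by
  obtain ⟨W, mW, hW⟩ := h.gam_W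
  obtain ⟨P, hP, mP⟩ := exists_two (Γ := Gam O hh) fun g hg ho x hx =>
    hW hx g ((mW g).2 ⟨fun e he => (h.gam_odd hg ho e he).symm, ho⟩)
  exact hP.to_le (gam_le (fun j u => (mP _).2 ⟨gam_g j u, 2, O.g_pow_four j u⟩)
    fun j hj p => (mP _).2 ⟨gam_hh hj p, T2.of_sq (h.sq hj p)⟩)

theorem gam_t : t ∈ normalizer (Gam O hh : Set G) :=
  mem_normalizer_fintype fun _ hn => gam_le (P := (Gam O hh).comap (MulAut.conj t).toMonoidHom)
    (fun j u => show t * O.g j u * t⁻¹ ∈ Gam O hh by rw [(h.tg j u).eq, mul_inv_cancel_right]; exact gam_g j u)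
    (fun j hj p => show t * hh j p * t⁻¹ ∈ Gam O hh by rw [h.tconj hj]; exact gam_hh hj _) hn

theorem gam_H : O.H ≤ normalizer (Gam O hh : Set G) := by
  rintro _ ⟨⟨α, β⟩, rfl⟩
  exact mem_normalizer_fintype fun _ hn => gam_le (P := (Gam O hh).comap (MulAut.conj (O.h (α, β))).toMonoidHom)
    (fun j u => show O.h (α, β) * O.g j u * (O.h (α, β))⁻¹ ∈ Gam O hh by rw [O.h_g]; exact gam_g j _)
    (fun j hj p => show O.h (α, β) * hh j p * (O.h (α, β))⁻¹ ∈ Gam O hh by rw [h.hc j hj]; exact gam_hh hj _) hn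

theorem gam_cent {g : G} (hg : g ∈ Gam O hh) (hc : Commute g t) : g ∈ O.U := by
  refine (h.mem_U h.gam_two le_sup_left h.gam_t hg hc).resolve_right fun e => h.not_comm ?_
  have := (h.c5 (1, 0) (O.U_le_C e)).mul_right (h.gam_c5 hg (1, 0)).symm.inv_right
  rwa [mul_inv_cancel_right] at this

end HR

end CfsgLib.RF4
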