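import Mathlib
import Cfsg.Agent.Lib.RF4.Gen

set_option autoImplicit false
set_option Elab.async false

namespace CfsgLib.RF4

open Subgroup CfsgLib.F42
open scoped commutatorElement

/-! # The complement of `t` (package HAT) -/

variable {K : Type*} [Field K] [Finite K] {G : Type*} [Group G] [Finite G]

/-- the hypotheses of the complement lemma -/
structure HatD (X : K → G) (J T : Subgroup G) (t : G) : Prop where
  two : (2 : K) = 0
  big : 4 < Nat.card K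
  add : ∀ r s, X (r + s) = X r * X s
  inj : ∀ r, X r = 1 → r = 0
  odd : ∀ h ∈ T, Odd (orderOf h)
  t2 : t * t = 1
  tJ : t ∈ J
  tX : ∀ r, t ≠ X r
  XJ : ∀ r, X r ∈ J
  cX : ∀ b ∈ J, ∀ r, Commute b (X r)
  TJ : T ≤ normalizer (J : Set G)
  Tt : ∀ h ∈ T, Commute h t
  TX : ∀ h ∈ T, ∃ l, ∀ r, h * X r * h⁻¹ = X (l * r)
  TX' : ∀ l, l ≠ 0 → ∃ h ∈ T, ∀ r, h * X r * h⁻¹ = X (l * r)
  mv : ∀ b ∈ J, ∃ r, b * t * b⁻¹ = t * X r
  ne : ∃ b ∈ J, ¬ Commute b t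
  ker : ∀ b ∈ J, Commute b t → ∃ r, b = X r ∨ b = t * X r

theorem hat_pair {Q : Type*} [Group Q] {t a b : Q} (hc : ∀ x, Commute t x) (t2 : t * t = 1) (ha : a * a = t)
    (hb : b * b = t) (hab : a * b * (a * b) = t) : a * b = t * (b * a) := by
  have h1 : b * a = a⁻¹ * t * b⁻¹ := by rw [← hab]; group
  have h2 : a⁻¹ = t * a := by rw [← ha, inv_eq_iff_mul_eq_one, ← t2, ← ha]; group
  have h3 : b⁻¹ = t * b := by rw [← hb, inv_eq_iff_mul_eq_one, ← t2, ← hb]; group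
  rw [h1, h2, h3, mul_assoc (t * a), ← mul_assoc t t b, t2, one_mul, ← mul_assoc, ← mul_assoc, t2, one_mul]

theorem hat_three {Q : Type*} [Group Q] {t u v w : Q} (hc : ∀ x, Commute t x) (t2 : t * t = 1) (hu : u * u = t)
    (hv : v * v = t) (hw : w * w = t) (huv : u * v * (u * v) = t) (huw : u * w * (u * w) = t)
    (hvw : v * w * (v * w) = t) (h : u * v * w * (u * v * w) = t) : t = 1 := by
  have h1 := hat_pair hc t2 huv hw h
  rw [mul_assoc, hat_pair hc t2 hv hw hvw, ← mul_assoc, ← (hc u).eq, mul_assoc, ← mul_assoc u,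
    hat_pair hc t2 hu hw huw, mul_assoc, mul_assoc] at h1
  exact mul_right_cancel (b := w * (u * v)) (by rw [mul_left_cancel h1, one_mul])

namespace HatD

variable {X : K → G} {J T : Subgroup G} {t : G} (h : HatD X J T t)
include h

omit [Finite K] [Finite G]

theorem X0 : X 0 = 1 := by
  have := h.add 0 0
  rw [add_zero] at this
  exact left_eq_mul.1 this

theorem add_self (r : K) : r + r = 0 := by rw [← two_mul, h.two, zero_mul]

theorem XX (r : K) : X r * X r = 1 := by rw [← h.add, h.add_self, h.X0]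

theorem Xinv (r : K) : (X r)⁻¹ = X r := inv_eq_of_mul_eq_one_right (h.XX r)

theorem tinv : t⁻¹ = t := inv_eq_of_mul_eq_one_right h.t2

theorem Xinj {r s : K} (e : X r = X s) : r = s := by
  have := h.inj (r + s) (by rw [h.add, e, h.XX])
  linear_combination this - h.add_self s

theorem r_mul {a b : G} (ha : a ∈ J) {r s : K} (e : a * t * a⁻¹ = t * X r) (e' : b * t * b⁻¹ = t * X s) :
    a * b * t * (a * b)⁻¹ = t * X (r + s) := by
  calc a * b * t * (a * b)⁻¹ = a * (b * t * b⁻¹) * a⁻¹ := by group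
    _ = a * t * a⁻¹ * (a * X s * a⁻¹) := by rw [e']; group
    _ = t * X (r + s) := by rw [e, (h.cX a ha s).eq, mul_inv_cancel_right, h.add, mul_assoc]

theorem r_inv {a : G} (ha : a ∈ J) {r : K} (e : a * t * a⁻¹ = t * X r) : a⁻¹ * t * a⁻¹⁻¹ = t * X r := by
  have h1 : t = a * t * a⁻¹ * X r := by rw [e, mul_assoc, h.XX, mul_one]
  calc a⁻¹ * t * a⁻¹⁻¹ = a⁻¹ * (a * t * a⁻¹ * X r) * a⁻¹⁻¹ := by rw [← h1]
    _ = t * (a⁻¹ * (X r * a)) := by group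
    _ = t * X r := by rw [← (h.cX a ha r).eq, inv_mul_cancel_left]

theorem r_conj {a g : G} (hg : g ∈ T) {l r : K} (hl : ∀ r, g * X r * g⁻¹ = X (l * r))
    (e : a * t * a⁻¹ = t * X r) : g * a * g⁻¹ * t * (g * a * g⁻¹)⁻¹ = t * X (l * r) := by
  have h1 : g⁻¹ * t * g = t := by rw [mul_assoc, ← (h.Tt g hg).eq, inv_mul_cancel_left]
  calc g * a * g⁻¹ * t * (g * a * g⁻¹)⁻¹ = g * (a * (g⁻¹ * t * g) * a⁻¹) * g⁻¹ := by group
    _ = g * t * g⁻¹ * (g * X r * g⁻¹) := by rw [h1, e]; group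
    _ = _ := by rw [hl, (h.Tt g hg).eq, mul_inv_cancel_right]

theorem r_zero {a : G} (e : a * t * a⁻¹ = t * X 0) : Commute a t := by
  rw [h.X0, mul_one] at e
  exact mul_inv_eq_iff_eq_mul.1 e

theorem r_eq {a b : G} (ha : a ∈ J) {r : K} (e : a * t * a⁻¹ = t * X r) (e' : b * t * b⁻¹ = t * X r) :
    Commute (a⁻¹ * b) t := by
  have := h.r_mul (inv_mem ha) (h.r_inv ha e) e'
  rw [h.add_self] at this
  exact h.r_zero this

theorem cJ {g a : G} (hg : g ∈ T) (ha : a ∈ J) : g * a * g⁻¹ ∈ J :=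
  Tech.conj_mem_of_mem_normalizer (h.TJ hg) ha

theorem surj0 (r : K) : ∃ b ∈ J, b * t * b⁻¹ = t * X r := by
  by_cases hr : r = 0
  · exact ⟨1, one_mem _, by simp [hr, h.X0]⟩
  obtain ⟨b, hb, hn⟩ := h.ne
  obtain ⟨s, hs⟩ := h.mv b hb
  have h0 : s ≠ 0 := fun e => hn (h.r_zero (e ▸ hs))
  obtain ⟨g, hg, hl⟩ := h.TX' (r / s) (div_ne_zero hr h0)
  exact ⟨_, h.cJ hg hb, by rw [h.r_conj hg hl hs, div_mul_cancel₀ _ h0]⟩

/-- the subgroup `X` -/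
def W : Subgroup G where
  carrier := {x | ∃ r, x = X r}
  one_mem' := ⟨0, h.X0.symm⟩
  mul_mem' := by rintro _ _ ⟨r, rfl⟩ ⟨s, rfl⟩; exact ⟨_, (h.add r s).symm⟩
  inv_mem' := by rintro _ ⟨r, rfl⟩; exact ⟨r, h.Xinv r⟩

/-- the subgroup `⟨t⟩ X` -/
def D : Subgroup G where
  carrier := {x | ∃ r, x = X r ∨ x = t * X r}
  one_mem' := ⟨0, Or.inl h.X0.symm⟩
  mul_mem' := by
    rintro _ _ ⟨r, rfl | rfl⟩ ⟨s, rfl | rfl⟩ <;> refine ⟨r + s, ?_⟩ <;> rw [h.add]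
    · exact Or.inl rfl
    · exact Or.inr (by rw [← mul_assoc, ← (h.cX t h.tJ r).eq, mul_assoc])
    · exact Or.inr (mul_assoc _ _ _)
    · exact Or.inl (by rw [mul_assoc, ← mul_assoc (X r), ← (h.cX t h.tJ r).eq, mul_assoc, ← mul_assoc, h.t2, one_mul])
  inv_mem' := by
    rintro _ ⟨r, rfl | rfl⟩
    · exact ⟨r, Or.inl (h.Xinv r)⟩
    · exact ⟨r, Or.inr (by rw [mul_inv_rev, h.Xinv, h.tinv, (h.cX t h.tJ r).eq])⟩

theorem nW : ∀ s ∈ J, ∀ w ∈ h.W, s * w * s⁻¹ ∈ h.W := by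
  rintro s hs _ ⟨r, rfl⟩
  exact ⟨r, by rw [(h.cX s hs r).eq, mul_inv_cancel_right]⟩

theorem sq_X {a : G} (ha : a ∈ J) (s : K) : a * X s * (a * X s) = a * a := by
  rw [mul_assoc, ← mul_assoc (X s), ← (h.cX a ha s).eq, mul_assoc a, h.XX, mul_one]

theorem sq_congr {a b : G} (ha : a ∈ J) (hb : b ∈ J) {r : K} (e : a * t * a⁻¹ = t * X r)
    (e' : b * t * b⁻¹ = t * X r) (hw : a * a ∈ h.W) : b * b ∈ h.W := by
  obtain ⟨s, e1 | e1⟩ := h.ker _ (mul_mem (inv_mem ha) hb) (h.r_eq ha e e')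
  · rw [eq_mul_of_inv_mul_eq e1, h.sq_X ha]; exact hw
  · rw [eq_mul_of_inv_mul_eq e1, ← mul_assoc a t, h.sq_X (mul_mem ha h.tJ)]
    have h1 : a * t * (a * t) = a * a * (a⁻¹ * t * a⁻¹⁻¹ * t) := by group
    rw [h1, h.r_inv ha e, (h.cX t h.tJ r).eq, mul_assoc (X r), h.t2, mul_one]
    exact mul_mem hw ⟨r, rfl⟩

theorem sq_mem [Finite K] {b : G} (hb : b ∈ J) : b * b ∈ h.W := by
  classical
  by_contra hn
  have all : ∀ a ∈ J, ∀ r, a * t * a⁻¹ = t * X r → r ≠ 0 → ∃ s, a * a = t * X s := by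
    intro a ha r e hr
    have h1 := h.r_mul ha e e
    rw [h.add_self] at h1
    obtain ⟨s, e1 | e1⟩ := h.ker _ (mul_mem ha ha) (h.r_zero h1)
    swap
    · exact ⟨s, e1⟩
    exfalso
    obtain ⟨u, hu⟩ := h.mv b hb
    by_cases hu0 : u = 0
    · exact hn (h.sq_congr (one_mem _) hb (by simp [h.X0]) (hu0 ▸ hu) (by simpa using one_mem _))
    obtain ⟨g, hg, hl⟩ := h.TX' (u / r) (div_ne_zero hu0 hr)
    refine hn (h.sq_congr (h.cJ hg ha) hb (by rw [h.r_conj hg hl e, div_mul_cancel₀ _ hr]) hu ⟨u / r * s, ?_⟩)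
    rw [← hl, ← e1]; group
  have := Fintype.ofFinite K
  have big := h.big
  rw [Nat.card_eq_fintype_card] at big
  obtain ⟨y, hy⟩ : ∃ y : K, y ∉ ({0, 1} : Finset K) := Finset.exists_mem_notMem_of_card_lt_card
    (t := Finset.univ) (by have := Finset.card_le_two (a := (0 : K)) (b := 1); rw [Finset.card_univ]; omega)
    |>.imp fun _ h => h.2
  obtain ⟨z, hz⟩ : ∃ z : K, z ∉ ({0, 1, y, 1 + y} : Finset K) := Finset.exists_mem_notMem_of_card_lt_card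
    (t := Finset.univ) (by have := Finset.card_le_four (a := (0 : K)) (b := 1) (c := y) (d := 1 + y)
                           rw [Finset.card_univ]; omega)
    |>.imp fun _ h => h.2
  simp only [Finset.mem_insert, Finset.mem_singleton, not_or] at hy hz
  have ne : ∀ {r s : K}, s ≠ r → r + s ≠ 0 := fun {r s} hs e => hs (by linear_combination e - h.add_self r)
  obtain ⟨u, hu, eu⟩ := h.surj0 1
  obtain ⟨v, hv, ev⟩ := h.surj0 y
  obtain ⟨w, hw, ew⟩ := h.surj0 z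
  have hN : (h.W.subgroupOf J).Normal := ⟨fun w hw s => h.nW s s.2 w hw⟩
  let π := QuotientGroup.mk' (h.W.subgroupOf J)
  have hX : ∀ r, π ⟨X r, h.XJ r⟩ = 1 := fun r => (QuotientGroup.eq_one_iff _).2 ⟨r, rfl⟩
  have key : ∀ (a : J) (r : K), a * t * (a : G)⁻¹ = t * X r → r ≠ 0 → π a * π a = π ⟨t, h.tJ⟩ := by
    intro a r e hr
    obtain ⟨s, hs⟩ := all a a.2 r e hr
    rw [← map_mul, show a * a = ⟨t, h.tJ⟩ * ⟨X s, h.XJ s⟩ from Subtype.ext hs, map_mul, hX, mul_one]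
  have h1 : π ⟨t, h.tJ⟩ = 1 := by
    refine hat_three (u := π ⟨u, hu⟩) (v := π ⟨v, hv⟩) (w := π ⟨w, hw⟩) (fun x => ?_)
      (by rw [← map_mul, show (⟨t, h.tJ⟩ : J) * ⟨t, h.tJ⟩ = 1 from Subtype.ext h.t2, map_one])
      (key _ _ eu one_ne_zero) (key _ _ ev hy.1) (key _ _ ew hz.1) ?_ ?_ ?_ ?_
    · obtain ⟨a, rfl⟩ := QuotientGroup.mk'_surjective _ x
      obtain ⟨r, hr⟩ := h.mv a a.2
      change π _ * π a = π a * π _
      rw [← map_mul, ← map_mul, show a * ⟨t, h.tJ⟩ = ⟨t, h.tJ⟩ * ⟨X r, h.XJ r⟩ * a from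
        Subtype.ext (mul_inv_eq_iff_eq_mul.1 hr), map_mul, map_mul, map_mul, hX, mul_one]
    · rw [← map_mul]; exact key _ _ (h.r_mul hu eu ev) (ne hy.2)
    · rw [← map_mul]; exact key _ _ (h.r_mul hu eu ew) (ne hz.2.1)
    · rw [← map_mul]; exact key _ _ (h.r_mul hv ev ew) (ne hz.2.2.1)
    · rw [← map_mul, ← map_mul]; exact key _ _ (h.r_mul (mul_mem hu hv) (h.r_mul hu eu ev) ew) (ne hz.2.2.2)
  obtain ⟨r, hr⟩ := (QuotientGroup.eq_one_iff _).1 h1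
  exact h.tX r hr

theorem exists_l [Finite K] : ∃ l : K, l ≠ 0 ∧ 1 + l ≠ 0 := by
  classical
  have := Fintype.ofFinite K
  have big := h.big
  rw [Nat.card_eq_fintype_card] at big
  obtain ⟨y, -, hy⟩ := Finset.exists_mem_notMem_of_card_lt_card (s := ({0, 1} : Finset K))
    (t := Finset.univ) (by have := Finset.card_le_two (a := (0 : K)) (b := 1); rw [Finset.card_univ]; omega)
  simp only [Finset.mem_insert, Finset.mem_singleton, not_or] at hy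
  exact ⟨y, hy.1, fun e => hy.2 (by linear_combination e - h.add_self 1)⟩

theorem cJT {g a : G} (hg : g ∈ T) (ha : a ∈ ⁅J, T⁆) : g * a * g⁻¹ ∈ ⁅J, T⁆ := by
  have : Tech.cj g ⁅J, T⁆ = ⁅J, T⁆ := by
    rw [Tech.cj_commutator, Tech.mem_normalizer_iff_cj.1 (h.TJ hg), Tech.cj_eq_of_mem hg]
  rw [← this]
  exact Tech.conj_mem_cj.2 ha

variable [Finite K] [Finite G]

theorem inf_D {b : G} (hb : b ∈ ⁅J, T⁆) (hd : b ∈ h.D) : b ∈ h.W := by
  obtain ⟨M, h1, -, h3, h4, h5⟩ := U3S.exists_complH (S := J) (D := h.D) (W := h.W) (H := T)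
    (by rintro _ ⟨r, rfl⟩; exact ⟨r, Or.inl rfl⟩)
    (by rintro _ ⟨r, rfl | rfl⟩; exacts [h.XJ r, mul_mem h.tJ (h.XJ r)]) h.nW (fun s hs => h.sq_mem hs) h.odd
    (fun g hg s hs => h.cJ hg hs)
    (by
      rintro g hg _ ⟨r, rfl | rfl⟩ <;> obtain ⟨l, hl⟩ := h.TX g hg
      · exact ⟨_, Or.inl (hl r)⟩
      · exact ⟨_, Or.inr (by rw [← hl r, ← mul_assoc g, (h.Tt g hg).eq]; group)⟩)
    (by
      rintro g hg _ ⟨r, rfl⟩
      obtain ⟨l, hl⟩ := h.TX g hg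
      exact ⟨_, hl r⟩)
  refine h4 b ((commutator_le.2 fun a ha g hg => ?_ : ⁅J, T⁆ ≤ M) hb) hd
  obtain ⟨m, hm, p, ⟨r, hp⟩, rfl⟩ := h5 a ha
  obtain ⟨l, hl⟩ := h.TX g hg
  have h6 : p * (g * p⁻¹ * g⁻¹) ∈ h.W := by
    have h7 : X r * (g * (X r)⁻¹ * g⁻¹) ∈ h.W := by rw [h.Xinv, hl]; exact mul_mem ⟨_, rfl⟩ ⟨_, rfl⟩
    rcases hp with rfl | rfl
    · exact h7
    · have h8 : t * X r * (g * (t * X r)⁻¹ * g⁻¹) = t * (X r * (g * (X r)⁻¹ * g⁻¹)) * (g * t * g⁻¹)⁻¹ := by group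
      rw [h8, (h.Tt g hg).eq, mul_inv_cancel_right]
      exact h.nW t h.tJ _ h7
  have h7 : ⁅m * p, g⁆ = m * (p * (g * p⁻¹ * g⁻¹)) * (g * m⁻¹ * g⁻¹) := by rw [commutatorElement_def]; group
  rw [h7]
  exact mul_mem (mul_mem hm (h1 h6)) (h3 g hg _ (inv_mem hm))

theorem le : ⁅J, T⁆ ≤ J := commutator_le.2 fun a ha g hg => by
  have : ⁅a, g⁆ = a * (g * a⁻¹ * g⁻¹) := by rw [commutatorElement_def]; group
  rw [this]
  exact mul_mem ha (h.cJ hg (inv_mem ha))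

theorem X_mem (r : K) : X r ∈ ⁅J, T⁆ := by
  obtain ⟨l, h0, h1⟩ := h.exists_l
  obtain ⟨g, hg, hl⟩ := h.TX' l h0
  have : X r = ⁅X (r / (1 + l)), g⁆ := by
    rw [commutatorElement_def, mul_assoc, mul_assoc, ← mul_assoc g, h.Xinv, hl, ← h.add]
    congr 1
    field_simp
  rw [this]
  exact commutator_mem_commutator (h.XJ _) hg

theorem surj (r : K) : ∃ b ∈ ⁅J, T⁆, b * t * b⁻¹ = t * X r := by
  obtain ⟨l, h0, h1⟩ := h.exists_l
  obtain ⟨g, hg, hl⟩ := h.TX' l h0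
  obtain ⟨a, ha, e⟩ := h.surj0 (r / (1 + l))
  refine ⟨⁅a, g⁆, commutator_mem_commutator ha hg, ?_⟩
  have : ⁅a, g⁆ = a * (g * a⁻¹ * g⁻¹) := by rw [commutatorElement_def]; group
  rw [this, h.r_mul ha e (h.r_conj hg hl (h.r_inv ha e))]
  congr 2
  field_simp

theorem t_not_mem : t ∉ ⁅J, T⁆ := fun ht => by
  obtain ⟨r, hr⟩ := h.inf_D ht ⟨0, Or.inr (by rw [h.X0, mul_one])⟩
  exact h.tX r hr

theorem mem_or {b : G} (hb : b ∈ J) : b ∈ ⁅J, T⁆ ∨ t * b ∈ ⁅J, T⁆ := by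
  obtain ⟨r, hr⟩ := h.mv b hb
  obtain ⟨a, ha, e⟩ := h.surj r
  have ha' := h.le ha
  obtain ⟨s, e1 | e1⟩ := h.ker _ (mul_mem (inv_mem ha') hb) (h.r_eq ha' e hr)
  · rw [eq_mul_of_inv_mul_eq e1]
    exact Or.inl (mul_mem ha (h.X_mem s))
  · have h1 : t * (a * (t * X s)) = t * (a * t * a⁻¹) * a * X s := by group
    rw [eq_mul_of_inv_mul_eq e1, h1, e, ← mul_assoc t t, h.t2, one_mul]
    exact Or.inr (mul_mem (mul_mem (h.X_mem r) ha) (h.X_mem s))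

theorem ker' {b : G} (hb : b ∈ ⁅J, T⁆) (hc : Commute b t) : ∃ r, b = X r :=
  h.inf_D hb (h.ker b (h.le hb) hc)

theorem exists_sq : ∃ c, ∀ b ∈ ⁅J, T⁆, ∃ r, b * t * b⁻¹ = t * X r ∧ b * b = X (c * r) := by
  obtain ⟨a, ha, e⟩ := h.surj 1
  obtain ⟨c, hc⟩ := h.sq_mem (h.le ha)
  refine ⟨c, fun b hb => ?_⟩
  obtain ⟨r, hr⟩ := h.mv b (h.le hb)
  refine ⟨r, hr, ?_⟩
  by_cases h0 : r = 0
  · obtain ⟨s, rfl⟩ := h.ker' hb (h.r_zero (h0 ▸ hr))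
    rw [h.XX, h0, mul_zero, h.X0]
  obtain ⟨g, hg, hl⟩ := h.TX' r h0
  have h1 := h.cJT hg ha
  obtain ⟨s, hs⟩ := h.ker' (mul_mem (inv_mem h1) hb) (h.r_eq (h.le h1) (by rw [h.r_conj hg hl e, mul_one]) hr)
  rw [eq_mul_of_inv_mul_eq hs, h.sq_X (h.le h1), mul_comm c, ← hl, ← hc]
  group

theorem comm {a b : G} (ha : a ∈ ⁅J, T⁆) (hb : b ∈ ⁅J, T⁆) : Commute a b := by
  obtain ⟨c, hc⟩ := h.exists_sq
  obtain ⟨r, h1, h2⟩ := hc a ha
  obtain ⟨s, h3, h4⟩ := hc b hb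
  obtain ⟨u, h5, h6⟩ := hc _ (mul_mem ha hb)
  rw [h.r_mul (h.le ha) h1 h3] at h5
  rw [← h.Xinj (mul_left_cancel h5), mul_add, h.add, ← h2, ← h4, mul_assoc, mul_assoc, ← mul_assoc b,
    ← mul_assoc a b b] at h6
  exact (mul_right_cancel (mul_left_cancel h6)).symm

end HatD

end CfsgLib.RF4
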