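import Mathlib
import Cfsg.Agent.Lib.RF4.Bas

set_option autoImplicit false
set_option Elab.async false
set_option linter.unusedSectionVars false

namespace CfsgLib.RF4

open Subgroup CfsgLib.F42
open scoped commutatorElement

/-! # The hats of `x4`, `x6`, `x2` (package ZB) -/

variable {K : Type*} [Field K] [Finite K] {G : Type*} [Group G] [Finite G] {σ : K →+* K} {sz : Sz K} {O : OP σ sz G} {t : G} {zh : K × K → G}

namespace ZBx

omit [Finite K] [Finite G] in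
theorem chi_p1 (O : OP σ sz G) {j : Fin 12} (hj : 0 < j) (α β : Kˣ) : chi σ j α⁻¹ (α * β) = chi σ (p1 j) α β := by
  apply O.g_inj (p1 j)
  have e1 := O.h_g α β (p1 j) 1
  have e2 := O.h_g α⁻¹ (α * β) j 1
  rw [mul_one] at e1 e2
  rw [← e1, ← O.n1_g j hj, ← e2, ← O.n1_g j hj, ← O.n1_h, O.n1_inv]
  have := O.n1_sq
  calc O.n1 * (O.n1 * O.h (α, β) * O.n1 * O.g j 1 * (O.n1 * O.h (α, β) * O.n1)⁻¹) * O.n1
      = (O.n1 * O.n1) * O.h (α, β) * O.n1 * O.g j 1 * O.n1⁻¹ * (O.h (α, β))⁻¹ := by group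
    _ = _ := by rw [O.n1_sq, O.n1_inv]; group

omit [Finite K] [Finite G] in
theorem chi_p8 (O : OP σ sz G) {j : Fin 12} (hj : j < 10) (α β : Kˣ) :
    chi σ j (α * β ^ 2 * su σ β) β⁻¹ = chi σ (p8 j) α β := by
  apply O.g_inj (p8 j)
  have e1 := O.h_g α β (p8 j) 1
  have e2 := O.h_g (α * β ^ 2 * su σ β) β⁻¹ j 1
  rw [mul_one] at e1 e2
  rw [← e1, ← O.n8_g j hj, ← e2, ← O.n8_g j hj, ← O.n8_h, O.n8_inv]
  calc O.n8 * (O.n8 * O.h (α, β) * O.n8 * O.g j 1 * (O.n8 * O.h (α, β) * O.n8)⁻¹) * O.n8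
      = (O.n8 * O.n8) * O.h (α, β) * O.n8 * O.g j 1 * O.n8⁻¹ * (O.h (α, β))⁻¹ := by group
    _ = _ := by rw [O.n8_sq, O.n8_inv]; group

omit [Finite G] in
/-- transport of a commutation along an involution -/
theorem comm_conj {n a x : G} (hn : n * n = 1) (h : Commute a (n * x * n⁻¹)) : Commute (n * a * n⁻¹) x := by
  have e : x = n * (n * x * n⁻¹) * n⁻¹ := by
    calc x = (n * n) * x * (n * n)⁻¹ := by rw [hn]; group
      _ = _ := by group
  rw [e]
  have := h.eq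
  show n * a * n⁻¹ * (n * (n * x * n⁻¹) * n⁻¹) = n * (n * x * n⁻¹) * n⁻¹ * (n * a * n⁻¹)
  calc n * a * n⁻¹ * (n * (n * x * n⁻¹) * n⁻¹) = n * (a * (n * x * n⁻¹)) * n⁻¹ := by group
    _ = n * ((n * x * n⁻¹) * a) * n⁻¹ := by rw [this]
    _ = _ := by group

omit [Finite G] in
theorem conj_of_commute {a x : G} (h : Commute a x) : a * x * a⁻¹ = x := by rw [h.eq]; group

omit [Finite G] in
theorem commute_of_conj {a x : G} (h : a * x * a⁻¹ = x) : Commute a x := by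
  show a * x = x * a
  calc a * x = (a * x * a⁻¹) * a := by group
    _ = x * a := by rw [h]

omit [Finite G] in
theorem conj_comm {n a b : G} (h : Commute a b) : Commute (n * a * n⁻¹) (n * b * n⁻¹) := by
  show n * a * n⁻¹ * (n * b * n⁻¹) = n * b * n⁻¹ * (n * a * n⁻¹)
  calc n * a * n⁻¹ * (n * b * n⁻¹) = n * (a * b) * n⁻¹ := by group
    _ = n * (b * a) * n⁻¹ := by rw [h.eq]
    _ = _ := by group

omit [Finite G] in
/-- two involutions acting on `x` by commuting transvections -/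
theorem comm_fix {a b x e f : G} (ha : a * a = 1) (hb : b * b = 1) (hx : a * x * a⁻¹ = x * e) (hy : b * x * b⁻¹ = x * f)
    (ae : Commute a e) (af : Commute a f) (be : Commute b e) (bf : Commute b f) (ef : Commute e f)
    (e2 : e * e = 1) (f2 : f * f = 1) : Commute ⁅a, b⁆ x := by
  have ia : a⁻¹ = a := inv_eq_of_mul_eq_one_right ha
  have ib : b⁻¹ = b := inv_eq_of_mul_eq_one_right hb
  apply commute_of_conj
  have s1 : a * (x * f) * a⁻¹ = x * e * f := by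
    calc a * (x * f) * a⁻¹ = (a * x * a⁻¹) * (a * f * a⁻¹) := by group
      _ = _ := by rw [hx, conj_of_commute af]
  have s2 : b * (x * e * f) * b⁻¹ = x * e := by
    calc b * (x * e * f) * b⁻¹ = (b * x * b⁻¹) * (b * e * b⁻¹) * (b * f * b⁻¹) := by group
      _ = x * (f * e) * f := by rw [hy, conj_of_commute be, conj_of_commute bf]; group
      _ = x * e * (f * f) := by rw [← ef.eq]; group
      _ = _ := by rw [f2, mul_one]
  have s3 : a * (x * e) * a⁻¹ = x := by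
    calc a * (x * e) * a⁻¹ = (a * x * a⁻¹) * (a * e * a⁻¹) := by group
      _ = x * (e * e) := by rw [hx, conj_of_commute ae]; group
      _ = _ := by rw [e2, mul_one]
  calc ⁅a, b⁆ * x * ⁅a, b⁆⁻¹ = a * (b * (a⁻¹ * (b⁻¹ * x * b⁻¹⁻¹) * a⁻¹⁻¹) * b⁻¹) * a⁻¹ := by
        rw [commutatorElement_def]; group
    _ = a * (b * (a * (b * x * b⁻¹) * a⁻¹) * b⁻¹) * a⁻¹ := by rw [ia, ib, ia, ib]
    _ = x := by rw [hy, s1, s2, s3]

omit [Finite G] in
/-- from the action of `x` on the involution `b` to the action of `b` on `x` -/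
theorem flip {x b z : G} (hb : b * b = 1) (h : x * b * x⁻¹ = b * z) (hz : Commute z x) : b * x * b⁻¹ = x * z := by
  have ib : b⁻¹ = b := inv_eq_of_mul_eq_one_right hb
  calc b * x * b⁻¹ = b * (x * b * x⁻¹) * x := by rw [ib]; group
    _ = (b * b) * (z * x) := by rw [h]; group
    _ = _ := by rw [hb, hz.eq, one_mul]

end ZBx

open ZBx

namespace P1

variable (h : P1 O t zh)
include h

theorem zero : zh 0 = 1 := by
  rw [show (0 : K × K) = (0, 0) from rfl, h.base, O.g_zero]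

theorem sq (p : K × K) : zh p * zh p = 1 := by
  rw [← h.add, show p + p = 0 from Prod.ext (O.add_self _) (O.add_self _), h.zero]

theorem inv (p : K × K) : (zh p)⁻¹ = zh p := inv_eq_of_mul_eq_one_right (h.sq p)

theorem comm (p p' : K × K) : Commute (zh p) (zh p') := by
  show zh p * zh p' = zh p' * zh p
  rw [← h.add, ← h.add, add_comm]

theorem inj {p p' : K × K} (e : zh p = zh p') : p = p' := by
  have e1 : p.1 = p'.1 := by
    have a := h.mv p
    rw [e, h.mv p'] at a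
    exact (O.g_inj 5 (mul_left_cancel a)).symm
  have e2 : zh (p + p') = 1 := by rw [h.add, e, h.sq]
  rw [show p + p' = (0, p.2 + p'.2) from Prod.ext (by simp [e1, O.add_self]) rfl, h.base, O.g_eq_one,
    O.add_eq_zero] at e2
  exact Prod.ext e1 e2

theorem not_comm : ¬ Commute (zh (1, 0)) t := fun hc => by
  have a := h.mv (1, 0)
  rw [conj_of_commute hc] at a
  exact O.τ_ne (by simpa using a)

theorem add8 (p p' : K × K) : c1 O (zh (p + p')) = c1 O (zh p) * c1 O (zh p') := by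
  simp only [c1, h.add]; group

theorem base8 (c : K) : c1 O (zh (0, c)) = O.g 8 c := by
  rw [c1, h.base]; exact O.n1_g 5 (by decide) c

theorem mv8 (p : K × K) : c1 O (zh p) * t * (c1 O (zh p))⁻¹ = t * O.g 8 p.1 := by
  have a := (h.tC _ O.n1_mem_G0).eq
  calc c1 O (zh p) * t * (c1 O (zh p))⁻¹ = O.n1 * (zh p * (O.n1⁻¹ * (t * O.n1)) * (zh p)⁻¹) * O.n1⁻¹ := by
        simp only [c1]; group
    _ = O.n1 * (zh p * t * (zh p)⁻¹) * O.n1⁻¹ := by rw [a, inv_mul_cancel_left]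
    _ = (O.n1 * t) * O.g 5 p.1 * O.n1⁻¹ := by rw [h.mv]; group
    _ = t * (O.n1 * O.g 5 p.1 * O.n1⁻¹) := by rw [← a]; group
    _ = _ := by rw [O.n1_g 5 (by decide)]; rfl

theorem sq8 (p : K × K) : c1 O (zh p) * c1 O (zh p) = 1 := by
  rw [← h.add8, show p + p = 0 from Prod.ext (O.add_self _) (O.add_self _), h.zero, c1]; group

theorem cR8 (p : K × K) : ∀ x ∈ O.R, Commute (c1 O (zh p)) x := fun x hx =>
  comm_conj O.n1_sq (h.cC p _ (O.pat_le_C _ ((O.n1_conj (by decide)).1 hx)))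

theorem co8 (p : K × K) : CO O t (c1 O (zh p)) := (CO.of_mem O.n1_mem_G0).conj (h.co p)

theorem hz8 (α β : Kˣ) (p : K × K) :
    O.h (α, β) * c1 O (zh p) * (O.h (α, β))⁻¹ = c1 O (zh (chi σ 8 α β • p)) := by
  have a := h.hz α⁻¹ (α * β) p
  rw [chi_p1 O (by decide), ← O.n1_h] at a
  rw [show p1 5 = 8 from rfl] at a
  rw [c1, c1, ← a, O.n1_inv]
  calc O.h (α, β) * (O.n1 * zh p * O.n1) * (O.h (α, β))⁻¹
      = (O.n1 * O.n1) * O.h (α, β) * O.n1 * zh p * O.n1⁻¹ * (O.h (α, β))⁻¹ := by rw [O.n1_sq, O.n1_inv]; group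
    _ = _ := by group

theorem add2 (p p' : K × K) : c8 O (c1 O (zh (p + p'))) = c8 O (c1 O (zh p)) * c8 O (c1 O (zh p')) := by
  simp only [c8, h.add8]; group

theorem base2 (c : K) : c8 O (c1 O (zh (0, c))) = O.g 2 c := by
  rw [c8, h.base8]; exact O.n8_g 8 (by decide) c

theorem mv2 (p : K × K) : c8 O (c1 O (zh p)) * t * (c8 O (c1 O (zh p)))⁻¹ = t * O.g 2 p.1 := by
  have a := (h.tC _ (n8_mem_G0 O)).eq
  calc c8 O (c1 O (zh p)) * t * (c8 O (c1 O (zh p)))⁻¹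
      = O.n8 * (c1 O (zh p) * (O.n8⁻¹ * (t * O.n8)) * (c1 O (zh p))⁻¹) * O.n8⁻¹ := by
        simp only [c8]; group
    _ = O.n8 * (c1 O (zh p) * t * (c1 O (zh p))⁻¹) * O.n8⁻¹ := by rw [a, inv_mul_cancel_left]
    _ = (O.n8 * t) * O.g 8 p.1 * O.n8⁻¹ := by rw [h.mv8]; group
    _ = t * (O.n8 * O.g 8 p.1 * O.n8⁻¹) := by rw [← a]; group
    _ = _ := by rw [O.n8_g 8 (by decide)]; rfl

theorem sq2 (p : K × K) : c8 O (c1 O (zh p)) * c8 O (c1 O (zh p)) = 1 := by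
  rw [← h.add2, show p + p = 0 from Prod.ext (O.add_self _) (O.add_self _), h.zero, c8, c1]; group

theorem cQ2 (p : K × K) : ∀ x ∈ O.pat [0, 1, 2, 3, 4, 5, 6, 7, 8], Commute (c8 O (c1 O (zh p))) x := fun x hx =>
  comm_conj O.n8_sq (h.cR8 p _ (O.pat_mono (by decide) ((O.n8_conj (by decide)).1 hx)))

theorem co2 (p : K × K) : CO O t (c8 O (c1 O (zh p))) := (CO.of_mem (n8_mem_G0 O)).conj (h.co8 p)

theorem hz2 (α β : Kˣ) (p : K × K) :
    O.h (α, β) * c8 O (c1 O (zh p)) * (O.h (α, β))⁻¹ = c8 O (c1 O (zh (chi σ 2 α β • p))) := by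
  have a := h.hz8 (α * β ^ 2 * su σ β) β⁻¹ p
  rw [chi_p8 O (by decide), ← O.n8_h] at a
  rw [show p8 8 = 2 from rfl] at a
  rw [c8, c8, ← a, O.n8_inv]
  calc O.h (α, β) * (O.n8 * c1 O (zh p) * O.n8) * (O.h (α, β))⁻¹
      = (O.n8 * O.n8) * O.h (α, β) * O.n8 * c1 O (zh p) * O.n8⁻¹ * (O.h (α, β))⁻¹ := by
        rw [O.n8_sq, O.n8_inv]; group
    _ = _ := by group

theorem z52 (p p' : K × K) : Commute (zh p) (c8 O (c1 O (zh p'))) := by
  have a := conj_comm (n := O.n8) (h.z58 p p')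
  rwa [conj_of_commute (h.cC p _ O.n8_mem_C).symm] at a

theorem x9 (u : K) (p : K × K) :
    O.g 9 u * c8 O (c1 O (zh p)) * (O.g 9 u)⁻¹ = c8 O (c1 O (zh p)) * zh (u • p) := by
  have a := O.n8_g 0 (by decide) u
  rw [show p8 0 = 9 from rfl] at a
  rw [← a]
  calc O.n8 * O.g 0 u * O.n8⁻¹ * c8 O (c1 O (zh p)) * (O.n8 * O.g 0 u * O.n8⁻¹)⁻¹
      = O.n8 * (O.g 0 u * c1 O (zh p) * (O.g 0 u)⁻¹) * O.n8⁻¹ := by simp only [c8]; group
    _ = c8 O (c1 O (zh p)) * (O.n8 * zh (u • p) * O.n8⁻¹) := by rw [h.x0]; simp only [c8]; group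
    _ = _ := by rw [conj_of_commute (h.cC _ _ O.n8_mem_C).symm]

/-- the hats of `x2` act on `X7` by transvections -/
theorem zb_act (p : K × K) {x : G} (hx : x ∈ O.pat X7) :
    ∃ q, c8 O (c1 O (zh p)) * x * (c8 O (c1 O (zh p)))⁻¹ = x * zh q := by
  refine O.pat_ind (p := fun x => ∃ q, c8 O (c1 O (zh p)) * x * (c8 O (c1 O (zh p)))⁻¹ = x * zh q) hx
    ⟨0, by rw [h.zero]; group⟩ ?_ ?_
  · intro j hj s
    by_cases e : j = 9
    · subst e
      exact ⟨s • p, flip (h.sq2 p) (h.x9 s p) (h.cC _ _ (O.g_mem_C _ _))⟩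
    · refine ⟨0, ?_⟩
      rw [h.zero, mul_one]
      exact conj_of_commute (h.cQ2 p _ (O.g_mem (by revert j; decide) s))
  · rintro x - y hy ⟨q, hq⟩ ⟨q', hq'⟩
    refine ⟨q + q', ?_⟩
    calc c8 O (c1 O (zh p)) * (x * y) * (c8 O (c1 O (zh p)))⁻¹
        = (c8 O (c1 O (zh p)) * x * (c8 O (c1 O (zh p)))⁻¹) * (c8 O (c1 O (zh p)) * y * (c8 O (c1 O (zh p)))⁻¹) := by
          group
      _ = x * (zh q * y) * zh q' := by rw [hq, hq']; group
      _ = _ := by rw [(h.cC q y (O.pat_le_C _ hy)).eq, h.add]; group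

/-- the commutator of a hat of `x2` with a conjugate under `U` centralises `X7` -/
theorem cX7 {u : G} (hu : u ∈ O.pat [2, 3, 4, 5, 6, 7, 8, 9, 11]) (p : K × K) :
    ∀ x ∈ O.pat X7, Commute ⁅u, c8 O (c1 O (zh p))⁆ x := by
  intro x hx
  obtain ⟨q, hq⟩ := h.zb_act p hx
  have iz : (c8 O (c1 O (zh p)))⁻¹ = c8 O (c1 O (zh p)) := inv_eq_of_mul_eq_one_right (h.sq2 p)
  have he : ⁅x⁻¹, u⁻¹⁆ ∈ O.pat [5, 6, 8] :=
    O.comm_mem (A := X7) (B := [2, 3, 4, 5, 6, 7, 8, 9, 11]) (by decide) (by decide) (by decide) (inv_mem hx)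
      (inv_mem hu)
  have ze := h.cQ2 p _ (O.pat_mono (by decide) he)
  have qe := h.cC q _ (O.pat_le_C _ he)
  have qu := h.cC q _ (O.pat_le_C _ hu)
  have zq := (h.z52 q p).symm
  have q2 := h.sq q
  generalize c8 O (c1 O (zh p)) = z at hq iz ze zq
  generalize zh q = w at hq qe qu zq q2
  have e0 : u⁻¹ * x * u = x * ⁅x⁻¹, u⁻¹⁆ := by rw [commutatorElement_def]; group
  generalize ⁅x⁻¹, u⁻¹⁆ = e at ze qe e0
  apply commute_of_conj
  calc ⁅u, z⁆ * x * ⁅u, z⁆⁻¹ = u * (z * (u⁻¹ * (z⁻¹ * x * z⁻¹⁻¹) * u) * z⁻¹) * u⁻¹ := by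
        rw [commutatorElement_def]; group
    _ = u * (z * (u⁻¹ * (x * w) * u) * z⁻¹) * u⁻¹ := by rw [← hq, iz, iz]
    _ = u * (z * ((u⁻¹ * x * u) * (u⁻¹ * (w * u))) * z⁻¹) * u⁻¹ := by group
    _ = u * ((z * x * z⁻¹) * (z * e * z⁻¹) * (z * w * z⁻¹)) * u⁻¹ := by rw [qu.eq, e0]; group
    _ = u * (x * (w * e) * w) * u⁻¹ := by rw [hq, conj_of_commute ze, conj_of_commute zq]; group
    _ = u * (x * e * (w * w)) * u⁻¹ := by rw [qe.eq]; group
    _ = x := by rw [q2, mul_one, ← e0]; group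

theorem mv_w (v : K) (p : K × K) : ⁅O.g 11 v, c8 O (c1 O (zh p))⁆ * t * ⁅O.g 11 v, c8 O (c1 O (zh p))⁆⁻¹ =
    t * (O.g 5 (σ p.1 * v) * (O.g 6 (p.1 * v) * O.g 8 (p.1 * σ v))) := by
  have iz : (c8 O (c1 O (zh p)))⁻¹ = c8 O (c1 O (zh p)) := inv_eq_of_mul_eq_one_right (h.sq2 p)
  have hq := h.mv2 p
  have he : O.g 5 (σ p.1 * v) * (O.g 6 (p.1 * v) * O.g 8 (p.1 * σ v)) ∈ O.pat [5, 6, 8] :=
    mul_mem (O.g_mem (by decide) _) (mul_mem (O.g_mem (by decide) _) (O.g_mem (by decide) _))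
  have ze := h.cQ2 p _ (O.pat_mono (by decide) he)
  have z2 := h.cQ2 p _ (O.g_mem (j := 2) (by decide) p.1)
  have ue : Commute (O.g 11 v) _ := O.commute_pat (A := [11]) (by decide) (O.g_mem (by decide) v) he
  have ut := (h.tg 11 v).symm
  have r := O.r2_11 p.1 v
  rw [← mul_assoc (O.g 6 _), ← mul_assoc (O.g 5 _)] at r
  have iu := O.i11 v
  have x2 : O.g 2 p.1 * O.g 2 p.1 = 1 := by rw [O.a2, O.add_self, O.g_zero]
  generalize c8 O (c1 O (zh p)) = z at hq iz ze z2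
  generalize O.g 5 (σ p.1 * v) * (O.g 6 (p.1 * v) * O.g 8 (p.1 * σ v)) = e at ze ue r
  generalize O.g 11 v = u at ue ut r iu
  generalize O.g 2 p.1 = x at hq z2 r x2
  calc ⁅u, z⁆ * t * ⁅u, z⁆⁻¹ = u * (z * (u⁻¹ * (z⁻¹ * t * z⁻¹⁻¹) * u⁻¹⁻¹) * z⁻¹) * u⁻¹ := by
        rw [commutatorElement_def]; group
    _ = u * (z * (u * (t * x) * u⁻¹) * z⁻¹) * u⁻¹ := by rw [← hq, iz, iz, iu, iu]
    _ = u * (z * ((u * t * u⁻¹) * ((u * x) * u⁻¹)) * z⁻¹) * u⁻¹ := by group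
    _ = u * ((z * t * z⁻¹) * (z * x * z⁻¹) * (z * e * z⁻¹)) * u⁻¹ := by rw [conj_of_commute ut, r]; group
    _ = u * (t * (x * x) * e) * u⁻¹ := by rw [hq, conj_of_commute ze, conj_of_commute z2]; group
    _ = (u * t * u⁻¹) * (u * e * u⁻¹) := by rw [x2]; group
    _ = _ := by rw [conj_of_commute ut, conj_of_commute ue]

/-- conjugation by a hat of `x2` preserves the centraliser of `X7` and of the hats of `Z` -/
theorem conj2 {g : G} (hg : ∀ x ∈ O.pat X7, Commute g x) (hz : ∀ p, Commute g (zh p)) (p : K × K) :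
    ∀ x ∈ O.pat X7, Commute (c8 O (c1 O (zh p)) * g * (c8 O (c1 O (zh p)))⁻¹) x := by
  intro x hx
  obtain ⟨q, hq⟩ := h.zb_act p hx
  apply comm_conj (h.sq2 p)
  rw [hq]
  exact (hg x hx).mul_right (hz q)

theorem e1 (p p' : K × K) : ⁅c8 O (c1 O (zh p)), c1 O (zh p')⁆ ∈ O.Z := by
  have ha := h.sq2 p
  have hb := h.sq8 p'
  have kt : Commute ⁅c8 O (c1 O (zh p)), c1 O (zh p')⁆ t :=
    comm_fix ha hb (h.mv2 p) (h.mv8 p') (h.cQ2 p _ (O.g_mem (by decide) _)) (h.cQ2 p _ (O.g_mem (by decide) _))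
      (h.cR8 p' _ (O.g_mem (by decide) _)) (h.cR8 p' _ (O.g_mem (by decide) _)) (O.r2_8 _ _).symm
      (by rw [O.a2, O.add_self, O.g_zero]) (by rw [O.a8, O.add_self, O.g_zero])
  have kQ : ∀ x ∈ O.pat [0, 1, 2, 3, 4, 5, 6, 7, 8, 9], Commute ⁅c8 O (c1 O (zh p)), c1 O (zh p')⁆ x := by
    intro x hx
    refine O.pat_ind (p := fun x => Commute ⁅c8 O (c1 O (zh p)), c1 O (zh p')⁆ x) hx (Commute.one_right _) ?_
      (fun x _ y _ a b => a.mul_right b)
    intro j hj s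
    by_cases e0 : j = 0
    · subst e0
      exact comm_fix (e := 1) ha hb (by rw [mul_one]; exact conj_of_commute (h.cQ2 p _ (O.g_mem (by decide) _)))
        (flip hb (h.x0 s p') (h.cC _ _ (O.g_mem_C _ _))) (Commute.one_right _) (h.z52 _ _).symm (Commute.one_right _)
        (h.z58 _ _).symm (Commute.one_left _) (mul_one _) (h.sq _)
    by_cases e9 : j = 9
    · subst e9
      exact comm_fix (f := 1) ha hb (flip ha (h.x9 s p) (h.cC _ _ (O.g_mem_C _ _)))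
        (by rw [mul_one]; exact conj_of_commute (h.cR8 p' _ (O.g_mem (by decide) _))) (h.z52 _ _).symm
        (Commute.one_right _) (h.z58 _ _).symm (Commute.one_right _) (Commute.one_right _) (h.sq _) (mul_one _)
    have c8' := h.cR8 p' _ (O.g_mem (j := j) (by revert j; decide) s)
    have c2 := h.cQ2 p _ (O.g_mem (j := j) (by clear c8'; revert j; decide) s)
    rw [commutatorElement_def]
    exact ((c2.mul_left c8').mul_left c2.inv_left).mul_left c8'.inv_left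
  obtain ⟨l, hl, o, ho, e⟩ := h.cen_Q _ kt kQ
  have inv : c8 O (c1 O (zh p)) * ⁅c8 O (c1 O (zh p)), c1 O (zh p')⁆ * (c8 O (c1 O (zh p)))⁻¹ =
      ⁅c8 O (c1 O (zh p)), c1 O (zh p')⁆⁻¹ := by
    have ia := inv_eq_of_mul_eq_one_right ha
    generalize c8 O (c1 O (zh p)) = a at ha ia
    generalize c1 O (zh p') = b
    calc a * ⁅a, b⁆ * a⁻¹ = (a * a) * b * a⁻¹ * b⁻¹ * a⁻¹ := by rw [commutatorElement_def]; group
      _ = b * a * b⁻¹ * a⁻¹ := by rw [ha, ia]; group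
      _ = _ := by rw [commutatorElement_def]; group
  obtain ⟨s, rfl⟩ := O.mem_Z.1 hl
  have l2 : O.g 5 s * O.g 5 s = 1 := by rw [O.a5, O.add_self, O.g_zero]
  have lo : Commute (O.g 5 s) o := (ho.cen _ (g_mem_G0 O 5 s)).symm
  rcases e with e | e
  · rw [e] at inv
    rw [e, odd_eq_one_of_inv (T2.of_sq l2) lo ho.odd (h.co2 p o ho) inv, mul_one]
    exact hl
  · exfalso
    have tl : t * O.g 5 s * (t * O.g 5 s) = 1 := by
      calc t * O.g 5 s * (t * O.g 5 s) = t * (O.g 5 s * t) * O.g 5 s := by group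
        _ = (t * t) * (O.g 5 s * O.g 5 s) := by rw [← (h.tg 5 s).eq]; group
        _ = 1 := by rw [h.t2, l2, mul_one]
    rw [e] at inv
    have o1 := odd_eq_one_of_inv (T2.of_sq tl) (ho.ct.symm.mul_left lo) ho.odd (h.co2 p o ho) inv
    rw [o1, mul_one] at inv e
    rw [inv_eq_of_mul_eq_one_right tl] at inv
    have c5 := h.cQ2 p _ (O.g_mem (j := 5) (by decide) s)
    have a1 : t * O.g 2 p.1 * O.g 5 s = t * O.g 5 s := by
      rw [← inv, ← h.mv2 p]
      conv_lhs => rw [← conj_of_commute c5]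
      group
    have p0 : p.1 = 0 := O.g_eq_one.1 (mul_eq_left.1 (mul_right_cancel a1))
    have pe : p = (0, p.2) := Prod.ext p0 rfl
    rw [pe, h.base2, commutatorElement_eq_one_iff_commute.2 (h.cR8 p' _ (O.g_mem (by decide) _)).symm] at e
    apply h.t_not_mem
    rw [eq_inv_of_mul_eq_one_left e.symm]
    exact inv_mem (g_mem_G0 O 5 s)

end P1

end CfsgLib.RF4
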