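import Mathlib
import Cfsg.Agent.Lib.RF4.Zb

set_option autoImplicit false
set_option Elab.async false

namespace CfsgLib.RF4

open Subgroup CfsgLib.F42
open scoped commutatorElement

/-! # The hats of all abelian root groups (package HB) -/

variable {K : Type*} [Field K] [Finite K] {G : Type*} [Group G] [Finite G] {σ : K →+* K} {sz : Sz K} {O : OP σ sz G} {t : G}

/-- the properties of one family of hats -/
structure HbF (O : OP σ sz G) (t : G) (j : Fin 12) (x : K × K → G) : Prop where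
  add : ∀ p p', x (p + p') = x p * x p'
  base : ∀ c, x (0, c) = O.g j c
  mv : ∀ p, x p * t * (x p)⁻¹ = t * O.g j p.1
  co : ∀ p, CO O t (x p)
  hc : ∀ α β p, O.h (α, β) * x p * (O.h (α, β))⁻¹ = x (chi σ j α β • p)
  cg : ∀ k, cm j k = [] → ∀ p u, Commute (x p) (O.g k u)

omit [Finite K] [Finite G] in
theorem hb_conj {a b : G} (h : Commute a b) (n : G) : Commute (n * a * n⁻¹) (n * b * n⁻¹) :=
  h.map (MulAut.conj n)

namespace HbF

variable {j j' : Fin 12} {x : K × K → G}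

omit [Finite G] in
theorem conj (f : HbF O t j x) (h : Sit O t) {n : G} (hn : n ∈ O.G0) (hg : ∀ s, n * O.g j s * n⁻¹ = O.g j' s)
    (hh : ∀ α β, ∃ α' β', O.h (α, β) = n * O.h (α', β') * n⁻¹)
    (hk : ∀ k, cm j' k = [] → ∃ k', cm j k' = [] ∧ ∀ u, n * O.g k' u * n⁻¹ = O.g k u) :
    HbF O t j' fun p => n * x p * n⁻¹ where
  add p p' := by rw [f.add]; group
  base c := by rw [f.base, hg]
  mv p := by
    have e : t = n * t * n⁻¹ := by rw [← (h.tC n hn).eq, mul_inv_cancel_right]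
    calc n * x p * n⁻¹ * t * (n * x p * n⁻¹)⁻¹ = n * x p * n⁻¹ * (n * t * n⁻¹) * (n * x p * n⁻¹)⁻¹ := by rw [← e]
      _ = n * (x p * t * (x p)⁻¹) * n⁻¹ := by group
      _ = n * t * n⁻¹ * (n * O.g j p.1 * n⁻¹) := by rw [f.mv]; group
      _ = _ := by rw [← e, hg]
  co p := (CO.of_mem hn).conj (f.co p)
  hc α β p := by
    obtain ⟨α', β', e⟩ := hh α β
    have e1 : chi σ j' α β = chi σ j α' β' := by
      have := O.h_g α β j' 1
      rw [e, ← hg, show n * O.h (α', β') * n⁻¹ * (n * O.g j 1 * n⁻¹) * (n * O.h (α', β') * n⁻¹)⁻¹ =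
        n * (O.h (α', β') * O.g j 1 * (O.h (α', β'))⁻¹) * n⁻¹ by group, O.h_g, hg] at this
      simpa using (O.g_inj j' this).symm
    rw [e1, ← f.hc, e]
    group
  cg k hc p u := by
    obtain ⟨k', h1, h2⟩ := hk k hc
    rw [← h2]
    exact hb_conj (f.cg k' h1 p u) n

omit [Finite G] in
theorem c1 (f : HbF O t j x) (h : Sit O t) (hj : 0 < j)
    (hk : ∀ k, cm (p1 j) k = [] → 0 < p1 k ∧ cm j (p1 k) = [] ∧ p1 (p1 k) = k) :
    HbF O t (p1 j) fun p => c1 O (x p) :=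
  f.conj h (mem_sup_right (mem_zpowers _)) (O.n1_g j hj) (fun α β => ⟨α⁻¹, α * β, by rw [O.n1_h]; simp⟩) fun k hc =>
    ⟨p1 k, (hk k hc).2.1, fun u => by rw [O.n1_g _ (hk k hc).1, (hk k hc).2.2]⟩

omit [Finite G] in
theorem c8 (f : HbF O t j x) (h : Sit O t) (hj : j < 10)
    (hk : ∀ k, cm (p8 j) k = [] → p8 k < 10 ∧ cm j (p8 k) = [] ∧ p8 (p8 k) = k) :
    HbF O t (p8 j) fun p => c8 O (x p) :=
  f.conj h (n8_mem_G0 O) (O.n8_g j hj) (fun α β => ⟨α * β ^ 2 * su σ β, β⁻¹, by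
    rw [O.n8_h]; simp [mul_assoc, mul_comm, mul_left_comm]⟩) fun k hc =>
    ⟨p8 k, (hk k hc).2.1, fun u => by rw [O.n8_g _ (hk k hc).1, (hk k hc).2.2]⟩

omit [Finite K] [Finite G] in
theorem zero (f : HbF O t j x) : x 0 = 1 := (f.base 0).trans (O.g_zero j)

omit [Finite K] [Finite G] in
theorem sq (f : HbF O t j x) (p : K × K) : x p * x p = 1 := by
  rw [← f.add, show p + p = 0 from Prod.ext (O.add_self _) (O.add_self _), f.zero]

omit [Finite K] [Finite G] in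
theorem inv (f : HbF O t j x) (p : K × K) : (x p)⁻¹ = x p := inv_eq_of_mul_eq_one_right (f.sq p)

omit [Finite K] [Finite G] in
theorem comm (f : HbF O t j x) (p p' : K × K) : Commute (x p) (x p') := by
  rw [Commute, SemiconjBy, ← f.add, ← f.add, add_comm]

omit [Finite K] [Finite G] in
theorem split (f : HbF O t j x) (p : K × K) : x p = x (p.1, 0) * O.g j p.2 := by
  rw [← f.base, ← f.add]; simp

omit [Finite K] [Finite G] in
theorem cpat (f : HbF O t j x) {S : List (Fin 12)} (hS : ∀ k ∈ S, cm j k = []) (p : K × K) {y : G}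
    (hy : y ∈ O.pat S) : Commute (x p) y :=
  (O.pat_le (P := centralizer {x p})).2
    (fun k hk u => mem_centralizer_singleton_iff.2 (f.cg k (hS k hk) p u).symm.eq) hy _ rfl

end HbF

omit [Finite K] [Finite G] in
theorem hb_c11 (O : OP σ sz G) (x : G) : c1 O (c1 O x) = x := by
  rw [c1, c1, show O.n1 * (O.n1 * x * O.n1⁻¹) * O.n1⁻¹ = O.n1 * O.n1 * x * (O.n1 * O.n1)⁻¹ by group, O.n1_sq]
  group

omit [Finite K] [Finite G] in
theorem hb_c88 (O : OP σ sz G) (x : G) : c8 O (c8 O x) = x := by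
  rw [c8, c8, show O.n8 * (O.n8 * x * O.n8⁻¹) * O.n8⁻¹ = O.n8 * O.n8 * x * (O.n8 * O.n8)⁻¹ by group, O.n8_sq]
  group

omit [Finite K] [Finite G] in
theorem hb_k1 {a b : G} (h : Commute a b) : Commute (c1 O a) (c1 O b) := hb_conj h _

omit [Finite K] [Finite G] in
theorem hb_k8 {a b : G} (h : Commute a b) : Commute (c8 O a) (c8 O b) := hb_conj h _

namespace P2

variable {zh yh : K × K → G} (h : P2 O t zh yh)
include h

omit [Finite K] [Finite G] in
theorem hb5 : HbF O t 5 zh := ⟨h.add, h.base, h.mv, h.co, h.hz, fun k _ p u => h.cC p _ (O.g_mem_C k u)⟩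

omit [Finite K] [Finite G] in
theorem hb6 : HbF O t 6 yh :=
  ⟨h.yadd, h.ybase, h.ymv, h.yco, h.hy, fun k hk p u => h.yD p _ (O.g_mem (by revert k; decide) u)⟩

omit [Finite G] in
theorem hb8 : HbF O t 8 fun p => c1 O (zh p) := h.hb5.c1 h.toSit (by decide) (by decide)

omit [Finite G] in
theorem hb3 : HbF O t 3 fun p => c8 O (yh p) := h.hb6.c8 h.toSit (by decide) (by decide)

omit [Finite K] [Finite G] in
theorem hb_z8 (p : K × K) : c8 O (zh p) = zh p := by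
  rw [c8, ← (h.cC p _ O.n8_mem_C).eq, mul_inv_cancel_right]

omit [Finite K] [Finite G] in
theorem hb_y1 (p : K × K) : c1 O (yh p) = yh p := by
  rw [c1, ← (h.yn1 p).eq, mul_inv_cancel_right]

omit [Finite K] [Finite G] in
theorem hb68 (p p' : K × K) : Commute (yh p) (c1 O (zh p')) := h.hb_y1 p ▸ hb_k1 (h.y5 p p')

omit [Finite K] [Finite G] in
theorem hb35 (p p' : K × K) : Commute (c8 O (yh p)) (zh p') := h.hb_z8 p' ▸ hb_k8 (h.y5 p p')

omit [Finite K] [Finite G] in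
theorem hb38 (p p' : K × K) : Commute (c8 O (yh p)) (c1 O (zh p')) := hb_c88 O (c1 O (zh p')) ▸ hb_k8 (h.y2 p p')

omit [Finite K] [Finite G] in
theorem hb_y7 (u : K) (p : K × K) : c8 O (yh p) * O.g 7 u * (c8 O (yh p))⁻¹ = zh (u • p) * O.g 7 u := by
  have e := congrArg (c8 O) (h.y1 u p)
  have e1 : c8 O (O.g 1 u * yh p * (O.g 1 u)⁻¹) = O.g 7 u * c8 O (yh p) * (O.g 7 u)⁻¹ := by
    rw [show O.g 7 u = _ from (O.n8_g 1 (by decide) u).symm, c8, c8]; group
  have e2 : c8 O (yh p * zh (u • p)) = c8 O (yh p) * zh (u • p) := by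
    conv_rhs => rw [← h.hb_z8]
    rw [c8, c8, c8]; group
  have e3 : c8 O (yh p) * c8 O (yh p) = 1 := by
    rw [c8, show O.n8 * yh p * O.n8⁻¹ * (O.n8 * yh p * O.n8⁻¹) = O.n8 * (yh p * yh p) * O.n8⁻¹ by group, h.hb6.sq]
    group
  rw [e1, e2, mul_inv_eq_iff_eq_mul] at e
  rw [inv_eq_of_mul_eq_one_right e3, mul_assoc, e, ← mul_assoc, ← mul_assoc, e3, one_mul]

omit [Finite G] in
theorem hb_mul (a b c a' b' c' : K × K) : zh a * yh b * c1 O (zh c) * (zh a' * yh b' * c1 O (zh c')) =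
    zh (a + a') * yh (b + b') * c1 O (zh (c + c')) := by
  have e := h.hb8.add c c'
  rw [h.add, h.yadd, e]
  calc _ = zh a * (yh b * c1 O (zh c) * zh a') * yh b' * c1 O (zh c') := by group
    _ = zh a * zh a' * yh b * (c1 O (zh c) * yh b') * c1 O (zh c') := by
      rw [((h.y5 b a').mul_left (h.z58 a' c).symm).eq]; group
    _ = _ := by rw [← (h.hb68 b' c).eq]; group

omit [Finite G] in
theorem hb_mv (a b c : K × K) : zh a * yh b * c1 O (zh c) * t * (zh a * yh b * c1 O (zh c))⁻¹ =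
    t * (O.g 5 a.1 * (O.g 6 b.1 * O.g 8 c.1)) := by
  have e8 := h.hb8.mv c
  have c68 := h.hb6.cg 8 rfl b c.1
  have c5 := (h.hb5.cg 6 rfl a b.1).mul_right (h.hb5.cg 8 rfl a c.1)
  calc _ = zh a * (yh b * (c1 O (zh c) * t * (c1 O (zh c))⁻¹) * (yh b)⁻¹) * (zh a)⁻¹ := by group
    _ = zh a * (yh b * t * (yh b)⁻¹ * (yh b * O.g 8 c.1 * (yh b)⁻¹)) * (zh a)⁻¹ := by rw [e8]; group
    _ = zh a * t * (zh a)⁻¹ * (zh a * (O.g 6 b.1 * O.g 8 c.1) * (zh a)⁻¹) := by
      rw [h.ymv, c68.eq, mul_inv_cancel_right]; group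
    _ = _ := by rw [h.mv, c5.eq, mul_inv_cancel_right, mul_assoc]

/-- location in the group generated by the hats of `x4`, `x5`, `x6` -/
theorem hb_loc {g : G} (g1 : ∀ x ∈ O.pat X7, Commute g x) (g2 : Commute g (zh (1, 0)))
    (g3 : ∃ l ∈ O.pat [5, 6, 8], g * t * g⁻¹ = t * l) (g4 : T2 g ∨ ∃ s, CO O t s ∧ s * g * s⁻¹ = g⁻¹) :
    ∃ a b c, g = zh a * yh b * c1 O (zh c) := by
  have sq : ∀ a b c, zh a * yh b * c1 O (zh c) * (zh a * yh b * c1 O (zh c)) = 1 := fun a b c => by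
    have z : ∀ p : K × K, p + p = 0 := fun p => Prod.ext (O.add_self _) (O.add_self _)
    have e := h.hb8.zero
    rw [h.hb_mul, z, z, z, e, h.hb5.zero, h.hb6.zero, mul_one, mul_one]
  let Eh : Subgroup G :=
    { carrier := {e | ∃ a b c, e = zh a * yh b * c1 O (zh c)}
      mul_mem' := by
        rintro _ _ ⟨a, b, c, rfl⟩ ⟨a', b', c', rfl⟩
        exact ⟨_, _, _, h.hb_mul ..⟩
      one_mem' := ⟨0, 0, 0, by
        have e := h.hb8.zero
        rw [e, h.hb5.zero, h.hb6.zero, mul_one, mul_one]⟩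
      inv_mem' := by
        rintro _ ⟨a, b, c, rfl⟩
        exact ⟨a, b, c, inv_eq_of_mul_eq_one_right (sq a b c)⟩ }
  refine h.loc (Eh := Eh) h.cen_X7 ?_ ?_ ?_ ?_ ?_ h.toP1.not_comm (h.co _) ?_ g1 g2 g3 g4
  · rintro _ ⟨a, b, c, rfl⟩
    exact T2.of_sq (sq a b c)
  · intro x hx
    obtain ⟨a, b, c, rfl⟩ := (mem_E2_iff O.toOC).1 hx
    have e := h.hb8.base c
    exact ⟨(0, a), (0, b), (0, c), by rw [e, h.base, h.ybase, mul_assoc]⟩
  · rintro _ ⟨a, b, c, rfl⟩ x hx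
    exact ((h.hb5.cpat (by decide) a hx).mul_left (h.hb6.cpat (by decide) b hx)).mul_left
      (h.hb8.cpat (by decide) c hx)
  · rintro _ ⟨a, b, c, rfl⟩
    exact ((h.co a).mul (h.yco b)).mul (h.hb8.co c)
  · intro l hl
    obtain ⟨a, b, c, rfl⟩ := (mem_E2_iff O.toOC).1 hl
    exact ⟨_, ⟨(a, 0), (b, 0), (c, 0), rfl⟩, h.hb_mv ..⟩
  · rintro _ ⟨a, b, c, rfl⟩
    exact ((h.hb5.comm _ a).mul_right (h.y5 b _).symm).mul_right (h.z58 _ c)

theorem hb36_one : Commute (c8 O (yh (1, 0))) (yh (1, 0)) := by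
  have f := h.hb3
  set y := c8 O (yh (1, 0)) with hy
  set w := O.g 10 1 with hw
  have yi : y⁻¹ = y := f.inv (1, 0)
  have y2 : y * y = 1 := f.sq (1, 0)
  have wz : ∀ p, Commute w (zh p) := fun p => (h.cC p _ (O.g_mem_C 10 1)).symm
  have mv : y * (w * y * w⁻¹) * t * (y * (w * y * w⁻¹))⁻¹ = t * (O.g 5 1 * (O.g 6 1 * O.g 8 0)) := by
    have e1 : y * t * y⁻¹ = t * O.g 3 1 := f.mv (1, 0)
    have e2 : w * O.g 3 1 * w⁻¹ = O.g 3 1 * (O.g 5 1 * O.g 6 1) := by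
      rw [hw, O.r3_10]; simp [mul_assoc]
    have e3 : Commute y (O.g 3 1 * (O.g 5 1 * O.g 6 1)) :=
      (f.cg 3 rfl _ _).mul_right ((f.cg 5 rfl _ _).mul_right (f.cg 6 rfl _ _))
    have e4 : w⁻¹ * t * w = t := by rw [mul_assoc, (h.tg 10 1).eq, inv_mul_cancel_left]
    calc _ = y * (w * (y * (w⁻¹ * t * w) * y⁻¹) * w⁻¹) * y⁻¹ := by group
      _ = y * (w * t * w⁻¹ * (w * O.g 3 1 * w⁻¹)) * y⁻¹ := by rw [e4, e1]; group
      _ = y * t * y⁻¹ * (y * (O.g 3 1 * (O.g 5 1 * O.g 6 1)) * y⁻¹) := by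
        rw [e2, ← (h.tg 10 1).eq, mul_inv_cancel_right]; group
      _ = _ := by rw [e1, e3.eq, mul_inv_cancel_right, mul_assoc, ← mul_assoc (O.g 3 1), O.a3, O.add_self,
        O.g_zero, O.g_zero, one_mul, mul_one]
  have iv : y * (y * (w * y * w⁻¹)) * y⁻¹ = (y * (w * y * w⁻¹))⁻¹ := by
    rw [← mul_assoc, y2, one_mul, mul_inv_rev, mul_inv_rev (w * y), mul_inv_rev w, inv_inv, yi, mul_assoc w]
  have g1 : ∀ x ∈ O.pat X7, Commute (y * (w * y * w⁻¹)) x := by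
    intro x hx
    refine (O.pat_le (P := centralizer {y * (w * y * w⁻¹)})).2 (fun k hk u => ?_) hx _ rfl
    rw [mem_centralizer_singleton_iff]
    by_cases h7 : k = 7
    · subst h7
      have e1 : w⁻¹ * O.g 7 u * w = O.g 7 u * O.g 9 u := by
        rw [mul_assoc, inv_mul_eq_iff_eq_mul, ← mul_assoc, hw, O.r7_10, mul_one, mul_assoc, mul_assoc, O.r9_10,
          ← mul_assoc (O.g 9 u), O.a9, O.add_self, O.g_zero, one_mul]
      have e2 : y * O.g 7 u * y⁻¹ = zh (u • (1, 0)) * O.g 7 u := h.hb_y7 u (1, 0)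
      have e3 : Commute y (O.g 9 u) := f.cg 9 rfl _ _
      symm
      rw [← mul_inv_eq_iff_eq_mul]
      calc _ = y * (w * (y * (w⁻¹ * O.g 7 u * w) * y⁻¹) * w⁻¹) * y⁻¹ := by group
        _ = y * (w * (y * O.g 7 u * y⁻¹ * (y * O.g 9 u * y⁻¹)) * w⁻¹) * y⁻¹ := by rw [e1]; group
        _ = y * (w * zh (u • (1, 0)) * (O.g 7 u * O.g 9 u) * w⁻¹) * y⁻¹ := by
          rw [e2, e3.eq, mul_inv_cancel_right]; group
        _ = y * zh (u • (1, 0)) * O.g 7 u * y⁻¹ := by rw [← e1, (wz _).eq]; group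
        _ = zh (u • (1, 0)) * (y * O.g 7 u * y⁻¹) := by rw [(h.hb35 _ _).eq, ← hy]; group
        _ = _ := by rw [e2, ← mul_assoc, h.hb5.sq, one_mul]
    · have hk' : k ∈ [2, 3, 4, 5, 6, 8, 9] := by revert k; decide
      have m : w⁻¹ * O.g k u * w⁻¹⁻¹ ∈ O.pat [2, 3, 4, 5, 6, 8, 9] :=
        O.conj_mem (A := [10]) (by decide) (inv_mem (O.g_mem (by decide) 1)) (O.g_mem hk' u)
      have c1 := hb_conj (f.cpat (by decide) (1, 0) m) w
      rw [show w * (w⁻¹ * O.g k u * w⁻¹⁻¹) * w⁻¹ = O.g k u by group] at c1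
      exact ((f.cpat (by decide) (1, 0) (O.g_mem hk' u)).mul_left c1).symm.eq
  have g2 : Commute (y * (w * y * w⁻¹)) (zh (1, 0)) :=
    (h.hb35 _ _).mul_left (((wz _).mul_left (h.hb35 _ _)).mul_left (wz _).inv_left)
  obtain ⟨a, b, c, e⟩ := h.hb_loc g1 g2 ⟨_, (mem_E2_iff O.toOC).2 ⟨_, _, _, rfl⟩, mv⟩
    (.inr ⟨y, f.co _, iv⟩)
  · have hb : b.1 = 1 := by
      rw [e, h.hb_mv, mul_right_inj] at mv
      exact (E2_inj O.toOC mv).2.1
    have sq : y * (w * y * w⁻¹) * (y * (w * y * w⁻¹)) = 1 := by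
      have z : ∀ p : K × K, p + p = 0 := fun p => Prod.ext (O.add_self _) (O.add_self _)
      have e' := h.hb8.zero
      rw [e, h.hb_mul, z, z, z, e', h.hb5.zero, h.hb6.zero, mul_one, mul_one]
    rw [inv_eq_of_mul_eq_one_right sq, mul_inv_eq_iff_eq_mul, e] at iv
    have c1 : Commute y (zh a * yh b * c1 O (zh c)) := iv
    have c2 : Commute y (yh b) := by
      have := ((h.hb35 (1, 0) a).inv_right.mul_right c1).mul_right (h.hb38 (1, 0) c).inv_right
      rwa [show (zh a)⁻¹ * (zh a * yh b * RF4.c1 O (zh c)) * (RF4.c1 O (zh c))⁻¹ = yh b by group] at this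
    have := c2.mul_right (f.cg 6 rfl (1, 0) b.2).inv_right
    rwa [h.hb6.split b, mul_inv_cancel_right, hb] at this

theorem hb36 (p p' : K × K) : Commute (c8 O (yh p)) (yh p') := by
  have f := h.hb3
  have key : Commute (c8 O (yh (p.1, 0))) (yh (p'.1, 0)) := by
    by_cases h1 : p.1 = 0
    · have e := f.zero
      rw [h1, show ((0 : K), (0 : K)) = 0 from rfl, e]
      exact .one_left _
    by_cases h2 : p'.1 = 0
    · rw [h2, show ((0 : K), (0 : K)) = 0 from rfl, h.hb6.zero]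
      exact .one_right _
    obtain ⟨β, hβ⟩ := O.sig_surj (p'.1 / p.1)
    have β0 : β ≠ 0 := by rintro rfl; exact div_ne_zero h2 h1 (by rw [← hβ, map_zero])
    obtain ⟨α, hα⟩ := O.n_surj (p.1 / (β ^ 2 * σ β))
    have α0 : α ≠ 0 := by
      rintro rfl
      exact div_ne_zero h1 (mul_ne_zero (pow_ne_zero 2 β0) ((map_ne_zero σ).2 β0)) (by rw [← hα, zero_mul])
    have s0 : σ β ≠ 0 := (map_ne_zero σ).2 β0
    have e3 : chi σ 3 (Units.mk0 α α0) (Units.mk0 β β0) = p.1 := by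
      change α ^ 1 * σ α ^ 1 * β ^ 2 * σ β ^ 1 = _
      rw [pow_one, pow_one, hα]; field_simp
    have e6 : chi σ 6 (Units.mk0 α α0) (Units.mk0 β β0) = p'.1 := by
      change α ^ 1 * σ α ^ 1 * β ^ 2 * σ β ^ 2 = _
      rw [pow_one, pow_one, hα, sq (σ β), ← mul_assoc, mul_assoc (_ / _), div_mul_cancel₀ _ (by simp [β0]), hβ]
      field_simp
    have := hb_conj h.hb36_one (O.h (Units.mk0 α α0, Units.mk0 β β0))
    rw [h.hy, f.hc, e3, e6] at this
    simpa using this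
  have e := f.split p
  rw [e, h.hb6.split p']
  exact (key.mul_right (f.cg 6 rfl _ _)).mul_left
    ((h.hb6.cg 3 rfl _ _).symm.mul_right (O.r3_6 _ _).symm)

end P2

theorem P2.exists_hh {zh yh : K × K → G} (h : P2 O t zh yh) : ∃ hh, HH O t hh := by
  have S := h.toSit
  have f5 := h.hb5
  have f6 := h.hb6
  have f8 := h.hb8
  have f3 := h.hb3
  have f2 : HbF O t 2 _ := f8.c8 S (by decide) (by decide)
  have f11 : HbF O t 11 _ := f2.c1 S (by decide) (by decide)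
  have f9 : HbF O t 9 _ := f3.c1 S (by decide) (by decide)
  have f0 : HbF O t 0 _ := f9.c8 S (by decide) (by decide)
  let hh : Fin 12 → K × K → G := ![fun p => c8 O (c1 O (c8 O (yh p))), 1, fun p => c8 O (c1 O (zh p)),
    fun p => c8 O (yh p), 1, zh, yh, 1, fun p => c1 O (zh p), fun p => c1 O (c8 O (yh p)), 1,
    fun p => c1 O (c8 O (c1 O (zh p)))]
  have F : ∀ j ∈ JH, HbF O t j (hh j) := by
    intro j hj
    simp only [JH, List.mem_cons, List.not_mem_nil, or_false] at hj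
    rcases hj with rfl | rfl | rfl | rfl | rfl | rfl | rfl | rfl
    exacts [f0, f2, f3, f5, f6, f8, f9, f11]
  have n1c : ∀ j ∈ JH, 0 < j → ∀ p, O.n1 * hh j p * O.n1⁻¹ = hh (p1 j) p := by
    intro j hj h0 p
    simp only [JH, List.mem_cons, List.not_mem_nil, or_false] at hj
    rcases hj with rfl | rfl | rfl | rfl | rfl | rfl | rfl | rfl
    exacts [absurd h0 (by decide), rfl, rfl, rfl, h.hb_y1 p, hb_c11 O _, hb_c11 O _, hb_c11 O _]
  have n8c : ∀ j ∈ JH, j < 10 → ∀ p, O.n8 * hh j p * O.n8⁻¹ = hh (p8 j) p := by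
    intro j hj h0 p
    simp only [JH, List.mem_cons, List.not_mem_nil, or_false] at hj
    rcases hj with rfl | rfl | rfl | rfl | rfl | rfl | rfl | rfl
    exacts [hb_c88 O _, hb_c88 O _, hb_c88 O _, h.hb_z8 p, rfl, rfl, rfl, absurd h0 (by decide)]
  let C : Fin 12 → Fin 12 → Prop := fun j k => ∀ p p', Commute (hh j p) (hh k p')
  have sy : ∀ {j k}, C j k → C k j := fun c p p' => (c p' p).symm
  have k1 : ∀ j k, C j k → (j ∈ JH ∧ k ∈ JH ∧ 0 < j ∧ 0 < k) → C (p1 j) (p1 k) := fun j k c ⟨a, b, d, e⟩ p p' => by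
    rw [← n1c j a d, ← n1c k b e]; exact hb_conj (c p p') _
  have k8 : ∀ j k, C j k → (j ∈ JH ∧ k ∈ JH ∧ j < 10 ∧ k < 10) → C (p8 j) (p8 k) := fun j k c ⟨a, b, d, e⟩ p p' => by
    rw [← n8c j a d, ← n8c k b e]; exact hb_conj (c p p') _
  have c65 : C 6 5 := h.y5
  have c58 : C 5 8 := h.z58
  have c62 : C 6 2 := h.y2
  have c28 : C 2 8 := h.z28
  have c36 : C 3 6 := h.hb36
  have c68 : C 6 8 := k1 _ _ c65 (by decide)
  have c35 : C 3 5 := k8 _ _ c65 (by decide)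
  have c32 : C 3 2 := k8 _ _ c68 (by decide)
  have c98 : C 9 8 := k1 _ _ c35 (by decide)
  have c9b : C 9 11 := k1 _ _ c32 (by decide)
  have c02 : C 0 2 := k8 _ _ c98 (by decide)
  have c52 : C 5 2 := k8 _ _ c58 (by decide)
  have c8b : C 8 11 := k1 _ _ c52 (by decide)
  have c6b : C 6 11 := k1 _ _ c62 (by decide)
  have c38 : C 3 8 := k8 _ _ c62 (by decide)
  have c95 : C 9 5 := k1 _ _ c38 (by decide)
  have c05 : C 0 5 := k8 _ _ c95 (by decide)
  have cb5 : C 11 5 := k1 _ _ c28 (by decide)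
  have c96 : C 9 6 := k1 _ _ c36 (by decide)
  have c03 : C 0 3 := k8 _ _ c96 (by decide)
  refine ⟨hh, S, fun j hj => (F j hj).add, fun j hj => (F j hj).base, fun j hj => (F j hj).mv,
    fun j hj => (F j hj).co, fun j hj => (F j hj).hc, n1c, n8c, fun j hj => (F j hj).cg, ?_, h.x0, h.y1⟩
  intro j hj k hk hc hf
  have hj' := hj
  simp only [JH, List.mem_cons, List.not_mem_nil, or_false] at hj hk
  change C j k
  rcases hj with rfl | rfl | rfl | rfl | rfl | rfl | rfl | rfl <;>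
    rcases hk with rfl | rfl | rfl | rfl | rfl | rfl | rfl | rfl <;>
    first | assumption | exact sy ‹_› | exact (F _ hj').comm | exact absurd hc (by decide) | exact absurd (by decide) hf

end CfsgLib.RF4
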