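import Mathlib
import Cfsg.Agent.Lib.RF4.Hc1
import Cfsg.Agent.Lib.RF4.Zb

set_option autoImplicit false
set_option Elab.async false
set_option linter.unusedSectionVars false

namespace CfsgLib.RF4

open Subgroup CfsgLib.F42
open scoped commutatorElement

/-! # Commutators of the hats of `x1`, `x3`, `x7` (package HC2) -/

variable {K : Type*} [Field K] [Finite K] {G : Type*} [Group G] [Finite G] {σ : K →+* K} {sz : Sz K} {O : OP σ sz G} {t : G} {hh : Fin 12 → K × K → G} {δ c m : K}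

namespace HCx

open ZBx

/-- two involutions acting on `x` by transvections which generate an extraspecial configuration -/
theorem fix2 {a b x e f w : G} (ha : a * a = 1) (hb : b * b = 1) (hx : a * x * a⁻¹ = x * e) (hy : b * x * b⁻¹ = x * f)
    (ae : Commute a e) (af : a * f * a⁻¹ = f * w) (be : b * e * b⁻¹ = e * w) (bf : Commute b f) (bw : Commute b w)
    (ef : Commute e f) (fw : Commute f w) (e2 : e * e = 1) (f2 : f * f = 1) (w2 : w * w = 1) : Commute ⁅a, b⁆ x := by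
  have ia : a⁻¹ = a := inv_eq_of_mul_eq_one_right ha
  have ib : b⁻¹ = b := inv_eq_of_mul_eq_one_right hb
  apply commute_of_conj
  have s1 : a * (x * f) * a⁻¹ = x * e * (f * w) := by
    calc a * (x * f) * a⁻¹ = (a * x * a⁻¹) * (a * f * a⁻¹) := by group
      _ = _ := by rw [hx, af]
  have s2 : b * (x * e * (f * w)) * b⁻¹ = x * e := by
    calc b * (x * e * (f * w)) * b⁻¹ = (b * x * b⁻¹) * (b * e * b⁻¹) * (b * f * b⁻¹) * (b * w * b⁻¹) := by group
      _ = x * (f * e) * (w * f) * w := by rw [hy, be, conj_of_commute bf, conj_of_commute bw]; group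
      _ = x * e * (f * f) * (w * w) := by rw [← ef.eq, ← fw.eq]; group
      _ = _ := by rw [f2, w2, mul_one, mul_one]
  have s3 : a * (x * e) * a⁻¹ = x := by
    calc a * (x * e) * a⁻¹ = (a * x * a⁻¹) * (a * e * a⁻¹) := by group
      _ = x * (e * e) := by rw [hx, conj_of_commute ae]; group
      _ = _ := by rw [e2, mul_one]
  calc ⁅a, b⁆ * x * ⁅a, b⁆⁻¹ = a * (b * (a⁻¹ * (b⁻¹ * x * b⁻¹⁻¹) * a⁻¹⁻¹) * b⁻¹) * a⁻¹ := by
        rw [commutatorElement_def]; group
    _ = a * (b * (a * (b * x * b⁻¹) * a⁻¹) * b⁻¹) * a⁻¹ := by rw [ia, ib, ia, ib]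
    _ = x := by rw [hy, s1, s2, s3]

/-- how a commutator of two hats moves `t` -/
theorem mvt {a b x y t e1 e2 e3 : G} (ha : a * a = 1) (hb : b * b = 1) (at' : a * t * a⁻¹ = t * y)
    (bt : b * t * b⁻¹ = t * x) (ax : a * x * a⁻¹ = x * e1) (by' : b * y * b⁻¹ = y * e2) (xy : x * y * x⁻¹ = y * e3)
    (ay : Commute a y) (bx : Commute b x) (x2 : x * x = 1) (y2 : y * y = 1) (be : Commute b e1) (xe : Commute x e2)
    (ae : Commute a (e3 * e2 * e1)) : ⁅a, b⁆ * t * ⁅a, b⁆⁻¹ = t * (e3 * e2 * e1) := by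
  have ia : a⁻¹ = a := inv_eq_of_mul_eq_one_right ha
  have ib : b⁻¹ = b := inv_eq_of_mul_eq_one_right hb
  have ix : x⁻¹ = x := inv_eq_of_mul_eq_one_right x2
  have s1 : a * (t * x) * a⁻¹ = t * y * x * e1 := by
    calc a * (t * x) * a⁻¹ = (a * t * a⁻¹) * (a * x * a⁻¹) := by group
      _ = _ := by rw [at', ax]; group
  have s2 : b * (t * y * x * e1) * b⁻¹ = t * y * (e3 * e2 * e1) := by
    calc b * (t * y * x * e1) * b⁻¹ = (b * t * b⁻¹) * (b * y * b⁻¹) * (b * x * b⁻¹) * (b * e1 * b⁻¹) := by group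
      _ = t * x * y * (e2 * x) * e1 := by rw [bt, by', conj_of_commute bx, conj_of_commute be]; group
      _ = t * (x * y * x⁻¹) * e2 * e1 := by rw [← xe.eq, ix]; group
      _ = _ := by rw [xy]; group
  have s3 : a * (t * y * (e3 * e2 * e1)) * a⁻¹ = t * (e3 * e2 * e1) := by
    calc a * (t * y * (e3 * e2 * e1)) * a⁻¹ = (a * t * a⁻¹) * (a * y * a⁻¹) * (a * (e3 * e2 * e1) * a⁻¹) := by group
      _ = t * (y * y) * (e3 * e2 * e1) := by rw [at', conj_of_commute ay, conj_of_commute ae]; group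
      _ = _ := by rw [y2, mul_one]
  calc ⁅a, b⁆ * t * ⁅a, b⁆⁻¹ = a * (b * (a⁻¹ * (b⁻¹ * t * b⁻¹⁻¹) * a⁻¹⁻¹) * b⁻¹) * a⁻¹ := by
        rw [commutatorElement_def]; group
    _ = a * (b * (a * (b * t * b⁻¹) * a⁻¹) * b⁻¹) * a⁻¹ := by rw [ia, ib, ia, ib]
    _ = _ := by rw [bt, s1, s2, s3]

theorem comm_both {a b x : G} (ha : Commute a x) (hb : Commute b x) : Commute ⁅a, b⁆ x := by
  rw [commutatorElement_def]
  exact ((ha.mul_left hb).mul_left ha.inv_left).mul_left hb.inv_left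

theorem comm_eq {a b : G} (ha : a * a = 1) : a * (b * a * b⁻¹) = ⁅a, b⁆ := by
  rw [commutatorElement_def, inv_eq_of_mul_eq_one_right ha]; group

theorem inv_left {a b : G} (ha : a * a = 1) : a * ⁅a, b⁆ * a⁻¹ = ⁅a, b⁆⁻¹ := by
  have ia : a⁻¹ = a := inv_eq_of_mul_eq_one_right ha
  calc a * ⁅a, b⁆ * a⁻¹ = (a * a) * b * a⁻¹ * b⁻¹ * a⁻¹ := by rw [commutatorElement_def]; group
    _ = b * a * b⁻¹ * a⁻¹ := by rw [ha, ia]; group
    _ = _ := by rw [commutatorElement_def]; group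

theorem inv_right {a b : G} (hb : b * b = 1) : b * ⁅a, b⁆ * b⁻¹ = ⁅a, b⁆⁻¹ := by
  have ib : b⁻¹ = b := inv_eq_of_mul_eq_one_right hb
  calc b * ⁅a, b⁆ * b⁻¹ = b * a * b * a⁻¹ * (b * b)⁻¹ := by rw [commutatorElement_def]; group
    _ = b * a * b⁻¹ * a⁻¹ := by rw [hb, ib]; group
    _ = _ := by rw [commutatorElement_def]; group

/-- `y` fixes `a` and moves `b` by an element commuting with `a` -/
theorem fix_right {a b y e : G} (ha : Commute a y) (hb : y * b * y⁻¹ = b * e) (he : Commute a e) :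
    Commute ⁅a, b⁆ y := by
  symm
  apply commute_of_conj
  calc y * ⁅a, b⁆ * y⁻¹ = (y * a * y⁻¹) * (y * b * y⁻¹) * (y * a * y⁻¹)⁻¹ * (y * b * y⁻¹)⁻¹ := by
        rw [commutatorElement_def]; group
    _ = a * b * (e * a * e⁻¹)⁻¹ * b⁻¹ := by rw [conj_of_commute ha.symm, hb]; group
    _ = _ := by rw [conj_of_commute he.symm, commutatorElement_def]

/-- `y` fixes `b` and moves `a` by an element commuting with `b` -/
theorem fix_left {a b y e : G} (hb : Commute b y) (ha : y * a * y⁻¹ = a * e) (he : Commute b e) :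
    Commute ⁅a, b⁆ y := by
  rw [← commutatorElement_inv]
  exact (fix_right hb ha he).inv_left

omit [Finite K] in
theorem ml_comm (c : K) (p p' : K × K) : ml c p p' = ml c p' p := by
  simp only [ml]; ext <;> simp only <;> ring

omit [Finite K] in
theorem ml_smul (c s : K) (p p' : K × K) : ml c p (s • p') = ml c p' (s • p) := by
  simp only [ml]; ext <;> simp only [Prod.smul_fst, Prod.smul_snd, smul_eq_mul] <;> ring

omit [Finite K] in
theorem ml_zero (c : K) (p : K × K) : ml c p 0 = 0 := by simp [ml]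

omit [Finite K] in
theorem ml_base (c u : K) (p : K × K) : ml c (0, u) p = u • p := by
  simp only [ml]; ext <;> simp

omit [Finite K] in
theorem sg_base (δ u : K) : sg σ δ (0, u) = (0, σ u) := by simp [sg]

theorem gsq (O : OP σ sz G) {j : Fin 12} (hj : j ∈ JH) (h : HH O t hh) (s : K) : O.g j s * O.g j s = 1 := by
  rw [← h.base j hj, h.sq hj]

theorem x09 (O : OP σ sz G) (u s : K) :
    O.g 0 u * O.g 9 s * (O.g 0 u)⁻¹ = O.g 9 s * (O.g 3 (σ u * s) * O.g 6 (u * σ s)) := by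
  have c : Commute (O.g 3 (σ u * s) * O.g 6 (u * σ s)) (O.g 9 s) :=
    (Commute.symm (O.r3_9 _ _)).mul_left (Commute.symm (O.r6_9 _ _))
  calc O.g 0 u * O.g 9 s * (O.g 0 u)⁻¹ = (O.g 0 u)⁻¹ * (O.g 9 s * O.g 0 u) := by rw [O.i0]; group
    _ = O.g 3 (σ u * s) * O.g 6 (u * σ s) * O.g 9 s := by rw [O.r0_9]; group
    _ = _ := c.eq

theorem x04 (O : OP σ sz G) (u s : K) : O.g 0 u * O.g 4 s * (O.g 0 u)⁻¹ = O.g 4 s * O.g 2 (u * s) := by
  calc O.g 0 u * O.g 4 s * (O.g 0 u)⁻¹ = (O.g 0 u)⁻¹ * (O.g 4 s * O.g 0 u) := by rw [O.i0]; group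
    _ = O.g 2 (u * s) * O.g 4 s := by rw [O.r0_4]; group
    _ = _ := (O.r2_4 _ _).symm

theorem x08 (O : OP σ sz G) (u s : K) : O.g 0 u * O.g 8 s * (O.g 0 u)⁻¹ = O.g 8 s * O.g 5 (u * s) := by
  calc O.g 0 u * O.g 8 s * (O.g 0 u)⁻¹ = (O.g 0 u)⁻¹ * (O.g 8 s * O.g 0 u) := by rw [O.i0]; group
    _ = O.g 5 (u * s) * O.g 8 s := by rw [O.r0_8]; group
    _ = _ := (O.r5_8 _ _).symm

end HCx

open ZBx HCx

theorem HR1.l8_mem (h : HR1 O t hh δ c m) (u : K) (p : K × K) :
    hh 9 p * (O.g 0 u * hh 9 p * (O.g 0 u)⁻¹) ∈ hat hh [2, 3, 5, 6, 8] := by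
  have H : HH O t hh := h.toHH
  have ha := H.sq (j := 9) (by decide) p
  have hb := gsq O (j := 0) (by decide) H u
  have cg : ∀ k, cm 9 k = [] → ∀ s, Commute (hh 9 p) (O.g k s) := fun k hk s => H.cg 9 (by decide) k hk p s
  have c5 : ∀ q, Commute (hh 9 p) (hh 5 q) := H.cc 9 (by decide) 5 (by decide) (by decide) (by decide) p
  have c8 : ∀ q, Commute (hh 9 p) (hh 8 q) := H.cc 9 (by decide) 8 (by decide) (by decide) (by decide) p
  have x5 : ∀ q, Commute (O.g 0 u) (hh 5 q) := fun q => (H.cg 5 (by decide) 0 (by decide) q u).symm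
  have a2 : ∀ s, hh 9 p * O.g 2 s * (hh 9 p)⁻¹ = O.g 2 s * hh 5 (s • p) := fun s =>
    flip ha (h.l6' s p) (H.cg 5 (by decide) 2 (by decide) _ _)
  rw [comm_eq ha]
  refine H.loc4 ?_ (comm_both (c5 _) (x5 _)) ⟨O.g 3 (σ u * p.1) * O.g 6 (u * σ p.1), ?_, ?_⟩
    (.inr ⟨hh 9 p, H.co 9 (by decide) p, inv_left ha⟩)
  · intro x hx
    refine O.pat_ind (p := fun x => Commute ⁅hh 9 p, O.g 0 u⁆ x) hx (Commute.one_right _) ?_
      (fun x _ y _ a b => a.mul_right b)
    intro j hj s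
    simp only [List.mem_cons, List.not_mem_nil, or_false] at hj
    rcases hj with rfl | rfl | rfl | rfl | rfl | rfl
    · exact comm_fix (f := 1) ha hb (a2 s) (by rw [mul_one]; exact conj_of_commute (O.r0_2 _ _).symm) (c5 _)
        (Commute.one_right _) (x5 _) (Commute.one_right _) (Commute.one_right _) (H.sq (by decide) _) (mul_one _)
    · exact comm_both (cg 3 (by decide) s) (O.r0_3 _ _).symm
    · refine fix2 (w := hh 5 ((u * s) • p)) ha hb (flip ha (H.y49 s p) (H.cg 8 (by decide) 4 (by decide) _ _))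
        (x04 O u s) (c8 _) (a2 _) (by rw [H.x0, smul_smul]) (O.r0_2 _ _).symm (x5 _)
        (H.cg 8 (by decide) 2 (by decide) _ _) (H.cg 5 (by decide) 2 (by decide) _ _).symm (H.sq (by decide) _)
        (gsq O (by decide) H _) (H.sq (by decide) _)
    · exact comm_both (cg 5 (by decide) s) (O.r0_5 _ _).symm
    · exact comm_both (cg 6 (by decide) s) (O.r0_6 _ _).symm
    · exact comm_fix (e := 1) ha hb (by rw [mul_one]; exact conj_of_commute (cg 8 (by decide) s)) (x08 O u s)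
        (Commute.one_right _) (cg 5 (by decide) _) (Commute.one_right _) (O.r0_5 _ _).symm (Commute.one_left _)
        (mul_one _) (gsq O (by decide) H _)
  · exact H.pat_le (by decide) (mul_mem (O.g_mem (by decide) _) (O.g_mem (by decide) _))
  · have := mvt (x := 1) (e1 := 1) (e3 := 1) ha hb (H.mv 9 (by decide) p)
      (by rw [mul_one]; exact conj_of_commute (H.tg 0 u).symm) (by group) (x09 O u p.1) (by group)
      (cg 9 (by decide) _) (Commute.one_right _) (mul_one _) (gsq O (by decide) H _) (Commute.one_right _)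
      (Commute.one_left _) (by rw [one_mul, mul_one]; exact (cg 3 (by decide) _).mul_right (cg 6 (by decide) _))
    rwa [one_mul, mul_one] at this

theorem HR1.hc_h3 (h : HR1 O t hh δ c m) (p p' : K × K) : ⁅hh 3 p, hh 9 p'⁆ ∈ O.Z := by
  have H : HH O t hh := h.toHH
  have ha := H.sq (j := 3) (by decide) p
  have hb := H.sq (j := 9) (by decide) p'
  have ag : ∀ k, cm 3 k = [] → ∀ s, Commute (hh 3 p) (O.g k s) := fun k hk s => H.cg 3 (by decide) k hk p s
  have bg : ∀ k, cm 9 k = [] → ∀ s, Commute (hh 9 p') (O.g k s) := fun k hk s => H.cg 9 (by decide) k hk p' s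
  have a5 : ∀ q, Commute (hh 3 p) (hh 5 q) := H.cc 3 (by decide) 5 (by decide) (by decide) (by decide) p
  have a6 : ∀ q, Commute (hh 3 p) (hh 6 q) := H.cc 3 (by decide) 6 (by decide) (by decide) (by decide) p
  have a8 : ∀ q, Commute (hh 3 p) (hh 8 q) := H.cc 3 (by decide) 8 (by decide) (by decide) (by decide) p
  have b5 : ∀ q, Commute (hh 9 p') (hh 5 q) := H.cc 9 (by decide) 5 (by decide) (by decide) (by decide) p'
  have b8 : ∀ q, Commute (hh 9 p') (hh 8 q) := H.cc 9 (by decide) 8 (by decide) (by decide) (by decide) p'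
  have kt : Commute ⁅hh 3 p, hh 9 p'⁆ t :=
    comm_fix ha hb (H.mv 3 (by decide) p) (H.mv 9 (by decide) p') (ag 3 (by decide) _) (ag 9 (by decide) _)
      (bg 3 (by decide) _) (bg 9 (by decide) _) (O.r3_9 _ _).symm (gsq O (by decide) H _) (gsq O (by decide) H _)
  have k2 : ⁅hh 3 p, hh 9 p'⁆ ∈ hat hh [5, 6, 8] := by
    refine H.loc2 ?_ (comm_both (a5 _) (b5 _)) ⟨1, one_mem _, by rw [mul_one]; exact conj_of_commute kt⟩
      (.inr ⟨hh 3 p, H.co 3 (by decide) p, inv_left ha⟩)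
    intro x hx
    refine O.pat_ind (p := fun x => Commute ⁅hh 3 p, hh 9 p'⁆ x) hx (Commute.one_right _) ?_
      (fun x _ y _ a b => a.mul_right b)
    intro j hj s
    simp only [X7, List.mem_cons, List.not_mem_nil, or_false] at hj
    rcases hj with rfl | rfl | rfl | rfl | rfl | rfl | rfl | rfl
    · exact comm_fix (e := 1) ha hb (by rw [mul_one]; exact conj_of_commute (ag 2 (by decide) s))
        (flip hb (h.l6' s p') (H.cg 5 (by decide) 2 (by decide) _ _)) (Commute.one_right _) (a5 _)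
        (Commute.one_right _) (b5 _) (Commute.one_left _) (mul_one _) (H.sq (by decide) _)
    · exact comm_both (ag 3 (by decide) s) (bg 3 (by decide) s)
    · exact comm_fix (e := 1) ha hb (by rw [mul_one]; exact conj_of_commute (ag 4 (by decide) s))
        (flip hb (H.y49 s p') (H.cg 8 (by decide) 4 (by decide) _ _)) (Commute.one_right _) (a8 _)
        (Commute.one_right _) (b8 _) (Commute.one_left _) (mul_one _) (H.sq (by decide) _)
    · exact comm_both (ag 5 (by decide) s) (bg 5 (by decide) s)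
    · exact comm_both (ag 6 (by decide) s) (bg 6 (by decide) s)
    · exact comm_fix (f := 1) ha hb (flip ha (H.y7 s p) (H.cg 5 (by decide) 7 (by decide) _ _))
        (by rw [mul_one]; exact conj_of_commute (bg 7 (by decide) s)) (a5 _) (Commute.one_right _) (b5 _)
        (Commute.one_right _) (Commute.one_right _) (H.sq (by decide) _) (mul_one _)
    · exact comm_both (ag 8 (by decide) s) (bg 8 (by decide) s)
    · exact comm_both (ag 9 (by decide) s) (bg 9 (by decide) s)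
  refine mem_Z_of_E2 O.toOC (H.ker4 (.inl rfl) k2 kt) ?_ ?_
  · refine fix_right (e := hh 9 p' * (O.g 0 1 * hh 9 p' * (O.g 0 1)⁻¹)) (ag 0 (by decide) 1)
      (by rw [← mul_assoc (hh 9 p'), hb, one_mul]) ?_
    exact H.hat_comm (S := [3]) (by decide) (by decide) (by decide) (by decide) (hat_mem (by decide) p) (h.l8_mem 1 p')
  · exact fix_right (ag 1 (by decide) 1) (h.l5' 1 p') ((a6 _).mul_right (a8 _))

theorem HR1.h3 (h : HR1 O t hh δ c m) (p p' : K × K) : Commute (hh 3 p) (hh 9 p') := by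
  obtain ⟨s, hs⟩ := O.mem_Z.1 (h.hc_h3 p p')
  have e : O.n1 * ⁅hh 3 p, hh 9 p'⁆ * O.n1⁻¹ = ⁅hh 3 p', hh 9 p⁆⁻¹ := by
    rw [commutatorElement_inv, conjugate_commutatorElement, h.n1c 3 (by decide) (by decide),
      h.n1c 9 (by decide) (by decide)]
    rfl
  have m : O.g 8 s ∈ O.Z := by
    have := inv_mem (h.hc_h3 p' p)
    rw [← e, hs, O.n1_g 5 (by decide)] at this
    exact this
  rw [(O.g_mem_iff (by decide) (by decide)).1 m, O.g_zero] at hs
  exact commutatorElement_eq_one_iff_commute.1 hs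

theorem HR1.h3' (h : HR1 O t hh δ c m) (p p' : K × K) : Commute (hh 6 p) (hh 0 p') := by
  have := conj_comm (n := O.n8) (h.h3 p p')
  rwa [h.n8c 3 (by decide) (by decide), h.n8c 9 (by decide) (by decide)] at this

theorem HR1.hc_9 (h : HR1 O t hh δ c m) (p a b c' d f : K × K) :
    lbc (hh 9 p) (lbP hh a b c' d f) = lbP hh a b (c' + ml c p a) d f := by
  have H : HH O t hh := h.toHH
  have e2 : lbc (hh 9 p) (hh 2 a) = hh 2 a * hh 5 (ml c p a) :=
    flip (H.sq (by decide) p) (h.h2' p a) (H.cc 5 (by decide) 2 (by decide) (by decide) (by decide) _ _)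
  rw [lbP, lbc_mul, lbc_mul, lbc_mul, lbc_mul, e2, lbc_comm (h.h3 b p),
    lbc_comm (H.cc 5 (by decide) 9 (by decide) (by decide) (by decide) _ _),
    lbc_comm (H.cc 6 (by decide) 9 (by decide) (by decide) (by decide) _ _),
    lbc_comm (H.cc 8 (by decide) 9 (by decide) (by decide) (by decide) _ _)]
  simp only [H.lb_e2, H.lb_e3, H.lb_e5, H.lb_e6, H.lb_e8, H.lb_mul, add_zero, zero_add, add_comm (ml c p a)]

theorem HR1.hc_0 (h : HR1 O t hh δ c m) (π a b c' d f : K × K) :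
    lbc (hh 0 π) (lbP hh a b c' d f) = lbP hh a b (c' + ml c π f) d f := by
  have H : HH O t hh := h.toHH
  have e8 : lbc (hh 0 π) (hh 8 f) = hh 8 f * hh 5 (ml c π f) :=
    flip (H.sq (by decide) π) (h.h2'' π f) (H.cc 5 (by decide) 8 (by decide) (by decide) (by decide) _ _)
  rw [lbP, lbc_mul, lbc_mul, lbc_mul, lbc_mul, e8, lbc_comm (h.h3' d π),
    lbc_comm (H.cc 5 (by decide) 0 (by decide) (by decide) (by decide) _ _),
    lbc_comm (H.cc 2 (by decide) 0 (by decide) (by decide) (by decide) _ _),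
    lbc_comm (H.cc 3 (by decide) 0 (by decide) (by decide) (by decide) _ _)]
  simp only [H.lb_e2, H.lb_e3, H.lb_e5, H.lb_e6, H.lb_e8, H.lb_mul, add_zero, zero_add]

/-- the detection of the coordinates of the commutator of the hats of `x1` and `x7` -/
theorem HR1.hc_det (h : HR1 O t hh δ c m) (π p : K × K)
    (hm : ∀ x : K, ∃ b c' d, lbc (hh 0 (x • π)) (hh 9 p) = hh 9 p * lbP hh 0 b c' d 0) :
    hh 0 π * hh 9 p * (hh 0 π)⁻¹ = hh 9 p * (hh 3 (ml c (sg σ δ π) p) * hh 6 (ml c π (sg σ δ p))) := by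
  have H : HH O t hh := h.toHH
  choose b μ d e using hm
  have ad : ∀ x y, μ (x + y) = μ x + μ y := fun x y => by
    have e1 := mul_lbc (hh 0 (x • π)) (hh 0 (y • π)) (hh 9 p)
    rw [← H.add 0 (by decide), ← add_smul, e, e, lbc_mul, e, h.hc_0, mul_assoc, H.lb_mul, ml_zero] at e1
    simpa using (H.lb_inj (mul_left_cancel e1)).2.2.1
  have tr : ∀ (β : Kˣ) x, μ (β ^ 2 * σ β * x) = ((β : K) ^ 3 * σ β ^ 2) • μ x := fun β x => by
    obtain ⟨h9, h0, h5⟩ := chi_H7 O.toOC β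
    have e1 := lbc_lbc (O.h (β ^ 2 * su σ β, β⁻¹)) (hh 0 (x • π)) (hh 9 p)
    have e2 : lbc (O.h (β ^ 2 * su σ β, β⁻¹)) (hh 0 (x • π)) = _ := H.hc 0 (by decide) _ _ _
    have e3 : lbc (O.h (β ^ 2 * su σ β, β⁻¹)) (hh 9 p) = _ := H.hc 9 (by decide) _ _ _
    rw [e, lbc_mul, H.lb_h, e2, e3, h9, h0, h5, one_smul, smul_smul, e] at e1
    exact (H.lb_inj (mul_left_cancel e1)).2.2.1.symm
  have z1 := na1' O.toOC h.big (ψ := fun v => (μ v).1) (fun a b => by simp [ad]) (fun β a => by simp [tr]) 1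
  have z2 := na1' O.toOC h.big (ψ := fun v => (μ v).2) (fun a b => by simp [ad]) (fun β a => by simp [tr]) 1
  have z : μ 1 = 0 := Prod.ext z1 z2
  have e0 := e 1
  rw [one_smul, z] at e0
  have y7a : lbc (O.g 7 1) (hh 9 p) = hh 9 p := lbc_comm (H.cg 9 (by decide) 7 (by decide) _ _)
  have y1b : lbc (O.g 1 1) (hh 0 π) = hh 0 π := lbc_comm (H.cg 0 (by decide) 1 (by decide) _ _)
  have hb : b 1 = ml c (sg σ δ π) p := by
    have e1 := lbc_lbc (O.g 7 1) (hh 0 π) (hh 9 p)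
    have e2 : lbc (O.g 7 1) (hh 0 π) = _ := h.l5'' 1 π
    have e3 : lbc (hh 2 (sg σ δ π)) (hh 9 p) = _ := h.h2' p _
    rw [e0, lbc_mul, y7a, H.lb_7, e2, mul_lbc, mul_lbc, lbc_comm (h.h3 _ p).symm, one_smul, one_smul, e3, lbc_mul, e0,
      H.lb_e5, h.hc_0, mul_assoc, H.lb_mul, ml_zero] at e1
    have := (H.lb_inj (mul_left_cancel e1)).2.2.1
    rw [ml_comm]
    simpa using this
  have hd : d 1 = ml c π (sg σ δ p) := by
    have e1 := lbc_lbc (O.g 1 1) (hh 0 π) (hh 9 p)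
    have e2 : lbc (O.g 1 1) (hh 9 p) = _ := h.l5' 1 p
    rw [e0, lbc_mul, y1b, H.lb_1, e2, lbc_mul, e0, H.lb_e6, H.lb_e8, H.lb_mul, h.hc_0, mul_assoc, mul_assoc, H.lb_mul,
      H.lb_mul] at e1
    simpa using (H.lb_inj (mul_left_cancel e1)).2.2.1
  show lbc (hh 0 π) (hh 9 p) = _
  rw [e0, hb, hd, H.lb_e3, H.lb_e6, H.lb_mul]
  simp only [add_zero, zero_add]

theorem HR1.l8 (h : HR1 O t hh δ c m) (u : K) (p : K × K) :
    O.g 0 u * hh 9 p * (O.g 0 u)⁻¹ = hh 9 p * (hh 3 (σ u • p) * hh 6 (u • sg σ δ p)) := by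
  have H : HH O t hh := h.toHH
  have ha := H.sq (j := 9) (by decide) p
  have := h.hc_det (0, u) p ?_
  · rwa [H.base 0 (by decide), sg_base, ml_base, ml_base] at this
  intro x
  rw [show x • ((0 : K), u) = (0, x * u) by simp, H.base 0 (by decide)]
  generalize x * u = v
  by_cases hv : v = 0
  · exact ⟨0, 0, 0, by rw [hv, O.g_zero, lbc_one, ← H.lb_e2, H.zero (by decide), mul_one]⟩
  have hk := h.l8_mem v p
  have k2 := inv_eq_of_mul_eq_one_right (H.sq4 hk)
  obtain ⟨a, b, c', d, f, e⟩ := H.mem4.1 hk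
  change _ = lbP hh a b c' d f at e
  have e' : lbc (O.g 0 v) (hh 9 p) = hh 9 p * lbP hh a b c' d f := by
    rw [← e, ← mul_assoc (hh 9 p), ha, one_mul]; rfl
  rw [comm_eq ha] at e k2
  have f0 : f = 0 := by
    have e1 : lbc (O.g 0 v) ⁅hh 9 p, O.g 0 v⁆ = _ := inv_right (gsq O (by decide) H v)
    rw [k2, e, H.lb_0] at e1
    exact (smul_eq_zero.1 (add_eq_left.1 (H.lb_inj e1).2.2.1)).resolve_left hv
  have a0 : a = 0 := by
    have y : O.g 9 1 * O.g 0 v * (O.g 9 1)⁻¹ = O.g 0 v * (O.g 3 (σ v * 1) * O.g 6 (v * σ 1)) := by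
      rw [O.r0_9]; group
    have e1 := lbc_comm (fix_right (H.cg 9 (by decide) 9 (by decide) p 1) y
      ((H.cg 9 (by decide) 3 (by decide) p _).mul_right (H.cg 9 (by decide) 6 (by decide) p _)))
    rw [e, H.lb_9, one_smul] at e1
    exact add_eq_left.1 (H.lb_inj e1).2.2.1
  exact ⟨b, c', d, by rw [e', a0, f0]⟩

end CfsgLib.RF4
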