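import Mathlib
import Cfsg.Agent.Lib.RF4.Hc2

set_option autoImplicit false
set_option Elab.async false
set_option linter.unusedSectionVars false

namespace CfsgLib.RF4

open Subgroup CfsgLib.F42
open scoped commutatorElement

/-! # The commutator of the hats of `x1` and `x7` (package HC3) -/

variable {K : Type*} [Field K] [Finite K] {G : Type*} [Group G] [Finite G] {σ : K →+* K} {sz : Sz K} {O : OP σ sz G} {t : G} {hh : Fin 12 → K × K → G} {δ c m : K}

open ZBx HCx

/-- the `n8`-image of `l8` -/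
theorem HR1.l8' (h : HR1 O t hh δ c m) (u : K) (p : K × K) :
    O.g 9 u * hh 0 p * (O.g 9 u)⁻¹ = hh 0 p * (hh 6 (σ u • p) * hh 3 (u • sg σ δ p)) := by
  have H : HH O t hh := h.toHH
  have e := congrArg (lbc O.n8) (show lbc (O.g 0 u) (hh 9 p) = _ from h.l8 u p)
  rw [lbc_lbc, lbc_mul, lbc_mul, lb_n8g O (by decide), H.lb_n8 (by decide) (by decide), H.lb_n8 (by decide) (by decide),
    H.lb_n8 (by decide) (by decide)] at e
  exact e

theorem HR1.h4_mem (h : HR1 O t hh δ c m) (π p : K × K) : ⁅hh 9 p, hh 0 π⁆ ∈ hat hh [2, 3, 5, 6, 8] := by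
  have H : HH O t hh := h.toHH
  have ha := H.sq (j := 9) (by decide) p
  have hb := H.sq (j := 0) (by decide) π
  have ag : ∀ k, cm 9 k = [] → ∀ s, Commute (hh 9 p) (O.g k s) := fun k hk s => H.cg 9 (by decide) k hk p s
  have bg : ∀ k, cm 0 k = [] → ∀ s, Commute (hh 0 π) (O.g k s) := fun k hk s => H.cg 0 (by decide) k hk π s
  have a3 : ∀ q, Commute (hh 9 p) (hh 3 q) := fun q => (h.h3 q p).symm
  have a5 : ∀ q, Commute (hh 9 p) (hh 5 q) := H.cc 9 (by decide) 5 (by decide) (by decide) (by decide) p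
  have a6 : ∀ q, Commute (hh 9 p) (hh 6 q) := H.cc 9 (by decide) 6 (by decide) (by decide) (by decide) p
  have a8 : ∀ q, Commute (hh 9 p) (hh 8 q) := H.cc 9 (by decide) 8 (by decide) (by decide) (by decide) p
  have b2 : ∀ q, Commute (hh 0 π) (hh 2 q) := H.cc 0 (by decide) 2 (by decide) (by decide) (by decide) π
  have b3 : ∀ q, Commute (hh 0 π) (hh 3 q) := H.cc 0 (by decide) 3 (by decide) (by decide) (by decide) π
  have b5 : ∀ q, Commute (hh 0 π) (hh 5 q) := H.cc 0 (by decide) 5 (by decide) (by decide) (by decide) π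
  have b6 : ∀ q, Commute (hh 0 π) (hh 6 q) := fun q => (h.h3' q π).symm
  refine H.loc4 ?_ (comm_both (a5 _) (b5 _)) ⟨O.g 3 (σ π.1 * p.1) * O.g 6 (π.1 * σ p.1) *
    (hh 6 (σ p.1 • π) * hh 3 (p.1 • sg σ δ π)) * (hh 3 (σ π.1 • p) * hh 6 (π.1 • sg σ δ p)), ?_, ?_⟩
    (.inr ⟨hh 9 p, H.co 9 (by decide) p, inv_left ha⟩)
  · intro x hx
    refine O.pat_ind (p := fun x => Commute ⁅hh 9 p, hh 0 π⁆ x) hx (Commute.one_right _) ?_
      (fun x _ y _ a b => a.mul_right b)
    intro j hj s
    simp only [List.mem_cons, List.not_mem_nil, or_false] at hj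
    rcases hj with rfl | rfl | rfl | rfl | rfl | rfl
    · exact comm_fix (f := 1) ha hb (flip ha (h.l6' s p) (H.cg 5 (by decide) 2 (by decide) _ _))
        (by rw [mul_one]; exact conj_of_commute (bg 2 (by decide) s)) (a5 _) (Commute.one_right _) (b5 _)
        (Commute.one_right _) (Commute.one_right _) (H.sq (by decide) _) (mul_one _)
    · exact comm_both (ag 3 (by decide) s) (bg 3 (by decide) s)
    · refine fix2 (w := hh 5 (ml c p (s • π))) ha hb (flip ha (H.y49 s p) (H.cg 8 (by decide) 4 (by decide) _ _))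
        (flip hb (H.y40 s π) (H.cg 2 (by decide) 4 (by decide) _ _)) (a8 _)
        (flip ha (h.h2' p _) (H.cc 5 (by decide) 2 (by decide) (by decide) (by decide) _ _)) ?_ (b2 _) (b5 _)
        (H.cc 8 (by decide) 2 (by decide) (by decide) (by decide) _ _)
        (H.cc 2 (by decide) 5 (by decide) (by decide) (by decide) _ _) (H.sq (by decide) _) (H.sq (by decide) _)
        (H.sq (by decide) _)
      rw [ml_smul]
      exact flip hb (h.h2'' π _) (H.cc 5 (by decide) 8 (by decide) (by decide) (by decide) _ _)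
    · exact comm_both (ag 5 (by decide) s) (bg 5 (by decide) s)
    · exact comm_both (ag 6 (by decide) s) (bg 6 (by decide) s)
    · exact comm_fix (e := 1) ha hb (by rw [mul_one]; exact conj_of_commute (ag 8 (by decide) s))
        (flip hb (h.l6'' s π) (H.cg 5 (by decide) 8 (by decide) _ _)) (Commute.one_right _) (a5 _)
        (Commute.one_right _) (b5 _) (Commute.one_left _) (mul_one _) (H.sq (by decide) _)
  · exact mul_mem (mul_mem (H.pat_le (by decide) (mul_mem (O.g_mem (by decide) _) (O.g_mem (by decide) _)))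
      (mul_mem (hat_mem (by decide) _) (hat_mem (by decide) _)))
      (mul_mem (hat_mem (by decide) _) (hat_mem (by decide) _))
  · refine mvt ha hb (H.mv 9 (by decide) p) (H.mv 0 (by decide) π)
      (flip ha (h.l8 _ p) ((H.cg 3 (by decide) 0 (by decide) _ _).mul_left (H.cg 6 (by decide) 0 (by decide) _ _)))
      (flip hb (h.l8' _ π) ((H.cg 6 (by decide) 9 (by decide) _ _).mul_left (H.cg 3 (by decide) 9 (by decide) _ _)))
      (x09 O _ _) (ag 9 (by decide) _) (bg 0 (by decide) _) (gsq O (by decide) H _) (gsq O (by decide) H _)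
      ((b3 _).mul_right (b6 _))
      ((H.cg 6 (by decide) 0 (by decide) _ _).symm.mul_right (H.cg 3 (by decide) 0 (by decide) _ _).symm) ?_
    exact (((ag 3 (by decide) _).mul_right (ag 6 (by decide) _)).mul_right ((a6 _).mul_right (a3 _))).mul_right
      ((a3 _).mul_right (a6 _))

theorem HR1.hr (h : HR1 O t hh δ c m) : HR O t hh δ c m := by
  have H : HH O t hh := h.toHH
  refine { toHR1 := h, h3 := h.h3, h4 := fun π p => h.hc_det π p fun x => ?_ }
  generalize x • π = π
  have ha := H.sq (j := 9) (by decide) p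
  obtain ⟨a, b, c', d, f, e⟩ := H.mem4.1 (h.h4_mem π p)
  change _ = lbP hh a b c' d f at e
  have e' : lbc (hh 0 π) (hh 9 p) = hh 9 p * lbP hh a b c' d f := by
    rw [← e, ← comm_eq ha, ← mul_assoc (hh 9 p), ha, one_mul]; rfl
  have a0 : a = 0 := by
    have e1 := lbc_comm (fix_right (H.cg 9 (by decide) 9 (by decide) p 1) (h.l8' 1 π)
      ((H.cc 9 (by decide) 6 (by decide) (by decide) (by decide) p _).mul_right (h.h3 _ p).symm))
    rw [e, H.lb_9, one_smul] at e1
    exact add_eq_left.1 (H.lb_inj e1).2.2.1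
  have f0 : f = 0 := by
    have e1 := lbc_comm (fix_left (H.cg 0 (by decide) 0 (by decide) π 1) (h.l8 1 p)
      ((H.cc 0 (by decide) 3 (by decide) (by decide) (by decide) π _).mul_right (h.h3' _ π).symm))
    rw [e, H.lb_0, one_smul] at e1
    exact add_eq_left.1 (H.lb_inj e1).2.2.1
  exact ⟨b, c', d, by rw [e', a0, f0]⟩

end CfsgLib.RF4
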