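import Mathlib
import Cfsg.Agent.Lib.RF4.Gam

set_option autoImplicit false
set_option Elab.async false

namespace CfsgLib.RF4

open Subgroup CfsgLib.F42
open scoped commutatorElement

/-! # The structure constants (package ID) -/

variable {K : Type*} [Field K] [Finite K] {G : Type*} [Group G] [Finite G] {σ : K →+* K} {sz : Sz K} {O : OP σ sz G} {t : G} {hh : Fin 12 → K × K → G} {δ c m : K}

/-- fixed points of a torus element with only one trivial character -/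
theorem HR.gam_fix (h : HR O t hh δ c m) {α β : Kˣ} {j : Fin 12} (hj : j ∈ JH) (h1 : ∀ k, k ≠ j → chi σ k α β ≠ 1) {g : G}
    (hg : g ∈ Gam O hh) (hc : Commute g (O.h (α, β))) : ∃ p, g = hh j p := by
  have H := h.toHH
  have ct : Commute t (O.h (α, β)) := h.tC _ (h_mem_G0 O _)
  have tP : t ∈ normalizer (↑(Gam O hh ⊓ centralizer {O.h (α, β)}) : Set G) :=
    Tech.mem_normalizer_of_forall fun x hx => mem_inf.2 ⟨Tech.conj_mem_of_mem_normalizer h.gam_t hx.1,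
      mem_centralizer_singleton_iff.2
        ((ct.mul_left (mem_centralizer_singleton_iff.1 hx.2)).mul_left ct.inv_left)⟩
  have gP : g ∈ Gam O hh ⊓ centralizer {O.h (α, β)} := mem_inf.2 ⟨hg, mem_centralizer_singleton_iff.2 hc⟩
  by_cases e : chi σ j α β = 1
  · let Zh : Subgroup G :=
      { carrier := Set.range (hh j)
        mul_mem' := by rintro _ _ ⟨p, rfl⟩ ⟨p', rfl⟩; exact ⟨_, h.add j hj p p'⟩
        one_mem' := ⟨_, H.zero hj⟩
        inv_mem' := by rintro _ ⟨p, rfl⟩; exact ⟨_, (H.inv hj p).symm⟩ }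
    have := tow (Zh := Zh) h.gam_two.to_inf_left h.t2 tP (Tech.mem_normalizer_of_forall (by
      rintro _ ⟨p, rfl⟩; exact ⟨_, (H.tconj hj p).symm⟩)) (by
        rintro _ ⟨p, rfl⟩
        refine mem_inf.2 ⟨mem_sup_right (hat_mem hj p), mem_centralizer_singleton_iff.2 ?_⟩
        rw [eq_comm, ← mul_inv_eq_iff_eq_mul, h.hc j hj, e, one_smul]) (fun x hx xt => by
        obtain ⟨a, rfl⟩ := (mem_single O.toOC hj).1 (cent_h O.toOT (S := [j]) (fun k hk => h1 k (by simpa using hk))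
          (h.gam_cent hx.1 xt) (mem_centralizer_singleton_iff.1 hx.2))
        exact ⟨_, h.base j hj a⟩) (by
        rintro _ ⟨p, rfl⟩ e1
        have e2 : hh j ((p.1, p.2 + p.1) + p) = hh j 0 := by
          rw [h.add j hj, ← H.tconj hj, H.zero hj, h.toSit0.t_inv, ← e1]; group
        have e3 := congrArg Prod.snd (H.inj hj e2)
        have e4 : p = (0, p.2) := by
          have := O.charP
          exact Prod.ext (by simp only [Prod.snd_add, Prod.snd_zero] at e3; grind) rfl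
        exact ⟨_, ⟨(p.2, 0), rfl⟩, by rw [h.mv j hj, e4, h.base j hj]⟩)
    rw [this] at gP
    exact gP.imp fun _ => Eq.symm
  · have := tow (Zh := ⊥) h.gam_two.to_inf_left h.t2 tP (by simp) bot_le (fun x hx xt =>
      O.pat_nil ▸ cent_h O.toOT (S := []) (fun k _ => if hk : k = j then hk ▸ e else h1 k hk)
        (h.gam_cent hx.1 xt) (mem_centralizer_singleton_iff.1 hx.2)) (by simp)
    rw [this, mem_bot] at gP
    exact ⟨0, gP.trans (H.zero hj).symm⟩

namespace IDx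

theorem exists_fix1 {N : Subgroup G} (hN : IsPGroup 2 N) {y g : G} (ho : Odd (orderOf y))
    (hy : y ∈ normalizer (N : Set G)) (hg : g⁻¹ * (y * g * y⁻¹) ∈ N) : ∃ n ∈ N, Commute (g * n) y := by
  obtain ⟨n, hn, h⟩ := exists_fix hN (T := zpowers y) (g := g)
    (fun x hx => ho.of_dvd_nat (orderOf_dvd_of_mem_zpowers hx)) (zpowers_le.2 hy) fun x hx => by
      obtain ⟨k, rfl⟩ := mem_powers_iff_mem_zpowers.2 hx
      induction k with
      | zero => simp
      | succ k ih =>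
        have := mul_mem hg (Tech.conj_mem_of_mem_normalizer hy (ih (pow_mem (mem_zpowers y) k)))
        convert this using 1
        simp only [pow_succ']
        group
  exact ⟨n, hn, h y (mem_zpowers y)⟩

/-- an equivariant transvection is induced by a hat -/
theorem fix (h : HR O t hh δ c m) {α β : Kˣ} {i j : Fin 12} (hi : i ∈ JH) (hj : j ∈ JH)
    (h1 : ∀ k, k ≠ i → chi σ k α β ≠ 1) {g : G} (hg : g ∈ Gam O hh) {D : K × K → K × K}
    (hD : ∀ p, g * hh j p * g⁻¹ = hh j p * hh 5 (D p)) (he : ∀ p, D (chi σ j α β • p) = chi σ 5 α β • D p) :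
    ∃ q, ∀ p, hh i q * hh j p * (hh i q)⁻¹ = hh j p * hh 5 (D p) := by
  have hy : O.h (α, β) ∈ normalizer (Gam O hh : Set G) := h.gam_H ⟨_, rfl⟩
  have sj : ∀ p : K × K, ∃ p0, chi σ j α β • p0 = p := fun p => ⟨(chi σ j α β)⁻¹ • p, smul_inv_smul₀ (chi_ne j α β) p⟩
  obtain ⟨n, hn, e⟩ := exists_fix1 (N := Gam O hh ⊓ centralizer (Set.range (hh j))) (g := g) h.gam_two.to_inf_left
    (O.br_odd ⟨(α, β), rfl⟩) (Tech.mem_normalizer_of_forall fun x hx =>
      mem_inf.2 ⟨Tech.conj_mem_of_mem_normalizer hy hx.1, by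
        rintro _ ⟨p, rfl⟩
        obtain ⟨p, rfl⟩ := sj p
        rw [← h.hc j hj, conj_mul, conj_mul, hx.2 _ ⟨p, rfl⟩]⟩)
    (mem_inf.2 ⟨mul_mem (inv_mem hg) (Tech.conj_mem_of_mem_normalizer hy hg), by
      rintro _ ⟨p, rfl⟩
      obtain ⟨p, rfl⟩ := sj p
      have e1 := hD (chi σ j α β • p)
      rw [he, ← h.hc 5 (by decide), ← h.hc j hj, conj_mul, ← hD] at e1
      rw [← h.hc j hj, ← mul_assoc, mul_assoc g⁻¹, eq_inv_mul_iff_mul_eq, ← mul_assoc, ← mul_assoc, ← mul_assoc,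
        ← mul_assoc g, e1]
      group⟩)
  obtain ⟨q, e1⟩ := h.gam_fix hi h1 (mul_mem hg hn.1) e
  refine ⟨q, fun p => ?_⟩
  rw [← e1, ← hD, mul_assoc g, ← hn.2 _ ⟨p, rfl⟩]
  group

omit [Finite K] [Finite G] in
theorem add_self (O : OC σ sz G) (p : K × K) : p + p = 0 := Prod.ext (O.add_self _) (O.add_self _)

omit [Finite G] in
theorem cmul (x a b : G) : x * (a * b) * x⁻¹ = x * a * x⁻¹ * (x * b * x⁻¹) := conj_mul.symm

omit [Finite G] in
theorem four (a b c d x : G) :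
    a * b * c * d * x * (a * b * c * d)⁻¹ = a * (b * (c * (d * x * d⁻¹) * c⁻¹) * b⁻¹) * a⁻¹ := by group

omit [Finite G] in
/-- the same commutator read from the other side -/
theorem flip {a b z : G} (ha : a⁻¹ = a) (hz : Commute z b) (h : b * a * b⁻¹ = a * z) : a * b * a⁻¹ = b * z := by
  rw [← hz.eq, ← inv_mul_eq_iff_eq_mul.2 h, ha]; group

/-- collection in the group of the hats `3, 5, 6, 8` -/
theorem col (h : HH O t hh) :
    (∀ p p', hh 3 p * hh 3 p' = hh 3 (p + p')) ∧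
    (∀ p p' x, hh 3 p * (hh 3 p' * x) = hh 3 (p + p') * x) ∧
    hh 3 0 = 1 ∧
    (∀ p p', hh 5 p * hh 5 p' = hh 5 (p + p')) ∧
    (∀ p p' x, hh 5 p * (hh 5 p' * x) = hh 5 (p + p') * x) ∧
    hh 5 0 = 1 ∧
    (∀ p p', hh 6 p * hh 6 p' = hh 6 (p + p')) ∧
    (∀ p p' x, hh 6 p * (hh 6 p' * x) = hh 6 (p + p') * x) ∧
    hh 6 0 = 1 ∧
    (∀ p p', hh 8 p * hh 8 p' = hh 8 (p + p')) ∧
    (∀ p p' x, hh 8 p * (hh 8 p' * x) = hh 8 (p + p') * x) ∧
    hh 8 0 = 1 ∧
    (∀ p p', hh 5 p * hh 3 p' = hh 3 p' * hh 5 p) ∧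
    (∀ p p' x, hh 5 p * (hh 3 p' * x) = hh 3 p' * (hh 5 p * x)) ∧
    (∀ p p', hh 6 p * hh 3 p' = hh 3 p' * hh 6 p) ∧
    (∀ p p' x, hh 6 p * (hh 3 p' * x) = hh 3 p' * (hh 6 p * x)) ∧
    (∀ p p', hh 8 p * hh 3 p' = hh 3 p' * hh 8 p) ∧
    (∀ p p' x, hh 8 p * (hh 3 p' * x) = hh 3 p' * (hh 8 p * x)) ∧
    (∀ p p', hh 6 p * hh 5 p' = hh 5 p' * hh 6 p) ∧
    (∀ p p' x, hh 6 p * (hh 5 p' * x) = hh 5 p' * (hh 6 p * x)) ∧
    (∀ p p', hh 8 p * hh 5 p' = hh 5 p' * hh 8 p) ∧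
    (∀ p p' x, hh 8 p * (hh 5 p' * x) = hh 5 p' * (hh 8 p * x)) ∧
    (∀ p p', hh 8 p * hh 6 p' = hh 6 p' * hh 8 p) ∧
    (∀ p p' x, hh 8 p * (hh 6 p' * x) = hh 6 p' * (hh 8 p * x)) ∧
    (∀ p : K × K, p + p = 0) ∧
    (∀ a b c : G, a * b * c = a * (b * c)) ∧
    (∀ a : G, a * 1 = a) ∧
    (∀ a : G, 1 * a = a) := by
  have a : ∀ j ∈ JH, ∀ p p', hh j p * hh j p' = hh j (p + p') := fun j hj p p' => (h.add j hj p p').symm
  have a' : ∀ j ∈ JH, ∀ p p' x, hh j p * (hh j p' * x) = hh j (p + p') * x := fun j hj p p' x => by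
    rw [h.add j hj, mul_assoc]
  have b : ∀ j k, k ∈ JH ∧ j ∈ JH ∧ cm k j = [] ∧ ¬ Far k j → ∀ p p', hh k p * hh j p' = hh j p' * hh k p :=
    fun j k e => h.cc k e.1 j e.2.1 e.2.2.1 e.2.2.2
  have b' : ∀ j k, k ∈ JH ∧ j ∈ JH ∧ cm k j = [] ∧ ¬ Far k j → ∀ p p' x,
      hh k p * (hh j p' * x) = hh j p' * (hh k p * x) := fun j k e p p' x => by
    rw [← mul_assoc, b j k e, mul_assoc]
  exact ⟨a 3 (by decide), a' 3 (by decide), h.zero (by decide), a 5 (by decide), a' 5 (by decide),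
    h.zero (by decide), a 6 (by decide), a' 6 (by decide), h.zero (by decide), a 8 (by decide),
    a' 8 (by decide), h.zero (by decide), b 3 5 (by decide), b' 3 5 (by decide), b 3 6 (by decide),
    b' 3 6 (by decide), b 3 8 (by decide), b' 3 8 (by decide), b 5 6 (by decide), b' 5 6 (by decide),
    b 5 8 (by decide), b' 5 8 (by decide), b 6 8 (by decide), b' 6 8 (by decide), add_self O.toOC,
    mul_assoc, mul_one, one_mul⟩

end IDx

open IDx

theorem HR.m_eq (h : HR O t hh δ c m) : m = 0 := by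
  have H := h.toHH
  have cg : ∀ j ∈ JH, cm j 0 = [] → ∀ p, O.g 0 1 * hh j p * (O.g 0 1)⁻¹ = hh j p := fun j hj e p =>
    (h.cg j hj 0 e p 1).symm.mul_inv_cancel
  have cc : ∀ j ∈ JH, cm j 11 = [] → ¬ Far j 11 → ∀ p p', hh 11 p' * hh j p * (hh 11 p')⁻¹ = hh j p :=
    fun j hj e f p p' => (h.cc j hj 11 (by decide) e f p p').symm.mul_inv_cancel
  obtain ⟨β, hβ⟩ := h.big.unit
  have m0 : O.g 0 1 ∈ Gam O hh := mem_sup_left (O.g_mem_U 0 1)
  have m1 : hh 11 (1, 0) ∈ Gam O hh := mem_sup_right (hat_mem (by decide) _)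
  obtain ⟨q, e⟩ := fix h (i := 9) (j := 2) (by decide) (by decide) (fun k => chi_H7_ne O.toOC hβ)
    (mul_mem (mul_mem (mul_mem m0 m1) m0) m1) (D := fun p => mu σ δ c m p (1, 0)) (fun p => by
      rw [four, h.h1]
      simp only [cmul, cg 2 (by decide) rfl, cg 5 (by decide) rfl, cg 6 (by decide) rfl, h.x0, h.h1,
        cc 5 (by decide) rfl (by decide), cc 6 (by decide) rfl (by decide), cc 8 (by decide) rfl (by decide), one_smul]
      simp only [col H, mul_right_inj]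
      rw [add_right_comm, add_self O.toOC, zero_add]) (fun p => by
      rw [(chi_rel O.toOC _ _).2.2.2.2.2.1, (chi_H7 O.toOC β).1, mul_one]
      ext <;> simp [mu, ml] <;> ring)
  have e1 : ∀ p, ml c q p = mu σ δ c m p (1, 0) := fun p => H.inj (j := 5) (by decide) (mul_left_cancel
    ((flip (H.inv (by decide) q) (h.cc 5 (by decide) 2 (by decide) rfl (by decide) _ _) (h.toHR1.h2' q p)).symm.trans (e p)))
  have e2 := e1 (0, 1)
  have e3 := congrArg Prod.snd (e1 (1, 0))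
  simp only [ml, mu, sg, Prod.ext_iff] at e2 e3
  simp at e2 e3
  rw [e2.1] at e3
  simpa using e3

theorem HR.c_eq (h : HR O t hh δ c m) : c = δ + σ δ := by
  have H := h.toHH
  have := O.charP
  have c60 : ∀ p π, hh 0 π * hh 6 p * (hh 0 π)⁻¹ = hh 6 p := fun p π => by
    have := (h.h3 p π).conj O.n8
    rw [h.n8c 3 (by decide) (by decide), h.n8c 9 (by decide) (by decide)] at this
    exact this.symm.mul_inv_cancel
  have cc : ∀ j ∈ JH, cm j 0 = [] → ¬ Far j 0 → ∀ p p', hh 0 p' * hh j p * (hh 0 p')⁻¹ = hh j p :=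
    fun j hj e f p p' => (h.cc j hj 0 (by decide) e f p p').symm.mul_inv_cancel
  have c80 : ∀ p π, hh 0 π * hh 8 p * (hh 0 π)⁻¹ = hh 8 p * hh 5 (ml c π p) := fun p π =>
    flip (H.inv (by decide) π) (h.cc 5 (by decide) 8 (by decide) rfl (by decide) _ _) (h.toHR1.h2'' π p)
  have key : ∀ π u p, hh 0 π * O.g 10 u * hh 0 π * (O.g 10 u)⁻¹ * hh 9 p * (hh 0 π * O.g 10 u * hh 0 π * (O.g 10 u)⁻¹)⁻¹ =
      hh 9 p * (hh 5 (u • (sg σ δ (ml c (sg σ δ π) p) + ml c π (ml c π (sg σ δ p)))) *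
        hh 6 (σ u • ml c (sg σ δ π) p) * hh 8 (u • ml c π (sg σ δ p))) := fun π u p => by
    have c9 := h.cg 9 (by decide) 10 rfl p u
    rw [four, c9.inv_right.symm.mul_inv_cancel, h.h4]
    simp only [cmul, c9.symm.mul_inv_cancel, h.l5, H.y10, h.h4, c60, c80, cc 3 (by decide) rfl (by decide),
      cc 5 (by decide) rfl (by decide)]
    simp only [col H, mul_right_inj]
    congr 3
    · ext <;> simp [ml] <;> ring
    · rw [add_left_comm, add_self O.toOC, add_zero]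
  obtain ⟨α, hα⟩ := h.big.unit
  have mk : ∀ π u, hh 0 π * O.g 10 u * hh 0 π * (O.g 10 u)⁻¹ ∈ Gam O hh := fun π u =>
    have m0 : O.g 10 u ∈ Gam O hh := mem_sup_left (O.g_mem_U _ _)
    have m1 : hh 0 π ∈ Gam O hh := mem_sup_right (hat_mem (by decide) _)
    mul_mem (mul_mem (mul_mem m1 m0) m1) (inv_mem m0)
  have a0 := α.ne_zero
  have a1 : σ α ≠ 0 := (map_ne_zero σ).2 a0
  obtain ⟨q, e⟩ := fix h (i := 3) (j := 9) (by decide) (by decide) (fun k => chi_H'_ne O.toOC hα)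
    (mul_mem (inv_mem (mk ((α : K) • (1, 0)) (α : K)⁻¹)) (mk (1, 0) 1))
    (D := fun p => (1 + α : K) • (sg σ δ (ml c (sg σ δ (1, 0)) p) + ml c (1, 0) (ml c (1, 0) (sg σ δ p)))) (fun p => by
      have e1 := key (1, 0) 1 p
      have e2 := key ((α : K) • (1, 0)) (α : K)⁻¹ p
      have e3 := fun p => h.gam_c5 (mk ((α : K) • (1, 0)) (α : K)⁻¹) p
      generalize hh 0 (1, 0) * O.g 10 1 * hh 0 (1, 0) * (O.g 10 1)⁻¹ = k at e1 ⊢
      generalize hh 0 ((α : K) • (1, 0)) * O.g 10 (α : K)⁻¹ * hh 0 ((α : K) • (1, 0)) * (O.g 10 (α : K)⁻¹)⁻¹ = k' at e2 e3 ⊢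
      rw [mul_inv_rev, inv_inv, mul_assoc k'⁻¹, mul_assoc k'⁻¹, ← mul_assoc _ k⁻¹, e1, inv_mul_eq_iff_eq_mul,
        ← eq_mul_inv_iff_mul_eq, cmul, e2, (e3 _).mul_inv_cancel]
      simp only [col H, mul_right_inj]
      congr 2
      · ext <;> simp [ml, sg, O.ss] <;> field_simp <;> grind
      · congr 1
        ext <;> simp [ml, sg] <;> field_simp
      · congr 1
        ext <;> simp [ml, sg] <;> field_simp) (fun p => by
      rw [(chi_rel O.toOC _ _).2.2.2.2.2.2.2]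
      ext <;> simp [ml, sg] <;> field_simp)
  have e1 := e (0, 1)
  rw [(h.h3 q _).mul_inv_cancel, left_eq_mul, ← H.zero (j := 5) (by decide)] at e1
  have e2 := congrArg Prod.snd (H.inj (by decide) e1)
  have a2 : (1 + α : K) ≠ 0 := fun e => hα (Units.ext (O.add_eq_zero.1 e).symm)
  simp [ml, sg, a2] at e2
  grind

end CfsgLib.RF4
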