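import Mathlib
import Cfsg.Agent.Lib.RF4.Id

set_option autoImplicit false
set_option Elab.async false
set_option linter.unusedSectionVars false

namespace CfsgLib.RF4

open Subgroup CfsgLib.F42
open scoped commutatorElement

/-! # The relations around the octagon (package OCT) -/

variable {K : Type*} [Field K] [Finite K] {G : Type*} [Group G] [Finite G] {σ : K →+* K} {sz : Sz K} {O : OP σ sz G} {t : G} {hh : Fin 12 → K × K → G} {δ c m : K}

namespace OCTx

/-- rotation around the octagon -/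
def rot (O : OP σ sz G) (i : ZMod 8) : G ≃* G := MulAut.conj ((O.n1 * O.n8) ^ i.val)

theorem rot_apply (i : ZMod 8) (x : G) : rot O i x = (O.n1 * O.n8) ^ i.val * x * ((O.n1 * O.n8) ^ i.val)⁻¹ := rfl

theorem rot_add (hb : O.Braid) (k i : ZMod 8) (x : G) : rot O (k + i) x = rot O k (rot O i x) := by
  simp only [rot_apply, O.cz_add hb]; group

theorem rot_zero (x : G) : rot O 0 x = x := by simp [rot_apply]

theorem rot_one (x : G) : rot O 1 x = O.n1 * (O.n8 * x * O.n8⁻¹) * O.n1⁻¹ := by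
  rw [rot_apply, O.cz_one]; group

theorem rot_shift (hb : O.Braid) (b i k : ZMod 8) (x : G) : rot O (i + k) x = rot O (i - b) (rot O (b + k) x) := by
  rw [← rot_add hb]; congr 2; ring

theorem rot_shift0 (hb : O.Braid) (b i : ZMod 8) (x : G) : rot O i x = rot O (i - b) (rot O b x) := by
  rw [← rot_add hb, sub_add_cancel]

theorem n1_rot (hb : O.Braid) (i : ZMod 8) (x : G) : O.n1 * rot O i x * O.n1⁻¹ = rot O (-i) (O.n1 * x * O.n1⁻¹) := by
  simp only [rot_apply, O.cz_neg hb]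
  have e := O.zz_n1_mul_c i.val
  calc O.n1 * ((O.n1 * O.n8) ^ i.val * x * ((O.n1 * O.n8) ^ i.val)⁻¹) * O.n1⁻¹
      = (O.n1 * (O.n1 * O.n8) ^ i.val) * x * (O.n1 * (O.n1 * O.n8) ^ i.val)⁻¹ := by group
    _ = _ := by rw [e]; group

theorem t_rot (h : Sit0 O t) (i : ZMod 8) (x : G) : t * rot O i x * t⁻¹ = rot O i (t * x * t⁻¹) := by
  simp only [rot_apply]
  have e := (h.tC _ (pow_mem (mul_mem O.n1_mem_G0 (n8_mem_G0 O)) i.val)).eq
  calc t * ((O.n1 * O.n8) ^ i.val * x * ((O.n1 * O.n8) ^ i.val)⁻¹) * t⁻¹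
      = (t * (O.n1 * O.n8) ^ i.val) * x * (t * (O.n1 * O.n8) ^ i.val)⁻¹ := by group
    _ = _ := by rw [e]; group

variable (h : HH O t hh)
include h

theorem step {j : Fin 12} (hj : j ∈ JH) (h1 : j < 10) (h2 : p8 j ∈ JH) (h3 : 0 < p8 j) (p : K × K) :
    rot O 1 (hh j p) = hh (p1 (p8 j)) p := by
  rw [rot_one, h.n8c j hj h1, h.n1c _ h2 h3]

theorem z1 (p : K × K) : rot O 1 (hh 5 p) = hh 8 p := step h (by decide) (by decide) (by decide) (by decide) p

theorem z2 (p : K × K) : rot O 2 (hh 5 p) = hh 11 p := by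
  rw [show (2 : ZMod 8) = 1 + 1 from rfl, rot_add h.braid, z1 h]
  exact step h (by decide) (by decide) (by decide) (by decide) p

theorem z7 (p : K × K) : rot O 7 (hh 5 p) = hh 2 p := by
  have e : rot O 1 (hh 2 p) = hh 5 p := step h (by decide) (by decide) (by decide) (by decide) p
  rw [← e, ← rot_add h.braid, show (7 + 1 : ZMod 8) = 0 from rfl, rot_zero]

theorem y1 (p : K × K) : rot O 1 (hh 6 p) = hh 9 p := step h (by decide) (by decide) (by decide) (by decide) p

theorem y7 (p : K × K) : rot O 7 (hh 6 p) = hh 3 p := by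
  have e : rot O 1 (hh 3 p) = hh 6 p := step h (by decide) (by decide) (by decide) (by decide) p
  rw [← e, ← rot_add h.braid, show (7 + 1 : ZMod 8) = 0 from rfl, rot_zero]

omit h [Finite K] in
theorem ml_comm (c : K) (p p' : K × K) : ml c p p' = ml c p' p := by
  simp only [ml]; ext <;> simp only <;> ring

omit h [Finite K] in
theorem mu_zero (δ c : K) (p p' : K × K) : mu σ δ c 0 p p' = ml c p (sg σ δ p') := by
  simp [mu]

end OCTx

open OCTx

theorem HR.exists_od (h : HR O t hh δ c m) : ∃ Z Y, OD O t δ Z Y := by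
  obtain rfl := h.m_eq
  obtain rfl := h.c_eq
  have hH : HH O t hh := h.toHH
  have hb := h.braid
  have cm0 : ∀ {j k : Fin 12} (i l : ZMod 8) (p p' : K × K), j ∈ JH → k ∈ JH → cm j k = [] → ¬ Far j k →
      rot O l (hh 5 p') = hh k p' → Commute (rot O i (hh j p)) (rot O (i + l) (hh 5 p')) := by
    intro j k i l p p' hj hk hc hf e
    rw [rot_add hb, e]
    exact (hH.cc j hj k hk hc hf p p').map (rot O i)
  refine ⟨fun i p => rot O i (hh 5 p), fun i p => rot O i (hh 6 p),
    { toSit := h.toSit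
      zadd := fun i p p' => by rw [hH.add 5 (by decide), map_mul]
      yadd := fun i p p' => by rw [hH.add 6 (by decide), map_mul]
      zz1 := fun i p p' => cm0 i 1 p p' (by decide) (by decide) (by decide) (by decide) (z1 hH p')
      zz2 := fun i p p' => cm0 i 2 p p' (by decide) (by decide) (by decide) (by decide) (z2 hH p')
      zz3 := fun i p p' => ?_
      yz7 := fun i p p' => cm0 i 7 p p' (by decide) (by decide) (by decide) (by decide) (z7 hH p')
      yz0 := fun i p p' => (hH.cc 6 (by decide) 5 (by decide) (by decide) (by decide) p p').map (rot O i)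
      yz1 := fun i p p' => cm0 i 1 p p' (by decide) (by decide) (by decide) (by decide) (z1 hH p')
      yz2 := fun i p p' => cm0 i 2 p p' (by decide) (by decide) (by decide) (by decide) (z2 hH p')
      yz3 := fun i p p' => ?_
      yz6 := fun i p p' => ?_
      zbase := fun i c => by rw [hH.base 5 (by decide)]; rfl
      tz := fun i p => by rw [t_rot h.toSit0, hH.tconj (by decide)]
      ty := fun i p => by rw [t_rot h.toSit0, hH.tconj (by decide)]
      n1z := fun i p => ?_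
      n1y := fun i p => by rw [n1_rot hb, hH.n1c 6 (by decide) (by decide)]; rfl
      n1t := ?_ }⟩
  · rw [rot_shift hb 7 i 3, rot_shift0 hb 7 i (hh 5 p), rot_shift hb 7 i 1, rot_shift hb 7 i 1 (hh 6 _),
      rot_shift hb 7 i 2, show (7 + 3 : ZMod 8) = 2 from rfl, show (7 + 1 : ZMod 8) = 0 from rfl,
      show (7 + 2 : ZMod 8) = 1 from rfl, z2 hH, z7 hH, z1 hH, rot_zero, rot_zero, ← map_inv, ← map_mul, ← map_mul,
      h.h1, mu_zero, mu_zero, ml_comm _ p' (sg σ δ p)]
    simp only [map_mul]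
  · rw [rot_shift hb 7 i 3, rot_shift0 hb 7 i (hh 6 p), rot_shift hb 7 i 2, show (7 + 3 : ZMod 8) = 2 from rfl,
      show (7 + 2 : ZMod 8) = 1 from rfl, z2 hH, y7 hH, z1 hH, ← map_inv, ← map_mul, ← map_mul, h.h2, map_mul]
  · rw [rot_shift hb 1 i 6, rot_shift0 hb 1 i (hh 6 p), rot_shift hb 1 i 7, show (1 + 6 : ZMod 8) = 7 from rfl,
      show (1 + 7 : ZMod 8) = 0 from rfl, z7 hH, y1 hH, rot_zero, ← map_inv, ← map_mul, ← map_mul, h.toHR1.h2',
      map_mul]
  · rw [n1_rot hb, hH.n1c 5 (by decide) (by decide), show p1 5 = 8 from rfl, ← z1 hH, ← rot_add hb, sub_eq_neg_add]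
  · refine ⟨O.g 0 1 * O.n1 * hh 0 (1, 0), ?_⟩
    have e := (h.tC _ (mul_mem (g_mem_G0 O 0 1) O.n1_mem_G0)).eq
    calc O.g 0 1 * O.n1 * hh 0 (1, 0) * t * (O.g 0 1 * O.n1 * hh 0 (1, 0))⁻¹
        = O.g 0 1 * O.n1 * (hh 0 (1, 0) * t * (hh 0 (1, 0))⁻¹) * (O.g 0 1 * O.n1)⁻¹ := by group
      _ = (O.g 0 1 * O.n1 * t) * O.g 0 1 * (O.g 0 1 * O.n1)⁻¹ := by rw [hH.mv 0 (by decide)]; group
      _ = t * (O.g 0 1 * O.n1 * O.g 0 1 * (O.g 0 1 * O.n1)⁻¹) := by rw [← e]; group
      _ = _ := by rw [n1_conj_x1]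

end CfsgLib.RF4
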