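import Mathlib
import Cfsg.Agent.Lib.RF4.Bas

set_option autoImplicit false
set_option Elab.async false

namespace CfsgLib.RF4

open Subgroup CfsgLib.F42
open scoped commutatorElement

/-! # The case of a direct product (package PRD) -/

variable {K : Type*} [Field K] [Finite K] {G : Type*} [Group G] [Finite G] {σ : K →+* K} {sz : Sz K} {O : OP σ sz G} {t : G} {δ γ : K} {Z Y : ZMod 8 → K × K → G}

namespace PRDx

omit [Finite K] [Finite G] in
theorem sg_eq (O : OC σ sz G) (hγ : δ = γ + σ γ) {ε : K} (hε : ε = γ ∨ ε = γ + 1) (a : K) :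
    sg σ δ (a • (1, ε)) = σ a • (1, ε) := by
  have := O.charP
  rcases hε with rfl | rfl <;> ext <;> simp [sg, hγ] <;> grind

omit [Finite K] [Finite G] in
theorem ml_eq (O : OC σ sz G) (hγ : δ = γ + σ γ) (a b : K) :
    ml (δ + σ δ) (a • (1, γ)) (b • (1, γ + 1)) = 0 ∧ ml (δ + σ δ) (a • (1, γ + 1)) (b • (1, γ)) = 0 ∧
      ml (δ + σ δ) (a • (1, γ + 1)) (b • (1, γ + 1)) = (a * b) • (1, γ + 1) := by
  have := O.charP
  refine ⟨?_, ?_, ?_⟩ <;> ext <;> simp [ml, hγ, O.ss] <;> grind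

omit [Finite K] [Finite G] in
theorem zero {f : K × K → G} (h : ∀ p p', f (p + p') = f p * f p') : f 0 = 1 := by
  simpa using h 0 0

omit [Finite G] in
/-- the diagonal map of `L × t L t⁻¹` -/
def psi (t : G) (L : Subgroup G) (hc : ∀ x ∈ L, ∀ y ∈ L, Commute x (t * y * t⁻¹)) : L →* G :=
  MonoidHom.mk' (fun x => x * (t * x * t⁻¹)) fun x y => by
    rw [coe_mul, ← conj_mul, mul_assoc (x : G), ← mul_assoc (y : G), (hc y y.2 x x.2).eq]; group

end PRDx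

open PRDx

omit [Finite K] [Finite G] in
theorem OD.commute (h : OD O t δ Z Y) (hγ : δ = γ + σ γ) (i j : ZMod 8) (c d : K) :
    Commute (Z i (c • (1, γ))) (Z j (d • (1, γ + 1))) := by
  have s1 := sg_eq O.toOC hγ (.inl rfl)
  have s2 := sg_eq O.toOC hγ (.inr rfl)
  have m := ml_eq O.toOC hγ
  have z0 : ∀ i, Z i 0 = 1 := fun i => zero (h.zadd i)
  have y0 : ∀ i, Y i 0 = 1 := fun i => zero (h.yadd i)
  have k3 : ∀ d : K, Commute (Z i (c • (1, γ))) (Z (i + 3) (d • (1, γ + 1))) := fun d => by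
    have := h.zz3 i (c • (1, γ)) (d • (1, γ + 1))
    rw [s1, s2, (m _ _).1, (m _ _).1, (m _ _).1, z0, z0, y0, mul_one, mul_one, mul_one] at this
    exact (mul_inv_eq_iff_eq_mul.1 this : Commute _ _).symm
  have k5 : ∀ d : K, Commute (Z i (c • (1, γ))) (Z (i + 5) (d • (1, γ + 1))) := fun d => by
    have := h.zz3 (i + 5) (d • (1, γ + 1)) (c • (1, γ))
    rw [s1, s2, (m _ _).2.1, (m _ _).2.1, (m _ _).2.1, z0, z0, y0, mul_one, mul_one, mul_one,
      show i + 5 + 3 = i by rw [add_assoc]; exact add_zero i] at this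
    exact mul_inv_eq_iff_eq_mul.1 this
  have k6 : ∀ p, Commute (Z i (c • (1, γ))) (Z (i + 6) p) := fun p => by
    have := h.zz2 (i + 6) p (c • (1, γ))
    rw [show i + 6 + 2 = i by rw [add_assoc]; exact add_zero i] at this
    exact this.symm
  obtain ⟨k, rfl⟩ : ∃ k, j = i + k := ⟨j - i, by ring⟩
  rcases (show k = 0 ∨ k = 1 ∨ k = 2 ∨ k = 3 ∨ k = 4 ∨ k = 5 ∨ k = 6 ∨ k = 7 by revert k; decide) with
    rfl | rfl | rfl | rfl | rfl | rfl | rfl | rfl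
  · rw [add_zero, Commute, SemiconjBy, ← h.zadd, ← h.zadd, add_comm]
  · exact h.zz1 _ _ _
  · exact h.zz2 _ _ _
  · exact k3 d
  · have k4 : ∀ a b : K, Commute (Z i (c • (1, γ)))
        (Z (i + 4) ((σ a * b) • (1, γ + 1)) * Y (i + 4) ((a * b) • (1, γ + 1))) := fun a b => by
      have e := h.zz3 (i + 3) (a • (1, γ + 1)) (b • (1, γ + 1))
      rw [s2, s2, (m _ _).2.2, (m _ _).2.2, (m _ _).2.2, show i + 3 + 3 = i + 6 by ring,
        show i + 3 + 1 = i + 4 by ring, show i + 3 + 2 = i + 5 by ring, ← inv_mul_eq_iff_eq_mul,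
        ← mul_inv_eq_iff_eq_mul] at e
      rw [← e]
      exact ((k3 a).inv_right.mul_right (((k6 _).mul_right (k3 a)).mul_right (k6 _).inv_right)).mul_right
        (k5 _).inv_right
    obtain ⟨ω, h0, h1⟩ := h.big
    have h2 : ω + σ ω ≠ 0 := fun e => (O.fix_sig (O.add_eq_zero.1 e).symm).elim h0 h1
    have := (k4 1 (ω * (d / (ω + σ ω)))).mul_right (k4 ω (d / (ω + σ ω))).inv_right
    rwa [map_one, one_mul, mul_inv_rev, mul_assoc, mul_inv_cancel_left, show ω * (d / (ω + σ ω)) =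
      d + σ ω * (d / (ω + σ ω)) by have := O.charP; field_simp; grind, add_smul, h.zadd, mul_inv_cancel_right] at this
  · exact k5 d
  · exact k6 _
  · have := h.zz1 (i + 7) (d • (1, γ + 1)) (c • (1, γ))
    rw [show i + 7 + 1 = i by rw [add_assoc]; exact add_zero i] at this
    exact this.symm

/-- two commuting copies of `L` interchanged by `t` -/
theorem OD.exists_factor (h : OD O t δ Z Y) (hm : Mult O.G0) (hγ : δ = γ + σ γ) : ∃ (L1 : Subgroup G) (e : L1 ≃* O.G0),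
    (∀ x ∈ L1, ∀ y ∈ L1, Commute x (t * y * t⁻¹)) ∧ ∀ x : L1, (e x : G) = x * (t * x * t⁻¹) := by
  have := O.charP
  set L0 := closure {x | ∃ i, ∃ c : K, Z i (c • (1, γ)) = x} with hL0
  have tz : ∀ i (c : K), t * Z i (c • (1, γ)) * t⁻¹ = Z i (c • (1, γ + 1)) := fun i c => by
    rw [h.tz]; simp [mul_add]
  have hc : ∀ x ∈ L0, ∀ y ∈ L0, Commute x (t * y * t⁻¹) := fun x hx y hy => by
    refine closure_induction₂ (p := fun x y _ _ => Commute x (t * y * t⁻¹)) ?_ (fun _ _ => .one_left _)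
      (fun _ _ => by simp) (fun _ _ _ _ _ _ a b => a.mul_left b) (fun _ _ _ _ _ _ a b => ?_)
      (fun _ _ _ _ a => a.inv_left) (fun _ _ _ _ a => ?_) hx hy
    · rintro _ _ ⟨i, c, rfl⟩ ⟨j, d, rfl⟩
      rw [tz]; exact h.commute hγ i j c d
    · rw [← conj_mul]; exact a.mul_right b
    · rw [← conj_inv]; exact a.inv_right
  have gen := gen_vz O h.braid h.big h.simple
  have pz : ∀ i (c : K) m, psi t L0 hc ⟨Z i (c • (1, γ)), m⟩ = vz O i c := fun i c m => by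
    change Z i _ * (t * Z i _ * t⁻¹) = _
    rw [tz, ← h.zadd, ← h.zbase]
    congr 1
    ext <;> simp <;> grind
  have r1 : ∀ x : L0, psi t L0 hc x ∈ O.G0 := fun ⟨x, hx⟩ => by
    induction hx using closure_induction with
    | mem x hx => obtain ⟨i, c, rfl⟩ := hx; rw [pz]; exact KLx.vz_mem O i c
    | one => exact (map_one (psi t L0 hc)).symm ▸ one_mem _
    | mul x y hx hy a b => exact (map_mul (psi t L0 hc) ⟨x, hx⟩ ⟨y, hy⟩).symm ▸ mul_mem a b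
    | inv x hx a => exact (map_inv (psi t L0 hc) ⟨x, hx⟩).symm ▸ inv_mem a
  have r2 : O.G0 ≤ (psi t L0 hc).range := by
    rw [← gen, closure_le]
    rintro _ ⟨i, c, rfl⟩
    exact ⟨_, pz i c (subset_closure ⟨i, c, rfl⟩)⟩
  have hle : ⁅L0, L0⁆ ≤ L0 := commutator_le.2 fun a ha b hb =>
    mul_mem (mul_mem (mul_mem ha hb) (inv_mem ha)) (inv_mem hb)
  have hc1 : ∀ x ∈ ⁅L0, L0⁆, ∀ y ∈ ⁅L0, L0⁆, Commute x (t * y * t⁻¹) := fun x hx y hy => hc x (hle hx) y (hle hy)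
  have r3 : (psi t _ hc1).range = O.G0 := by
    refine le_antisymm (by rintro _ ⟨x, rfl⟩; exact r1 ⟨x, hle x.2⟩)
      ((perf_G0 O h.braid h.simple).trans (commutator_le.2 fun a ha b hb => ?_))
    obtain ⟨a, rfl⟩ := r2 ha
    obtain ⟨b, rfl⟩ := r2 hb
    exact ⟨⟨_, commutator_mem_commutator a.2 b.2⟩, map_commutatorElement (psi t L0 hc) a b⟩
  have ker : ∀ x ∈ L0, x * (t * x * t⁻¹) = 1 → ∀ y ∈ L0, Commute y x := fun x hx e y hy => by
    rw [eq_inv_of_mul_eq_one_left e]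
    exact (hc y hy x hx).inv_right
  have dec : ∀ a ∈ L0, ∃ a1 ∈ ⁅L0, L0⁆, ∃ k, (∀ y ∈ L0, Commute y k) ∧ a = a1 * k := fun a ha => by
    obtain ⟨⟨a1, m⟩, e⟩ := r3.ge (r1 ⟨a, ha⟩)
    refine ⟨a1, m, a1⁻¹ * a, ker _ (mul_mem (inv_mem (hle m)) ha) ?_, by group⟩
    change psi t L0 hc (⟨a1, hle m⟩⁻¹ * ⟨a, ha⟩) = 1
    rw [map_mul, map_inv, ← e]
    exact inv_mul_cancel _
  have inj := hm _ (psi t _ hc1) r3 (fun x hx => mem_center_iff.2 fun y =>
    Subtype.ext (ker x (hle x.2) hx y (hle y.2)).eq) (commutator_le.2 fun a ha b hb => by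
      obtain ⟨a1, m1, k, hk, e1⟩ := dec a ha
      obtain ⟨b1, m2, l, hl, e2⟩ := dec b hb
      have : ⁅a, b⁆ = ⁅a1, b1⁆ := by
        calc ⁅a, b⁆ = a1 * (k * b * k⁻¹) * a1⁻¹ * b⁻¹ := by rw [e1, commutatorElement_def]; group
          _ = a1 * b1 * (l * a1⁻¹ * l⁻¹) * b1⁻¹ := by rw [(hk b hb).symm.mul_inv_cancel, e2]; group
          _ = _ := by rw [(hl _ (inv_mem (hle m1))).symm.mul_inv_cancel, commutatorElement_def]
      exact this ▸ commutator_mem_commutator m1 m2)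
  exact ⟨_, (MonoidHom.ofInjective inj).trans (MulEquiv.subgroupCongr r3), hc1, fun x => rfl⟩

theorem Sit.prod_end (h : Sit O t) {L1 : Subgroup G} (e : L1 ≃* O.G0)
    (hc : ∀ x ∈ L1, ∀ y ∈ L1, Commute x (t * y * t⁻¹)) (he : ∀ x : L1, (e x : G) = x * (t * x * t⁻¹)) :
    ∃ G1 Uh, End t (Nat.card K) G1 Uh t ∧ Nonempty (G1 ≃* O.G0 × O.G0) := by
  let f : O.G0 →* G := L1.subtype.comp e.symm.toMonoidHom
  have fm : ∀ x, f x ∈ L1 := fun x => (e.symm x).2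
  have fi : Function.Injective f := L1.subtype_injective.comp e.symm.injective
  obtain ⟨Φ, hΦ⟩ : ∃ Φ : O.G0 × O.G0 →* G, ∀ x y, Φ (x, y) = f x * (t * f y * t⁻¹) :=
    ⟨f.noncommCoprod ((MulAut.conj t).toMonoidHom.comp f) fun x y => hc _ (fm x) _ (fm y), fun _ _ => rfl⟩
  have ti := h.toSit0.t_inv
  have sw : ∀ x y, t * Φ (x, y) * t⁻¹ = Φ (y, x) := fun x y => by
    rw [hΦ, hΦ, (hc _ (fm y) _ (fm x)).eq, ← conj_mul]
    congr 1
    rw [ti, ← mul_assoc, ← mul_assoc, h.t2, one_mul, mul_assoc, h.t2, mul_one]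
  have inj : Function.Injective Φ := (injective_iff_map_eq_one Φ).2 fun ⟨x, y⟩ e1 => by
    rw [hΦ] at e1
    have hx : x = 1 := Subtype.ext (eq_one_of_cent O h.braid x.2 fun z hz => by
      have : Commute (f ⟨z, hz⟩) (f x) := by
        rw [eq_inv_of_mul_eq_one_left e1]
        exact (hc _ (fm _) _ (fm y)).inv_right
      exact congrArg Subtype.val (fi (a₁ := x * ⟨z, hz⟩) (a₂ := ⟨z, hz⟩ * x) (by rw [map_mul, map_mul, this.eq])))
    rw [hx, map_one, one_mul, conj_eq_one_iff, map_eq_one_iff f fi] at e1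
    rw [hx, e1]; rfl
  have t2 : ∀ x y : O.G0, T2 (x : G) → T2 (y : G) → T2 (Φ (x, y)) := fun x y ⟨k, hk⟩ ⟨l, hl⟩ =>
    ⟨k + l, by
      rw [← map_pow, Prod.pow_mk, show x ^ 2 ^ (k + l) = 1 from Subtype.ext (by
        rw [coe_pow, pow_add, pow_mul, hk, one_pow]; rfl), show y ^ 2 ^ (k + l) = 1 from Subtype.ext (by
        rw [coe_pow, pow_add, mul_comm, pow_mul, hl, one_pow]; rfl)]
      exact map_one Φ⟩
  let Uh := ((O.U.subgroupOf O.G0).prod (O.U.subgroupOf O.G0)).map Φ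
  have mU : ∀ x y : O.G0, (x : G) ∈ O.U → (y : G) ∈ O.U → Φ (x, y) ∈ Uh := fun x y hx hy => ⟨(x, y), ⟨hx, hy⟩, rfl⟩
  have pU := O.isPGroup_pat all12
  refine ⟨Φ.range, Uh, ⟨⟨1, by simp⟩, ?_, map_le_range _ _, isPGroup_of_T2 ?_, fun P hP h2 hU => ?_,
    Tech.mem_normalizer_of_forall ?_, ?_, ?_, ?_⟩, ⟨(MonoidHom.ofInjective inj).symm⟩⟩
  · have : (⊤ : Subgroup O.G0) = ⁅(⊤ : Subgroup O.G0), (⊤ : Subgroup O.G0)⁆ := by
      apply map_injective O.G0.subtype_injective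
      rw [map_commutator, ← MonoidHom.range_eq_map, range_subtype]
      exact le_antisymm (perf_G0 O h.braid h.simple) (commutator_le.2 fun a ha b hb =>
        mul_mem (mul_mem (mul_mem ha hb) (inv_mem ha)) (inv_mem hb))
    rw [MonoidHom.range_eq_map, ← map_commutator, ← top_prod_top, commutator_prod_prod, ← this]
  · rintro _ ⟨⟨x, y⟩, ⟨hx, hy⟩, rfl⟩
    exact t2 x y (T2.of_mem pU hx) (T2.of_mem pU hy)
  · have key : ∀ π : O.G0 × O.G0 →* O.G0, (∀ x, π (x, x) = x) → ∀ p, Φ p ∈ P → (π p : G) ∈ O.U := fun π hπ p hp => by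
      have := O.syl_G0 h.braid (((h2.comap_of_injective Φ inj).map π).map O.G0.subtype) (map_subtype_le _)
        fun u hu => ⟨_, ⟨(⟨u, pat_le_G0 O _ hu⟩, ⟨u, pat_le_G0 O _ hu⟩), hU (mU _ _ hu hu), rfl⟩,
          congrArg Subtype.val (hπ _)⟩
      exact this ▸ ⟨_, ⟨p, hp, rfl⟩, rfl⟩
    refine le_antisymm (fun g hg => ?_) hU
    obtain ⟨⟨x, y⟩, rfl⟩ := hP hg
    exact mU x y (key (MonoidHom.fst _ _) (fun _ => rfl) _ hg) (key (MonoidHom.snd _ _) (fun _ => rfl) _ hg)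
  · rintro _ ⟨⟨x, y⟩, ⟨hx, hy⟩, rfl⟩
    rw [sw]; exact mU y x hy hx
  · rintro _ ⟨⟨x, y⟩, ⟨hx, hy⟩, rfl⟩ e1
    have e2 : Φ (x * y, y * x) = 1 := by
      rw [← Prod.mk_mul_mk, map_mul, ← sw x y, ti, ← e1]; group
    have e3 : x * y = 1 := congrArg Prod.fst ((map_eq_one_iff Φ inj).1 e2)
    refine ⟨Φ (x, 1), mU x 1 hx (one_mem _), ?_⟩
    rw [hΦ, hΦ, eq_inv_of_mul_eq_one_right e3, map_one, map_inv, mul_one, mul_inv_cancel, mul_one]
    group
  · rintro _ ⟨⟨x, y⟩, rfl⟩ e1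
    have e2 := (map_eq_one_iff Φ inj).1 ((map_mul Φ _ _).trans e1)
    obtain ⟨a, ha, b, hb, a2, b2, a3, b3, e3⟩ := cb_L O h.braid x x.2 (congrArg (fun p => (p.1 : G)) e2)
    obtain ⟨c, hc, d, hd, c2, d2, c3, d3, e4⟩ := cb_L O h.braid y y.2 (congrArg (fun p => (p.2 : G)) e2)
    have cm : ∀ a c : O.G0, Commute (a : G) x → Commute (c : G) y → Commute (Φ (a, c)) (Φ (x, y)) :=
      fun a c h1 h2 => Commute.map (Prod.ext (Subtype.ext h1) (Subtype.ext h2) : (a, c) * (x, y) = (x, y) * (a, c)) Φ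
    refine ⟨Φ (⟨a, ha⟩, ⟨c, hc⟩), ⟨_, rfl⟩, Φ (⟨b, hb⟩, ⟨d, hd⟩), ⟨_, rfl⟩, t2 _ _ a2 c2, t2 _ _ b2 d2,
      cm ⟨a, ha⟩ ⟨c, hc⟩ a3 c3, cm ⟨b, hb⟩ ⟨d, hd⟩ b3 d3, ?_⟩
    rw [← map_commutatorElement]
    exact congrArg Φ (Prod.ext (Subtype.ext e3) (Subtype.ext e4))
  · rw [← card_U O.toOC]
    refine card_le_of_le fun u hu => mem_inf.2 ⟨?_, mem_centralizer_singleton_iff.2
      (h.tC u (pat_le_G0 O _ hu)).symm.eq⟩
    have := mU ⟨u, pat_le_G0 O _ hu⟩ ⟨u, pat_le_G0 O _ hu⟩ hu hu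
    rwa [hΦ, show f _ * (t * f _ * t⁻¹) = u from (he _).symm.trans (congrArg Subtype.val (e.apply_symm_apply _))] at this

end CfsgLib.RF4
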