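import Mathlib
import Cfsg.Agent.Lib.RF4.Zb
import Cfsg.Agent.Lib.RF4.Hat

set_option autoImplicit false
set_option Elab.async false

namespace CfsgLib.RF4

open Subgroup CfsgLib.F42
open scoped commutatorElement

/-! # The hats of `x5` (package YH1) -/

variable {K : Type*} [Field K] [Finite K] {G : Type*} [Group G] [Finite G] {σ : K →+* K} {sz : Sz K} {O : OP σ sz G} {t : G} {zh : K × K → G}

/-- the elements centralising `X7` and the odd part which move `t` inside `t E2` -/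
def G7 (O : OP σ sz G) (t : G) : Subgroup G where
  carrier := {g | (∀ x ∈ O.pat X7, Commute g x) ∧ CO O t g ∧ ∃ l ∈ O.E2, g * t * g⁻¹ = t * l}
  one_mem' := ⟨fun _ _ => Commute.one_left _, fun _ _ => Commute.one_left _, 1, one_mem _, by simp⟩
  mul_mem' := by
    rintro a b ⟨a1, a2, l, hl, a3⟩ ⟨b1, b2, l', hl', b3⟩
    refine ⟨fun x hx => (a1 x hx).mul_left (b1 x hx), a2.mul b2, l * l', mul_mem hl hl', ?_⟩
    calc a * b * t * (a * b)⁻¹ = a * (b * t * b⁻¹) * a⁻¹ := by group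
      _ = a * t * a⁻¹ * (a * l' * a⁻¹) := by rw [b3]; group
      _ = _ := by rw [a3, (a1 l' (O.pat_mono (by decide) hl')).eq]; group
  inv_mem' := by
    rintro a ⟨a1, a2, l, hl, a3⟩
    refine ⟨fun x hx => (a1 x hx).inv_left, a2.inv, l⁻¹, inv_mem hl, ?_⟩
    calc a⁻¹ * t * a⁻¹⁻¹ = a⁻¹ * (t * l) * a * (a⁻¹ * l⁻¹ * a) := by group
      _ = _ := by rw [← a3, (a1 l (O.pat_mono (by decide) hl)).inv_inv.eq]; group

/-- the kernel of the character `6` -/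
def H5 (O : OP σ sz G) : Subgroup G := (O.h.comp ((powMonoidHom 2).prod invMonoidHom)).range

omit [Finite K] [Finite G] in
theorem H5_le : H5 O ≤ O.H := by rintro _ ⟨α, rfl⟩; exact ⟨_, rfl⟩

omit [Finite K] [Finite G] in
theorem y1_H_comm {a b : G} (ha : a ∈ O.H) (hb : b ∈ O.H) : Commute a b := by
  obtain ⟨a, rfl⟩ := ha
  obtain ⟨b, rfl⟩ := hb
  exact (Commute.all a b).map O.h

omit [Finite K] [Finite G] in
theorem y1_tw {S T : List (Fin 12)} {α β : Kˣ} (hc : Cl S T T) (hj : ∀ j ∈ S, j ∈ T ∨ chi σ j α β = 1) {l : G}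
    (hl : l ∈ O.pat S) : l⁻¹ * (O.h (α, β) * l * (O.h (α, β))⁻¹) ∈ O.pat T := by
  refine O.pat_ind (p := fun l => l⁻¹ * (O.h (α, β) * l * (O.h (α, β))⁻¹) ∈ O.pat T) hl (by simp [one_mem])
    (fun j k s => ?_) fun a _ b hb e1 e2 => ?_
  · rw [O.h_g]
    rcases hj j k with e | e
    · exact mul_mem (inv_mem (O.g_mem e _)) (O.g_mem e _)
    · simp [e, one_mem]
  · have := mul_mem (O.conj_mem hc (inv_mem hb) e1) e2
    convert this using 1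
    group

omit [Finite K] [Finite G] in
theorem G7_comm {a b : G} (ha : a ∈ G7 O t) (hb : b ∈ G7 O t) : Commute ⁅a, b⁆ t := by
  obtain ⟨a1, -, l, hl, a3⟩ := inv_mem ha
  obtain ⟨b1, -, l', hl', b3⟩ := inv_mem hb
  have k : ∀ {a b l l' : G}, a * t * a⁻¹ = t * l → b * t * b⁻¹ = t * l' → Commute a l' →
      a * b * t * (a * b)⁻¹ = t * (l * l') := fun {a b l l'} a3 b3 c => by
    calc a * b * t * (a * b)⁻¹ = a * (b * t * b⁻¹) * a⁻¹ := by group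
      _ = a * t * a⁻¹ * (a * l' * a⁻¹) := by rw [b3]; group
      _ = _ := by rw [a3, c.eq]; group
  have e := k a3 b3 (a1 l' (O.pat_mono (by decide) hl'))
  rw [(O.commute_pat (by decide) hl hl').eq, ← k b3 a3 (b1 l (O.pat_mono (by decide) hl))] at e
  calc ⁅a, b⁆ * t = a * b * (a⁻¹ * b⁻¹ * t * (a⁻¹ * b⁻¹)⁻¹) * (a⁻¹ * b⁻¹) := by simp only [commutatorElement_def]; group
    _ = t * ⁅a, b⁆ := by rw [e]; simp only [commutatorElement_def]; group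

omit [Finite K] in
theorem G7_two (hq : ∀ g ∈ G7 O t, Odd (orderOf g) → Od O t g) {g : G} (hg : g ∈ G7 O t) :
    ∃ g' ∈ G7 O t, T2 g' ∧ g' * t * g'⁻¹ = g * t * g⁻¹ := by
  obtain ⟨m, k, -, h2, a, b, ho, e⟩ := exists_split g
  refine ⟨g ^ (m * a), pow_mem hg _, pow_mul g m a ▸ h2.pow a, ?_⟩
  have c := (hq _ (pow_mem hg _) ho).ct.eq
  generalize g ^ (m * a) = x, g ^ (2 ^ k * b) = y at e c ⊢
  rw [e, mul_assoc x y, c]
  group

namespace Sit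

variable (h : Sit O t)
include h

theorem G7_od {g : G} (hg : g ∈ G7 O t) (ho : Odd (orderOf g)) : Od O t g := by
  obtain ⟨a1, -, l, hl, a3⟩ := hg
  exact h.od_of_X6 ho (odd_fix ho a3 (a1 l (O.pat_mono (by decide) hl)) (T2.of_mem (O.isPGroup_pat _) hl))
    fun x hx => a1 x (O.pat_mono (by decide) hx)

theorem exists_W7 : ∃ W : Subgroup G, IsPGroup 2 W ∧ ∀ g, g ∈ W ↔ g ∈ G7 O t ∧ T2 g :=
  exists_two fun _ hg ho _ hx => (hx.2.1 _ (h.G7_od hg ho)).symm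

theorem G7_ker {b : G} (hb : b ∈ G7 O t) (h2 : T2 b) (hc : Commute b t) : ∃ l ∈ O.E2, b = l ∨ b = t * l := by
  obtain ⟨l, hl, o, ho, e⟩ := h.cen_X7 b hc hb.1
  have l2 := T2.of_mem (O.isPGroup_pat _) hl
  have l0 := pat_le_G0 O _ hl
  refine ⟨l, hl, e.imp (fun e => ?_) fun e => ?_⟩
  · rw [e, T2.odd_eq_one (e ▸ h2) l2 (ho.cen l l0).symm ho.odd, mul_one]
  · rw [e, T2.odd_eq_one (e ▸ h2) ((T2.of_sq h.t2).mul l2 (h.tC l l0))
      (ho.ct.mul_right (ho.cen l l0)).symm ho.odd, mul_one]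

theorem G7_conj {y g : G} (hy : y ∈ O.H) (hg : g ∈ G7 O t) : y * g * y⁻¹ ∈ G7 O t := by
  obtain ⟨a1, a2, l, hl, a3⟩ := hg
  have y0 := O.H_le_G0 hy
  refine ⟨fun x hx => ?_, (CO.of_mem y0).conj a2, y * l * y⁻¹, (mem_normalizer_iff.1 (O.h_norm _ hy) l).1 hl, ?_⟩
  · simpa [mul_assoc] using (a1 _ ((mem_normalizer_iff.1 (O.h_norm _ (inv_mem hy)) x).1 hx)).conj y
  · calc y * g * y⁻¹ * t * (y * g * y⁻¹)⁻¹ = y * (g * (y⁻¹ * t * y) * g⁻¹) * y⁻¹ := by group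
      _ = _ := by rw [← (h.tC y y0).inv_right.eq, inv_mul_cancel_right, a3, ← mul_assoc, ← (h.tC y y0).eq]; group

theorem hatD {W : Subgroup G} (hW : ∀ g, g ∈ W ↔ g ∈ G7 O t ∧ T2 g)
    (hn : ∃ b ∈ W ⊓ centralizer (H5 O : Set G), ¬ Commute b t) :
    HatD (O.g 6) (W ⊓ centralizer (H5 O : Set G)) O.H t := by
  obtain ⟨α, hα⟩ := h.big.unit
  have f6 : ∀ l ∈ O.E2, Commute l (O.h (α ^ 2, α⁻¹)) → ∃ r, l = O.g 6 r := fun l hl c =>
    (mem_single O.toOC (by decide)).1 (cent_h O.toOT (fun j hj => chi_H5_ne O.toOC hα (by simpa using hj))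
      (O.pat_le_U _ hl) c)
  have c5 : ∀ b ∈ W ⊓ centralizer (H5 O : Set G), Commute b (O.h (α ^ 2, α⁻¹)) := fun b hb =>
    (mem_centralizer_iff.1 hb.2 _ ⟨α, rfl⟩).symm
  have t5 := h.tC _ (h_mem_G0 O (α ^ 2, α⁻¹))
  have nW : ∀ y ∈ O.H, ∀ b ∈ W ⊓ centralizer (H5 O : Set G), y * b * y⁻¹ ∈ W ⊓ centralizer (H5 O : Set G) :=
    fun y hy b hb => ⟨(hW _).2 ⟨h.G7_conj hy ((hW _).1 hb.1).1, ((hW _).1 hb.1).2.conj y⟩,
      mul_mem (mul_mem (mem_centralizer_iff.2 fun x hx => y1_H_comm (H5_le hx) hy) hb.2)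
        (mem_centralizer_iff.2 fun x hx => y1_H_comm (H5_le hx) (inv_mem hy))⟩
  exact
  { two := O.two
    big := four_lt O.toOC h.big
    add := fun r s => (O.a6 r s).symm
    inj := fun r => O.g_eq_one.1
    odd := fun y hy => O.br_odd hy
    t2 := h.t2
    tJ := ⟨(hW _).2 ⟨⟨fun x hx => h.tC x (pat_le_G0 O _ hx), .self O t, 1, one_mem _, by simp⟩, .of_sq h.t2⟩,
      mem_centralizer_iff.2 fun x hx => (h.tC x (O.H_le_G0 (H5_le hx))).symm⟩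
    tX := fun r e => h.t_not_mem (e ▸ g_mem_G0 O 6 r)
    XJ := fun r => ⟨(hW _).2 ⟨⟨fun x hx => O.commute_pat (A := [6]) (by decide) (O.g_mem (by decide) r) hx,
      .of_mem (g_mem_G0 O 6 r), 1, one_mem _, by simp [← (h.tg 6 r).eq]⟩, .of_mem (O.isPGroup_pat _) (O.g_mem_U 6 r)⟩,
      mem_centralizer_iff.2 (by
        rintro _ ⟨β, rfl⟩
        exact mul_inv_eq_iff_eq_mul.1 ((O.h_g (β ^ 2) β⁻¹ 6 r).trans (by simp [chi_H5 O.toOC])))⟩
    cX := fun b hb r => ((hW _).1 hb.1).1.1 _ (O.g_mem (by decide) r)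
    TJ := fun y hy => mem_normalizer_iff.2 fun b => ⟨nW y hy b, fun k => by
      simpa [mul_assoc] using nW _ (inv_mem hy) _ k⟩
    Tt := fun y hy => (h.tC y (O.H_le_G0 hy)).symm
    TX := by rintro _ ⟨⟨α, β⟩, rfl⟩; exact ⟨_, O.h_g α β 6⟩
    TX' := fun l hl => by
      obtain ⟨α, β, rfl⟩ := chi_surj O.toOC 6 hl
      exact ⟨_, ⟨_, rfl⟩, O.h_g α β 6⟩
    mv := fun b hb => by
      obtain ⟨l, hl, e⟩ := ((hW _).1 hb.1).1.2.2
      obtain ⟨r, rfl⟩ := f6 l hl (by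
        rw [show l = t⁻¹ * (b * t * b⁻¹) by rw [e]; group]
        exact t5.inv_left.mul_left (((c5 b hb).mul_left t5).mul_left (c5 b hb).inv_left))
      exact ⟨r, e⟩
    ne := hn
    ker := fun b hb hc => by
      obtain ⟨l, hl, rfl | rfl⟩ := h.G7_ker ((hW _).1 hb.1).1 ((hW _).1 hb.1).2 hc
      · exact (f6 b hl (c5 b hb)).imp fun _ => .inl
      · obtain ⟨r, rfl⟩ := f6 l hl (by simpa using t5.inv_left.mul_left (c5 _ hb))
        exact ⟨r, .inr rfl⟩ }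

/-- the hats of `x5` commute with the hats of `x4`, `x6` -/
theorem y1_comm {W : Subgroup G} (hW : ∀ g, g ∈ W ↔ g ∈ G7 O t ∧ T2 g)
    (d : HatD (O.g 6) (W ⊓ centralizer (H5 O : Set G)) O.H t) {z : K × K → G} {i j : Fin 12}
    (hij : (i, j) ∈ [((5 : Fin 12), (8 : Fin 12)), (8, 5)]) (za : ∀ p p', z (p + p') = z p * z p')
    (zi : ∀ p, (z p)⁻¹ = z p) (zW : ∀ p, z p ∈ W)
    (hz : ∀ α β p, O.h (α, β) * z p * (O.h (α, β))⁻¹ = z (chi σ i α β • p))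
    (h5 : ∀ β : Kˣ, ∃ α : Kˣ, chi σ i (α ^ 2) α⁻¹ = β ∧ chi σ j (α ^ 2) α⁻¹ = (β : K)⁻¹)
    (h6 : ∃ α β, chi σ i α β = 1 ∧ chi σ 6 α β ≠ 1) {f : G} (hf : f ∈ ⁅W ⊓ centralizer (H5 O : Set G), O.H⁆)
    (p : K × K) : Commute f (z p) := by
  obtain ⟨jX, jc, jH⟩ : j ∈ X7 ∧ Cl [5, 8] [j] [j] ∧ j ∈ JH := by clear hz h5 h6; revert i j; decide
  have cX : ∀ g ∈ W, ∀ x ∈ O.pat X7, Commute g x := fun g hg => ((hW g).1 hg).1.1
  have nX : ∀ g ∈ W, ∀ S : List (Fin 12), (∀ k ∈ S, k ∈ X7) → g ∈ normalizer (O.pat S : Set G) := fun g hg S hS =>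
    centralizer_le_normalizer _ (mem_centralizer_iff.2 fun x hx => (cX g hg x (O.pat_mono hS hx)).symm)
  have c5 : ∀ f ∈ ⁅W ⊓ centralizer (H5 O : Set G), O.H⁆, ∀ α : Kˣ, Commute f (O.h (α ^ 2, α⁻¹)) := fun b hb α =>
    (mem_centralizer_iff.1 (d.le hb).2 _ ⟨α, rfl⟩).symm
  have s1 : ∀ f ∈ ⁅W ⊓ centralizer (H5 O : Set G), O.H⁆, ∀ p, ⁅f, z p⁆ ∈ O.V := fun f hf p => by
    obtain ⟨β, hβ⟩ := h.big.unit
    obtain ⟨α, e, -⟩ := h5 β
    have b0 : (1 + β : K) ≠ 0 := fun k => hβ (Units.ext (O.add_eq_zero.1 k).symm)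
    have fW : f ∈ W := (d.le hf).1
    have k := kill (D := O.V) (c5 f hf α) (nX _ (zW ((1 + β : K)⁻¹ • p)) _ (by decide)) (by
      have m := (hW _).1 (mul_mem (mul_mem (mul_mem fW (zW ((1 + β : K)⁻¹ • p))) (inv_mem fW)) (inv_mem (zW ((1 + β : K)⁻¹ • p))))
      rw [← commutatorElement_def] at m
      obtain ⟨l, hl, e⟩ := h.G7_ker m.1 m.2 (G7_comm ((hW _).1 fW).1 ((hW _).1 (zW _)).1)
      have k := y1_tw (T := [5, 8]) (α := α ^ 2) (β := α⁻¹) (by decide) (by simp [chi_H5 O.toOC]) hl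
      rcases e with e | e <;> rw [e]
      · exact k
      · convert k using 1
        rw [← mul_assoc (O.h _), ← (h.tC _ (h_mem_G0 O _)).eq]
        group)
    rwa [hz, zi, ← za, e, smul_smul, ← add_smul, ← one_add_mul, mul_inv_cancel₀ b0, one_smul] at k
  have s2 : ∀ p, ⁅f, z p⁆ ∈ O.pat [j] := fun p => by
    obtain ⟨α, β, e, e6⟩ := h6
    have b0 : 1 + chi σ 6 α β ≠ 0 := fun k => e6 (O.add_eq_zero.1 k).symm
    obtain ⟨r, e1⟩ := d.mv f (d.le hf)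
    obtain ⟨f1, hf1, e2⟩ := d.surj ((1 + chi σ 6 α β)⁻¹ * r)
    have m := mul_mem (inv_mem hf1) ((mem_normalizer_iff.1 (norm_commutator (d.TJ ⟨(α, β), rfl⟩)
      (O.H.le_normalizer ⟨(α, β), rfl⟩)) f1).1 hf1)
    have ty := h.tC _ (h_mem_G0 O (α, β))
    have c1 := d.cX f1 (d.le hf1)
    obtain ⟨s, hs⟩ := d.ker' (mul_mem (inv_mem m) hf) (by
      have e3 : f1⁻¹ * (O.h (α, β) * f1 * (O.h (α, β))⁻¹) * t * (f1⁻¹ * (O.h (α, β) * f1 * (O.h (α, β))⁻¹))⁻¹ =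
          f * t * f⁻¹ := by
        calc _ = f1⁻¹ * (O.h (α, β) * (f1 * ((O.h (α, β))⁻¹ * t * O.h (α, β)) * f1⁻¹) * (O.h (α, β))⁻¹) * f1 := by group
          _ = f1⁻¹ * (t * (O.h (α, β) * O.g 6 ((1 + chi σ 6 α β)⁻¹ * r) * (O.h (α, β))⁻¹)) * f1 := by
            rw [← ty.inv_right.eq, inv_mul_cancel_right, e2, ← mul_assoc (O.h _), ← ty.eq]; group
          _ = f1⁻¹ * (t * O.g 6 ((1 + chi σ 6 α β)⁻¹ * r)) * O.g 6 r * f1 := by
            rw [O.h_g, mul_assoc f1⁻¹ _ (O.g 6 r), mul_assoc t, O.a6]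
            congr 4
            have := O.two
            field_simp
            linear_combination (-r) * this
          _ = _ := by rw [← e2, e1, mul_assoc, ← (c1 r).eq]; group
      generalize f1⁻¹ * (O.h (α, β) * f1 * (O.h (α, β))⁻¹) = x at e3 ⊢
      calc x⁻¹ * f * t = x⁻¹ * (f * t * f⁻¹) * f := by group
        _ = _ := by rw [← e3]; group)
    have k := kill (D := O.pat [j]) (a := z p) (h := O.h (α, β))
      (mul_inv_eq_iff_eq_mul.1 (by rw [hz, e, one_smul])).symm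
      (nX _ (d.le hf1).1 _ (by simpa using jX))
      (y1_tw jc (by rw [← e]; fin_cases hij <;> simp)
        (commutatorElement_inv f1 (z p) ▸ inv_mem (s1 f1 hf1 p)))
    rw [← commutatorElement_inv]
    refine inv_mem ?_
    convert k using 1
    rw [eq_mul_of_inv_mul_eq hs]
    generalize f1⁻¹ * (O.h (α, β) * f1 * (O.h (α, β))⁻¹) = x
    calc ⁅z p, x * O.g 6 s⁆ = z p * x * (O.g 6 s * (z p)⁻¹ * (O.g 6 s)⁻¹) * x⁻¹ := by
          simp only [commutatorElement_def]; group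
      _ = _ := by rw [← (cX _ (zW p) _ (O.g_mem (by decide) s)).inv_left.eq, mul_inv_cancel_right]; rfl
  choose ψ hψ using fun x : K => (mem_single O.toOC jH).1 (s2 (x • p))
  have := na2 O.toOC h.big (ψ := ψ) (fun a b => O.g_inj j (by
    have e : O.g j (ψ a + ψ b) = O.g j (ψ a) * O.g j (ψ b) := by
      fin_cases hij
      exacts [(O.a8 _ _).symm, (O.a5 _ _).symm]
    rw [e, ← hψ, add_smul, za, ← hψ a]
    calc _ = ⁅f, z (a • p)⁆ * (z (a • p) * ⁅f, z (b • p)⁆ * (z (a • p))⁻¹) := by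
          simp only [commutatorElement_def]; group
      _ = _ := by rw [hψ b, (cX _ (zW _) _ (O.g_mem jX _)).eq, mul_inv_cancel_right]))
    (fun β a => O.g_inj j (by
      obtain ⟨α, e, e'⟩ := h5 β
      rw [← hψ, ← e', ← O.h_g, ← hψ, conjugate_commutatorElement, hz, e, smul_smul, ← (c5 f hf α).eq,
        mul_inv_cancel_right])) 1
  have e := hψ 1
  rwa [this, one_smul, O.g_zero, commutatorElement_eq_one_iff_commute] at e

end Sit

omit [Finite K] [Finite G] in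
theorem y1_chi8 (O : OP σ sz G) (j : Fin 12) (l : Kˣ) : chi σ j (l * su σ l) (su σ l)⁻¹ = wt8 σ j l := by
  have e := O.h_g (l * su σ l) (su σ l)⁻¹ j 1
  rw [O.h_h8, O.h8_g, mul_one, mul_one] at e
  exact (O.g_inj j e).symm

omit [Finite K] [Finite G] in
theorem P1.zh_G7 (h : P1 O t zh) (p : K × K) : zh p ∈ G7 O t :=
  ⟨fun x hx => h.cC p x (O.pat_le_C _ hx), h.co p, _, O.g_mem (by decide) _, h.mv p⟩

theorem P1.z8_G7 (h : P1 O t zh) (p : K × K) : c1 O (zh p) ∈ G7 O t :=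
  ⟨fun x hx => h.cR8 p x (O.pat_mono (by decide) hx), h.co8 p, _, O.g_mem (by decide) _, h.mv8 p⟩

theorem P1.exists_ys (h : P1 O t zh) : ∃ Yh c, YS O t zh Yh c := by
  obtain ⟨W, pW, hW⟩ := h.exists_W7
  have nW : ∀ y ∈ O.H, ∀ b ∈ W, y * b * y⁻¹ ∈ W := fun y hy b hb =>
    (hW _).2 ⟨h.G7_conj hy ((hW _).1 hb).1, ((hW _).1 hb).2.conj y⟩
  have w7 : ⁅O.g 11 1, c8 O (c1 O (zh (1, 0)))⁆ ∈ G7 O t :=
    ⟨h.cX7 (O.g_mem (by decide) _) _, ((CO.of_mem (g_mem_G0 O 11 1)).conj (h.co2 _)).mul (h.co2 _).inv, _,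
      (mem_E2_iff O.toOC).2 ⟨_, _, _, rfl⟩, h.mv_w 1 (1, 0)⟩
  obtain ⟨g, g7, g2, e⟩ := G7_two (fun _ => h.G7_od) (mul_mem w7 (mul_mem (h.zh_G7 (1, 0)) (h.z8_G7 (1, 0))))
  have e1 : g * t * g⁻¹ = t * O.g 6 1 := by
    have k := h.mv_w 1 (1, 0)
    have c := w7.1
    generalize ⁅O.g 11 1, c8 O (c1 O (zh (1, 0)))⁆ = w at e k c
    calc _ = w * (zh (1, 0) * (c1 O (zh (1, 0)) * t * (c1 O (zh (1, 0)))⁻¹) * (zh (1, 0))⁻¹) * w⁻¹ := by rw [e]; group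
      _ = w * (zh (1, 0) * t * (zh (1, 0))⁻¹ * (zh (1, 0) * O.g 8 1 * (zh (1, 0))⁻¹)) * w⁻¹ := by rw [h.mv8]; group
      _ = w * t * w⁻¹ * (w * (O.g 5 1 * O.g 8 1) * w⁻¹) := by
        rw [h.mv, (h.cC _ _ (O.g_mem_C 8 1)).eq]; group
      _ = _ := by
        rw [k, (c _ (mul_mem (O.g_mem (by decide) _) (O.g_mem (by decide) _))).eq, mul_inv_cancel_right, mul_assoc]
        simp only [O.col]
  have gW := (hW _).2 ⟨g7, g2⟩
  have nN : ∀ y ∈ O.H, ∀ b ∈ W ⊓ centralizer {t}, y * b * y⁻¹ ∈ W ⊓ centralizer {t} := fun y hy b hb =>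
    have ty := mem_centralizer_singleton_iff.2 (h.tC _ (O.H_le_G0 hy)).symm
    mem_inf.2 ⟨nW y hy b hb.1, mul_mem (mul_mem ty hb.2) (inv_mem ty)⟩
  obtain ⟨n, hn, cn⟩ := exists_fix (N := W ⊓ centralizer {t}) (T := H5 O) (pW.to_le inf_le_left)
    (fun y hy => O.br_odd (H5_le hy)) (fun y hy => mem_normalizer_iff.2 fun b => ⟨nN y (H5_le hy) b, fun k => by
      simpa [mul_assoc] using nN _ (inv_mem (H5_le hy)) _ k⟩) (g := g) (by
      rintro _ ⟨α, rfl⟩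
      refine mem_inf.2 ⟨mul_mem (inv_mem gW) (nW _ ⟨_, rfl⟩ _ gW), mem_centralizer_singleton_iff.2 ?_⟩
      change g⁻¹ * (O.h (α ^ 2, α⁻¹) * g * (O.h (α ^ 2, α⁻¹))⁻¹) * t = t * (g⁻¹ * (O.h (α ^ 2, α⁻¹) * g * (O.h (α ^ 2, α⁻¹))⁻¹))
      have ty := h.tC _ (h_mem_G0 O (α ^ 2, α⁻¹))
      have e6 : O.h (α ^ 2, α⁻¹) * O.g 6 1 * (O.h (α ^ 2, α⁻¹))⁻¹ = O.g 6 1 := by simp [O.h_g, chi_H5 O.toOC]
      generalize O.h (α ^ 2, α⁻¹) = y at ty e6
      calc _ = g⁻¹ * (y * (g * (y⁻¹ * t * y) * g⁻¹) * y⁻¹) * (y * g * y⁻¹) := by group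
        _ = g⁻¹ * (t * (y * O.g 6 1 * y⁻¹)) * (y * g * y⁻¹) := by
          rw [← ty.inv_right.eq, inv_mul_cancel_right, e1, ← mul_assoc y, ← ty.eq]; group
        _ = _ := by rw [e6, ← e1]; group)
  have d := h.hatD hW ⟨g * n, ⟨mul_mem gW hn.1, mem_centralizer_iff.2 fun y hy => (cn y hy).symm⟩,
    fun c => by
      have := c.mul_left (Commute.inv_left (mem_centralizer_singleton_iff.1 hn.2))
      rw [mul_inv_cancel_right] at this
      rw [this.eq, mul_inv_cancel_right, left_eq_mul, O.g_eq_one] at e1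
      exact one_ne_zero e1⟩
  obtain ⟨c, hc⟩ := d.exists_sq
  obtain ⟨l, hl⟩ := h.big.unit
  have y5 := fun f hf => h.y1_comm hW d (i := 5) (j := 8) (by decide) h.add h.inv
    (fun p => (hW _).2 ⟨h.zh_G7 p, .of_sq (h.sq p)⟩) h.hz (fun β => ⟨β, by simp [chi_H5 O.toOC]⟩)
    ⟨_, _, (y1_chi8 O 5 l).trans (wt8_five l),
      (y1_chi8 O 6 l).symm ▸ O.wt8_ne_one hl (by decide) (by decide)⟩ (f := f) hf
  have y8 := fun f hf => h.y1_comm hW d (i := 8) (j := 5) (by decide) h.add8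
    (fun p => inv_eq_of_mul_eq_one_right (h.sq8 p))
    (fun p => (hW _).2 ⟨h.z8_G7 p, .of_sq (h.sq8 p)⟩) h.hz8 (fun β => ⟨β⁻¹, by simp only [chi_H5 O.toOC]; simp⟩)
    ⟨_, l, (chi_H6 O.toOC l).2.2.2, by rw [(chi_H6 O.toOC l).2.2.1]; simpa using hl⟩ (f := f) hf
  refine ⟨_, c, { h with
    yle := O.pat_le.2 (by simpa using d.X_mem)
    cX := fun f hf => ((hW _).1 (d.le hf).1).1.1
    yco := fun f hf => ((hW _).1 (d.le hf).1).1.2.1
    ymv := hc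
    surj := d.surj
    ker := fun f hf c => (mem_single O.toOC (by decide)).2 (d.ker' hf c)
    comm := fun _ ha _ hb => d.comm ha hb
    nH := fun y hy => norm_commutator (d.TJ hy) (le_normalizer hy)
    c5 := fun f hf α => (mem_centralizer_iff.1 (d.le hf).2 _ ⟨α, rfl⟩).symm
    y5 := y5
    y8 := y8
    max := fun g g2 g1 g3 ⟨r, g4⟩ g5 g6 => (d.mem_or ⟨(hW _).2 ⟨⟨g1, g3, _, O.g_mem (by decide) _, g4⟩, g2⟩,
      mem_centralizer_iff.2 (by rintro _ ⟨α, rfl⟩; exact (g5 α).symm)⟩).resolve_right fun k =>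
        h.not_comm (by simpa using ((y5 _ k (1, 0)).mul_left (g6 _).inv_left).symm) }⟩

end CfsgLib.RF4
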