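import Mathlib
import Cfsg.Agent.Lib.RF4.Zb

set_option autoImplicit false
set_option Elab.async false

namespace CfsgLib.RF4

open Subgroup CfsgLib.F42
open scoped commutatorElement

/-! # The hats of `x5` are involutions (package YH2) -/

variable {K : Type*} [Field K] [Finite K] {G : Type*} [Group G] [Finite G] {σ : K →+* K} {sz : Sz K} {O : OP σ sz G} {t : G} {zh : K × K → G} {Yh : Subgroup G} {c : K}

theorem y2_comm_right {G : Type*} [Group G] {a b w : G} (h : Commute a w) : ⁅a, b * w⁆ = ⁅a, b⁆ := by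
  calc ⁅a, b * w⁆ = a * b * (w * a⁻¹ * w⁻¹) * b⁻¹ := by simp only [commutatorElement_def]; group
    _ = _ := by rw [← h.inv_left.eq, mul_inv_cancel_right]; rfl

theorem y2_comm_t {G : Type*} [Group G] {a b t : G} (h : a * t * a⁻¹ = b * t * b⁻¹) : Commute (a⁻¹ * b) t := by
  calc a⁻¹ * b * t = a⁻¹ * (b * t * b⁻¹) * b := by group
    _ = _ := by rw [← h]; group

theorem y2_invert {G : Type*} [Group G] {a b : G} (h : a * a = 1) : a * ⁅a, b⁆ * a⁻¹ = ⁅a, b⁆⁻¹ := by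
  rw [commutatorElement_inv, commutatorElement_def, commutatorElement_def, ← mul_assoc, ← mul_assoc, ← mul_assoc, h,
    inv_eq_of_mul_eq_one_right h, one_mul]

namespace YS

variable (h : YS O t zh Yh c)
include h

theorem y2_mul {f f' : G} (hf' : f' ∈ Yh) (a b a' b' : K × K) : f * zh a * c1 O (zh b) * (f' * zh a' * c1 O (zh b')) =
    f * f' * zh (a + a') * c1 O (zh (b + b')) := by
  rw [h.add, h.add8]
  calc _ = f * (zh a * (c1 O (zh b) * f')) * zh a' * c1 O (zh b') := by group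
    _ = f * f' * zh a * (c1 O (zh b) * zh a') * c1 O (zh b') := by
      rw [← (h.y8 f' hf' b).eq, ← mul_assoc (zh a), ← (h.y5 f' hf' a).eq]; group
    _ = _ := by rw [← (h.z58 a' b).eq]; group

theorem y2_inv {f : G} (hf : f ∈ Yh) (a b : K × K) : (f * zh a * c1 O (zh b))⁻¹ = f⁻¹ * zh a * c1 O (zh b) := by
  have e : ∀ p : K × K, p + p = 0 := fun p => Prod.ext (O.add_self _) (O.add_self _)
  refine inv_eq_of_mul_eq_one_right ?_
  rw [h.y2_mul (inv_mem hf), e, e, h.zero]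
  simp [c1]

/-- the group generated by the hats of `x4`, `x5`, `x6` -/
def E7 : Subgroup G where
  carrier := {g | ∃ f ∈ Yh, ∃ a b, g = f * zh a * c1 O (zh b)}
  one_mem' := ⟨1, one_mem _, 0, 0, by simp [h.zero, c1]⟩
  mul_mem' := by
    rintro _ _ ⟨f, hf, a, b, rfl⟩ ⟨f', hf', a', b', rfl⟩
    exact ⟨_, mul_mem hf hf', _, _, h.y2_mul hf' a b a' b'⟩
  inv_mem' := by
    rintro _ ⟨f, hf, a, b, rfl⟩
    exact ⟨_, inv_mem hf, _, _, h.y2_inv hf a b⟩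

theorem E7_comm {x y : G} (hx : x ∈ h.E7) (hy : y ∈ h.E7) : Commute x y := by
  obtain ⟨f, hf, a, b, rfl⟩ := hx
  obtain ⟨f', hf', a', b', rfl⟩ := hy
  rw [Commute, SemiconjBy, h.y2_mul hf', h.y2_mul hf, (h.comm f hf f' hf').eq, add_comm a, add_comm b]

theorem f_E7 {f : G} (hf : f ∈ Yh) : f ∈ h.E7 := ⟨f, hf, 0, 0, by simp [h.zero, c1]⟩

theorem z_E7 (p : K × K) : zh p ∈ h.E7 := ⟨1, one_mem _, p, 0, by simp [h.zero, c1]⟩

theorem z8_E7 (p : K × K) : c1 O (zh p) ∈ h.E7 := ⟨1, one_mem _, 0, p, by simp [h.zero]⟩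

omit [Finite G] in
theorem y2_T2 {f : G} (hf : f ∈ Yh) : T2 f := by
  obtain ⟨r, -, e⟩ := h.ymv f hf
  exact T2.of_pow (k := 1) (by rw [pow_one, sq, e]; exact .of_mem (O.isPGroup_pat _) (O.g_mem_U 6 _))

theorem mv3 {f : G} {r : K} (hf : f ∈ Yh) (hr : f * t * f⁻¹ = t * O.g 6 r) (a b : K × K) :
    f * zh a * c1 O (zh b) * t * (f * zh a * c1 O (zh b))⁻¹ = t * (O.g 5 a.1 * (O.g 6 r * O.g 8 b.1)) := by
  calc _ = f * (zh a * (c1 O (zh b) * t * (c1 O (zh b))⁻¹) * (zh a)⁻¹) * f⁻¹ := by group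
    _ = f * (zh a * t * (zh a)⁻¹ * (zh a * O.g 8 b.1 * (zh a)⁻¹)) * f⁻¹ := by rw [h.mv8]; group
    _ = f * t * f⁻¹ * (f * (O.g 5 a.1 * O.g 8 b.1) * f⁻¹) := by rw [h.mv, (h.cC _ _ (O.g_mem_C 8 _)).eq]; group
    _ = _ := by
      rw [hr, (h.cX f hf _ (mul_mem (O.g_mem (by decide) _) (O.g_mem (by decide) _))).eq, mul_inv_cancel_right]
      simp only [O.col]

/-- location in the group generated by the hats of `x4`, `x5`, `x6` -/
theorem loc {g : G} (g1 : ∀ x ∈ O.pat X7, Commute g x) (g2 : Commute g (zh (1, 0)))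
    (g3 : ∃ l ∈ O.E2, g * t * g⁻¹ = t * l) (g4 : T2 g ∨ ∃ s, CO O t s ∧ s * g * s⁻¹ = g⁻¹) :
    ∃ f ∈ Yh, ∃ a b, g = f * zh a * c1 O (zh b) := by
  refine h.toSit.loc h.cen_X7 (Eh := h.E7) ?_ (O.pat_le.2 fun j hj s => ?_) ?_ ?_ (fun l hl => ?_) h.not_comm (h.co _)
    (fun e he => h.E7_comm (h.z_E7 _) he) g1 g2 g3 g4
  · rintro _ ⟨f, hf, a, b, rfl⟩
    exact ((h.y2_T2 hf).mul (.of_sq (h.sq a)) (h.y5 f hf a)).mul (.of_sq (h.sq8 b)) ((h.y8 f hf b).mul_left (h.z58 a b))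
  · fin_cases hj
    exacts [h.base s ▸ h.z_E7 _, h.f_E7 (h.yle (O.g_mem (by decide) s)), h.base8 s ▸ h.z8_E7 _]
  · rintro _ ⟨f, hf, a, b, rfl⟩ x hx
    exact ((h.cX f hf x hx).mul_left (h.cC a x (O.pat_le_C _ hx))).mul_left (h.cR8 b x (O.pat_mono (by decide) hx))
  · rintro _ ⟨f, hf, a, b, rfl⟩
    exact ((h.yco f hf).mul (h.co a)).mul (h.co8 b)
  · obtain ⟨a, r, b, rfl⟩ := (mem_E2_iff O.toOC).1 hl
    obtain ⟨f, hf, e⟩ := h.surj r
    exact ⟨_, ⟨f, hf, (a, 0), (b, 0), rfl⟩, h.mv3 hf e _ _⟩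

theorem ker3 {f : G} (hf : f ∈ Yh) {a b : K × K} (hc : Commute (f * zh a * c1 O (zh b)) t) :
    f * zh a * c1 O (zh b) ∈ O.E2 := by
  obtain ⟨r, e, -⟩ := h.ymv f hf
  have k := h.mv3 hf e a b
  rw [hc.eq, mul_inv_cancel_right, left_eq_mul] at k
  obtain ⟨e1, rfl, e2⟩ := E2_inj O.toOC (a' := 0) (b' := 0) (c' := 0) (by simpa [O.g_zero] using k)
  obtain ⟨a, a'⟩ := a
  obtain ⟨b, b'⟩ := b
  obtain rfl : a = 0 := e1
  obtain rfl : b = 0 := e2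
  rw [h.base, h.base8]
  exact mul_mem (mul_mem (O.pat_mono (by decide) (h.ker f hf (mul_inv_eq_iff_eq_mul.1 (by simpa [O.g_zero] using e))))
    (O.g_mem (by decide) _)) (O.g_mem (by decide) _)

theorem E7_ker {x : G} (hx : x ∈ h.E7) (hc : Commute x t) : x ∈ O.E2 := by
  obtain ⟨f, hf, a, b, rfl⟩ := hx
  exact h.ker3 hf hc

omit [Finite K] [Finite G] in
theorem y2_mvU {u f : G} (hu : u ∈ O.U) {r : K} (hr : f * t * f⁻¹ = t * O.g 6 r) :
    u * f * u⁻¹ * t * (u * f * u⁻¹)⁻¹ = t * (u * O.g 6 r * u⁻¹) := by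
  have tu := h.tC u (pat_le_G0 O _ hu)
  calc _ = u * (f * (u⁻¹ * t * u) * f⁻¹) * u⁻¹ := by group
    _ = _ := by rw [← tu.inv_right.eq, inv_mul_cancel_right, hr, ← mul_assoc u, ← tu.eq]; group

/-- conjugation by an element of `U` -/
theorem conj_U {u f : G} (hu : u ∈ O.U) (hf : f ∈ Yh) :
    ∃ f' ∈ Yh, ∃ a b, u * f * u⁻¹ = f' * zh a * c1 O (zh b) := by
  obtain ⟨r, e, -⟩ := h.ymv f hf
  have zu := (h.cC (1, 0) u (O.U_le_C hu)).symm
  refine h.loc (fun x hx => ?_) ((zu.mul_left (h.y5 f hf _)).mul_left zu.inv_left)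
    ⟨_, O.conj_mem (by decide) hu (O.g_mem (by decide) r), h.y2_mvU hu e⟩ (.inl ((h.y2_T2 hf).conj u))
  simpa [mul_assoc] using (h.cX f hf _ (O.conj_mem (by decide) (inv_mem hu) hx)).conj u

theorem conj_eq {u f : G} (hu : u ∈ O.U) (hf : f ∈ Yh) {r a : K} (hr : f * t * f⁻¹ = t * O.g 6 r)
    (ha : u * O.g 6 r * u⁻¹ = O.g 5 a * O.g 6 r) : ∃ e ∈ O.E2, u * f * u⁻¹ = f * (zh (a, 0) * e) := by
  have k := h.mv3 hf hr (a, 0) 0
  rw [h.zero, show c1 O 1 = 1 by simp [c1], mul_one, Prod.fst_zero, O.g_zero, mul_one, ← ha, ← h.y2_mvU hu hr] at k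
  exact ⟨_, h.E7_ker (mul_mem (inv_mem (mul_mem (h.f_E7 hf) (h.z_E7 _))) (h.conj_U hu hf)) (y2_comm_t k), by group⟩

theorem y2_Z {f : G} (hf : f ∈ Yh) (p : K × K) : ⁅c8 O (c1 O (zh p)), f⁆ ∈ O.Z := by
  obtain ⟨r, e, -⟩ := h.ymv f hf
  have zi := inv_eq_of_mul_eq_one_right (h.sq2 p)
  have cq := h.cQ2 p
  have mv := h.mv2 p
  have cz := fun p' => (h.z52 p' p).symm
  have c2 := h.conj2 (h.cX f hf) (h.y5 f hf) p
  generalize c8 O (c1 O (zh p)) = z at zi cq mv cz c2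
  have e1 : z * f * z⁻¹ * t * (z * f * z⁻¹)⁻¹ = f * t * f⁻¹ := by
    calc _ = z * (f * (z⁻¹ * t * z⁻¹⁻¹) * f⁻¹) * z⁻¹ := by group
      _ = z * t * z⁻¹ * (z * (O.g 6 r * O.g 2 p.1) * z⁻¹) := by
        rw [show z⁻¹ * t * z⁻¹⁻¹ = t * O.g 2 p.1 by rw [← mv, zi, zi], ← mul_assoc f, mul_assoc (f * t),
          ← (h.cX f hf _ (O.g_mem (by decide) _)).inv_left.eq, ← mul_assoc (f * t), e]
        group
      _ = _ := by
        rw [mv, e, (cq _ (mul_mem (O.g_mem (by decide) _) (O.g_mem (by decide) _))).eq, mul_inv_cancel_right]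
        simp only [O.col]
  have m : z * f * z⁻¹ ∈ h.E7 := h.loc c2 (((cz _).mul_left (h.y5 f hf _)).mul_left (cz _).inv_left)
    ⟨_, O.g_mem (by decide) r, e1.trans e⟩ (.inl ((h.y2_T2 hf).conj z))
  have k : ⁅z, f⁆ ∈ O.E2 := by
    rw [commutatorElement_def, (h.E7_comm m (inv_mem (h.f_E7 hf))).eq]
    exact h.E7_ker (mul_mem (inv_mem (h.f_E7 hf)) m) (y2_comm_t e1.symm)
  have fx : ∀ j ∈ [(0 : Fin 12), 1], ∀ a, O.g j 1 * O.g 6 r * (O.g j 1)⁻¹ = O.g 5 a * O.g 6 r →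
      Commute ⁅z, f⁆ (O.g j 1) := fun j hj a ha => by
    obtain ⟨l, hl, e2⟩ := h.conj_eq (O.g_mem_U j 1) hf e ha
    refine (mul_inv_eq_iff_eq_mul.1 ?_).symm
    rw [conjugate_commutatorElement, e2, ← (cq _ (O.g_mem (by clear ha e2; revert j; decide) 1)).eq, mul_inv_cancel_right,
      y2_comm_right ((cz _).mul_right (cq _ (O.pat_mono (by decide) hl)))]
  exact mem_Z_of_E2 O.toOC k (fx 0 (by decide) 0 (by simp only [O.col])) (fx 1 (by decide) r (by simp only [O.col]))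

theorem y2_y2 {f : G} (hf : f ∈ Yh) (p : K × K) : Commute f (c8 O (c1 O (zh p))) := by
  choose ψ hψ using fun x : K => O.mem_Z.1 (h.y2_Z hf (x • p))
  have := na3 O.toOC h.big (ψ := ψ) (fun a b => O.g_inj 5 (by
    rw [add_comm (ψ a), ← O.a5, ← hψ, add_smul, h.add2, ← hψ a]
    calc _ = c8 O (c1 O (zh (a • p))) * ⁅c8 O (c1 O (zh (b • p))), f⁆ * (c8 O (c1 O (zh (a • p))))⁻¹ *
          ⁅c8 O (c1 O (zh (a • p))), f⁆ := by simp only [commutatorElement_def]; group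
      _ = _ := by rw [hψ b, (h.cQ2 _ _ (O.g_mem (by decide) _)).eq, mul_inv_cancel_right]))
    (fun β a => O.g_inj 5 (by
      have e := O.h_g (β ^ 2) β⁻¹ 5 (ψ a)
      rw [← hψ, conjugate_commutatorElement, h.hz2, smul_smul, ← (h.c5 f hf β).eq, mul_inv_cancel_right, hψ] at e
      simpa [chi_H5 O.toOC] using e)) 1
  have e := hψ 1
  rw [this, one_smul, O.g_zero, commutatorElement_eq_one_iff_commute] at e
  exact e.symm

/-- the commutator of `x8(v)` with a hat of `x2` -/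
theorem y2_w (v : K) (p : K × K) : ∃ f ∈ Yh, ∃ a b, ⁅O.g 11 v, c8 O (c1 O (zh p))⁆ = f * zh a * c1 O (zh b) ∧
    f * t * f⁻¹ = t * O.g 6 (p.1 * v) ∧ b.1 = p.1 * σ v ∧ ⁅c8 O (c1 O (zh p)), c1 O (zh b)⁆ = O.g 6 (c * (p.1 * v)) := by
  have zi := inv_eq_of_mul_eq_one_right (h.sq2 p)
  have c1' := (h.cC (1, 0) _ (O.g_mem_C 11 v)).symm
  have c2 := (h.z52 (1, 0) p).symm
  have iw : c8 O (c1 O (zh p)) * ⁅O.g 11 v, c8 O (c1 O (zh p))⁆ * (c8 O (c1 O (zh p)))⁻¹ =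
      ⁅O.g 11 v, c8 O (c1 O (zh p))⁆⁻¹ := by
    simpa only [commutatorElement_inv, inv_inv, mul_inv_rev, mul_assoc] using
      congrArg (·⁻¹) (y2_invert (b := O.g 11 v) (h.sq2 p))
  obtain ⟨f, hf, a, b, e⟩ := h.loc (h.cX7 (O.g_mem (by decide) v) p)
    (((c1'.mul_left c2).mul_left c1'.inv_left).mul_left c2.inv_left)
    ⟨_, (mem_E2_iff O.toOC).2 ⟨_, _, _, rfl⟩, h.mv_w v p⟩ (.inr ⟨_, h.co2 p, iw⟩)
  obtain ⟨r, e1, e2⟩ := h.ymv f hf
  have k := h.mv_w v p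
  rw [e, h.mv3 hf e1, mul_right_inj] at k
  obtain ⟨-, rfl, k2⟩ := E2_inj O.toOC k
  refine ⟨f, hf, a, b, e, e1, k2, ?_⟩
  have cz := h.cR8 b _ (O.pat_mono (by decide) (h.e1 p b))
  rw [e, h.y2_inv hf, ← mul_assoc, ← mul_assoc, ← (h.y2_y2 hf p).eq, mul_assoc f, ← (h.z52 a p).eq] at iw
  rw [← O.i6, ← e2]
  generalize c8 O (c1 O (zh p)) = z at iw cz ⊢
  have := h.y5 f hf a
  calc ⁅z, c1 O (zh b)⁆ = (f * zh a)⁻¹ * (f * (zh a * z) * c1 O (zh b) * z⁻¹) * (c1 O (zh b))⁻¹ := by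
        simp only [commutatorElement_def]; group
    _ = (zh a)⁻¹ * (f⁻¹ * f⁻¹) * zh a := by rw [iw]; group
    _ = _ := by rw [← (this.inv_inv.mul_left this.inv_inv).eq]; group

theorem yt : YT O t zh Yh := by
  obtain rfl : c = 0 := by
    obtain ⟨f, -, a, b, -, -, -, e⟩ := h.y2_w 1 (1, 0)
    have k := h.e1 (1, 0) b
    rw [e, O.g_mem_iff (by decide) (by decide)] at k
    simpa using k
  refine { h with y2 := fun f hf => h.y2_y2 hf, z28 := fun ⟨a, a'⟩ p' => ?_, y11 := fun f' hf' v => ?_ }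
  · rcases eq_or_ne a 0 with rfl | ha
    · rw [h.base2]
      exact (h.cR8 p' _ (O.g_mem (by decide) _)).symm
    obtain ⟨v, hv⟩ := O.sig_surj (p'.1 / a)
    obtain ⟨f, -, -, b, -, -, e1, e⟩ := h.y2_w v (a, a')
    rw [zero_mul, O.g_zero, commutatorElement_eq_one_iff_commute] at e
    rw [show p' = b + (0, p'.2 - b.2) from Prod.ext (by simp [e1, hv, mul_div_cancel₀ _ ha]) (by simp), h.add8, h.base8]
    exact e.mul_right (h.cQ2 _ _ (O.g_mem (by decide) _))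
  · rcases eq_or_ne v 0 with rfl | hv
    · simp [O.g_zero]
    obtain ⟨r, e', -⟩ := h.ymv f' hf'
    obtain ⟨f, hf, a, b, e, e1, -⟩ := h.y2_w v (r / v, 0)
    rw [div_mul_cancel₀ _ hv, ← e'] at e1
    obtain ⟨s, -, e2⟩ := h.ymv f hf
    rw [zero_mul, O.g_zero] at e2
    have iw : O.g 11 v * ⁅O.g 11 v, c8 O (c1 O (zh (r / v, 0)))⁆ * (O.g 11 v)⁻¹ =
        ⁅O.g 11 v, c8 O (c1 O (zh (r / v, 0)))⁆⁻¹ := y2_invert (by simp only [O.col])
    rw [e, h.y2_inv hf, inv_eq_of_mul_eq_one_right e2, mul_inv_eq_iff_eq_mul] at iw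
    have k : Commute (O.g 11 v) f := by
      simpa using (Commute.mul_right iw (h.cR8 b _ (O.g_mem (by decide) v)).symm.inv_right).mul_right
        (h.cC a _ (O.g_mem_C 11 v)).symm.inv_right
    simpa using k.symm.mul_left (O.commute_pat (B := [11]) (by decide)
      (h.ker _ (mul_mem (inv_mem hf) hf') (y2_comm_t e1)) (O.g_mem (by decide) v))

end YS

end CfsgLib.RF4
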