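import Mathlib
import Cfsg.Agent.Lib.RF4.Yh2

set_option autoImplicit false
set_option Elab.async false
set_option linter.unusedSectionVars false

namespace CfsgLib.RF4

open Subgroup CfsgLib.F42
open scoped commutatorElement

/-! # Parametrisation of the hats of `x5` (package YH3) -/

variable {K : Type*} [Field K] [Finite K] {G : Type*} [Group G] [Finite G] {σ : K →+* K} {sz : Sz K} {O : OP σ sz G} {t : G} {zh : K × K → G} {Yh : Subgroup G}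

open ZBx

theorem y3_x08 (O : OP σ sz G) (u s : K) : O.g 0 u * O.g 8 s * (O.g 0 u)⁻¹ = O.g 5 (u * s) * O.g 8 s := by
  calc O.g 0 u * O.g 8 s * (O.g 0 u)⁻¹ = (O.g 0 u)⁻¹ * (O.g 8 s * O.g 0 u) := by rw [O.i0]; group
    _ = _ := by rw [O.r0_8]; group

theorem y3_y16 (O : OP σ sz G) (u s : K) : O.g 1 u * O.g 6 s * (O.g 1 u)⁻¹ = O.g 5 (u * s) * O.g 6 s := by
  calc O.g 1 u * O.g 6 s * (O.g 1 u)⁻¹
      = O.g 1 u * (O.g 5 (u * s) * O.g 5 (u * s)) * O.g 6 s * (O.g 1 u)⁻¹ := by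
        rw [O.a5, O.add_self, O.g_zero, mul_one]
    _ = (O.g 1 u * O.g 5 (u * s)) * (O.g 1 u)⁻¹ * (O.g 1 u * (O.g 5 (u * s) * O.g 6 s)) * (O.g 1 u)⁻¹ := by group
    _ = _ := by rw [← O.r1_5, ← O.r1_6]; group

theorem y3_conj3 (x a b c d : G) : x * (a * (b * (c * d))) * x⁻¹ =
    x * a * x⁻¹ * (x * b * x⁻¹ * (x * c * x⁻¹ * (x * d * x⁻¹))) := by group

theorem YT.y0a (h : YT O t zh Yh) {f : G} (hf : f ∈ Yh) (u : K) : ∃ a, O.g 0 u * f * (O.g 0 u)⁻¹ = f * O.g 5 a := by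
  obtain ⟨r, hr, -⟩ := h.ymv f hf
  have ex : ∀ u, ∃ a b c, O.g 0 u * f * (O.g 0 u)⁻¹ = f * (O.g 5 a * (O.g 6 b * O.g 8 c)) := fun u => by
    obtain ⟨e, he, e1⟩ := h.toYS.conj_eq (O.g_mem_U 0 u) hf hr (a := 0)
      (by rw [O.g_zero, one_mul, ← O.r0_6, mul_inv_cancel_right])
    obtain ⟨a, b, c, rfl⟩ := (mem_E2_iff O.toOC).1 he
    exact ⟨a, b, c, by rw [e1, h.base, O.g_zero, one_mul]⟩
  choose A B C e using ex
  have ad : ∀ u v, B (u + v) = B u + B v ∧ C (u + v) = C u + C v := fun u v => by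
    have e1 : O.g 0 (u + v) * f * (O.g 0 (u + v))⁻¹ = O.g 0 u * (O.g 0 v * f * (O.g 0 v)⁻¹) * (O.g 0 u)⁻¹ := by
      rw [← O.a0]; group
    rw [e, e, y3_conj3, e, y3_x08, conj_of_commute (Commute.symm (O.r0_5 _ _)),
      conj_of_commute (Commute.symm (O.r0_6 _ _)), mul_assoc f] at e1
    have e2 := mul_left_cancel e1
    simp only [O.col] at e2
    exact (E2_inj O.toOC e2).2
  have tr : ∀ (β : Kˣ) u, B (β ^ 2 * u) = B u ∧ C (β ^ 2 * u) = (β : K)⁻¹ * C u := fun β u => by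
    have e1 : O.h (β ^ 2, β⁻¹) * (O.g 0 u * f * (O.g 0 u)⁻¹) * (O.h (β ^ 2, β⁻¹))⁻¹ =
        (O.h (β ^ 2, β⁻¹) * O.g 0 u * (O.h (β ^ 2, β⁻¹))⁻¹) * (O.h (β ^ 2, β⁻¹) * f * (O.h (β ^ 2, β⁻¹))⁻¹) *
          (O.h (β ^ 2, β⁻¹) * O.g 0 u * (O.h (β ^ 2, β⁻¹))⁻¹)⁻¹ := by group
    rw [e, y3_conj3, conj_of_commute (h.c5 f hf β).symm, O.h_g, O.h_g, O.h_g, O.h_g, e] at e1
    have := (E2_inj O.toOC (mul_left_cancel e1)).2
    simp only [chi_H5 O.toOC] at this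
    exact ⟨by simpa using this.1.symm, by simpa using this.2.symm⟩
  have hB := na0 O.toOC h.big (ψ := B) (fun a b => (ad a b).1) (fun β a => by
    obtain ⟨γ, hγ⟩ := fld_sqs O.toOC β.ne_zero
    rw [← hγ]; exact (tr γ a).1) u
  have hC := na2' O.toOC h.big (ψ := C) (fun a b => (ad a b).2) (fun β a => (tr β a).2) u
  exact ⟨A u, by rw [e, hB, hC, O.g_zero, O.g_zero, mul_one, mul_one]⟩

theorem YT.y0 (h : YT O t zh Yh) {f : G} (hf : f ∈ Yh) (u : K) : Commute f (O.g 0 u) := by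
  choose F hF hr using h.surj
  choose ψ hψ using fun r => h.y0a (hF r) u
  have key : ∀ f ∈ Yh, ∀ r a, f * t * f⁻¹ = t * O.g 6 r → O.g 0 u * f * (O.g 0 u)⁻¹ = f * O.g 5 a → a = ψ r := by
    intro f hf r a e1 e2
    have hk := h.ker _ (mul_mem (inv_mem (hF r)) hf) (y2_comm_t ((hr r).trans e1.symm))
    have c0 : Commute (O.g 0 u) ((F r)⁻¹ * f) :=
      O.commute_pat (A := [0]) (by decide) (O.g_mem (by decide) u) hk
    have c5 : Commute (O.g 5 (ψ r)) ((F r)⁻¹ * f) :=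
      O.commute_pat (A := [5]) (by decide) (O.g_mem (by decide) _) hk
    apply O.g_inj 5
    apply mul_left_cancel (a := f)
    rw [← e2]
    calc O.g 0 u * f * (O.g 0 u)⁻¹ = (O.g 0 u * F r * (O.g 0 u)⁻¹) * (O.g 0 u * ((F r)⁻¹ * f) * (O.g 0 u)⁻¹) := by
          group
      _ = F r * (O.g 5 (ψ r) * ((F r)⁻¹ * f)) := by rw [hψ, conj_of_commute c0, mul_assoc]
      _ = _ := by rw [c5.eq]; group
  have z := na1 O.toOC h.big (ψ := ψ) (fun a b => ?_) (fun β a => ?_)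
  · obtain ⟨r, e1, -⟩ := h.ymv f hf
    obtain ⟨a, e2⟩ := h.y0a hf u
    rw [key f hf r a e1 e2, z, O.g_zero, mul_one] at e2
    exact (commute_of_conj e2).symm
  · symm
    refine key _ (mul_mem (hF a) (hF b)) _ _ ?_ ?_
    · calc F a * F b * t * (F a * F b)⁻¹ = F a * (F b * t * (F b)⁻¹) * (F a)⁻¹ := by group
        _ = (F a * t * (F a)⁻¹) * (F a * O.g 6 b * (F a)⁻¹) := by rw [hr]; group
        _ = _ := by rw [hr, conj_of_commute (h.cX _ (hF a) _ (O.g_mem (by decide) _)), mul_assoc, O.a6]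
    · calc O.g 0 u * (F a * F b) * (O.g 0 u)⁻¹ = (O.g 0 u * F a * (O.g 0 u)⁻¹) * (O.g 0 u * F b * (O.g 0 u)⁻¹) := by
            group
        _ = F a * (O.g 5 (ψ a) * F b) * O.g 5 (ψ b) := by rw [hψ, hψ]; group
        _ = _ := by rw [← (h.cX _ (hF b) _ (O.g_mem (by decide) _)).eq, ← O.a5]; group
  · symm
    obtain ⟨h0, h6, h5⟩ := chi_H1 O.toOC β
    have c0 : O.h (1, β) * O.g 0 u * (O.h (1, β))⁻¹ = O.g 0 u := by rw [O.h_g, h0, one_mul]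
    have ct := conj_of_commute (h.tC _ (h_mem_G0 O (1, β))).symm
    refine key (O.h (1, β) * F a * (O.h (1, β))⁻¹) (((mem_normalizer_iff.1 (h.nH ⟨_, rfl⟩)) _).1 (hF a)) _ _ ?_ ?_
    · rw [← h6, ← O.h_g]
      conv_lhs => rw [← ct]
      conv_rhs => rw [← ct]
      calc _ = O.h (1, β) * (F a * t * (F a)⁻¹) * (O.h (1, β))⁻¹ := by group
        _ = _ := by rw [hr]; group
    · rw [← h5, ← O.h_g]
      conv_lhs => rw [← c0]
      calc _ = O.h (1, β) * (O.g 0 u * F a * (O.g 0 u)⁻¹) * (O.h (1, β))⁻¹ := by group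
        _ = _ := by rw [hψ]; group

theorem YT.yD2 (h : YT O t zh Yh) {f : G} (hf : f ∈ Yh) {x : G} (hx : x ∈ O.D3) : Commute f x := by
  refine O.pat_ind (p := fun x => Commute f x) hx (Commute.one_right _) ?_ (fun x _ y _ a b => a.mul_right b)
  intro j hj s
  by_cases e0 : j = 0
  · subst e0; exact h.y0 hf s
  by_cases e1 : j = 11
  · subst e1; exact h.y11 f hf s
  exact h.cX f hf _ (O.g_mem (by revert j; decide) s)

theorem YT.yn1 (h : YT O t zh Yh) {f : G} (hf : f ∈ Yh) : Commute f O.n1 := by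
  obtain ⟨r, hr, -⟩ := h.ymv f hf
  have ct := conj_of_commute (h.tC _ O.n1_mem_G0).symm
  have hm : O.n1 * f * O.n1⁻¹ ∈ Yh := by
    refine h.max _ ((h.toYS.y2_T2 hf).conj _) (fun x hx => comm_conj O.n1_sq
      (h.yD2 hf (O.pat_mono (by decide) ((O.n1_conj (by decide)).1 hx)))) ((CO.of_mem O.n1_mem_G0).conj (h.yco f hf))
      ⟨r, ?_⟩ (fun α => comm_conj O.n1_sq (by rw [n1_h5]; exact (h.c5 f hf α).inv_right))
      (fun p => comm_conj O.n1_sq (h.y8 f hf p))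
    have e6 : O.n1 * O.g 6 r * O.n1⁻¹ = O.g 6 r := O.n1_g 6 (by decide) r
    conv_lhs => rw [← ct]
    conv_rhs => rw [← ct, ← e6]
    calc _ = O.n1 * (f * t * f⁻¹) * O.n1⁻¹ := by group
      _ = _ := by rw [hr]; group
  have c1 := h.y0 hf 1
  have c2 : Commute f (O.n1 * O.g 0 1 * O.n1⁻¹) := by
    have := comm_conj O.n1_sq (a := O.g 0 1) (x := f) (h.y0 hm 1).symm
    exact this.symm
  have e : O.n1 = O.g 0 1 * (O.n1 * O.g 0 1 * O.n1⁻¹) * O.g 0 1 := by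
    rw [O.n1_inv, O.n1_a]
    calc O.n1 = (O.g 0 1 * O.g 0 1) * O.n1 * (O.g 0 1 * O.g 0 1) := by rw [O.a0, O.add_self, O.g_zero]; group
      _ = _ := by group
  rw [e]
  exact (c1.mul_right c2).mul_right c1

theorem P1.y3_inj (h : P1 O t zh) {p p' : K × K} {c c' : K} (e : zh p * O.g 8 c = zh p' * O.g 8 c') : c = c' := by
  have e1 : ∀ p c, O.g 0 1 * (zh p * O.g 8 c) * (O.g 0 1)⁻¹ = zh p * O.g 8 c * O.g 5 c := fun p c => by
    calc _ = (O.g 0 1 * zh p * (O.g 0 1)⁻¹) * (O.g 0 1 * O.g 8 c * (O.g 0 1)⁻¹) := by group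
      _ = _ := by rw [y3_x08, conj_of_commute (h.cC p _ (O.g_mem_C _ _)).symm, one_mul, ← O.r5_8, mul_assoc]
  have e2 := e1 p c
  rw [e, e1] at e2
  exact (O.g_inj 5 (mul_left_cancel e2)).symm

theorem YT.y1 (h : YT O t zh Yh) {f : G} (hf : f ∈ Yh) (u : K) : ∃ p, O.g 1 u * f * (O.g 1 u)⁻¹ = f * zh p := by
  obtain ⟨r, hr, -⟩ := h.ymv f hf
  have zc : ∀ p j s, Commute (zh p) (O.g j s) := fun p j s => h.cC p _ (O.g_mem_C _ _)
  have ex : ∀ u, ∃ p c, O.g 1 u * f * (O.g 1 u)⁻¹ = f * (zh p * O.g 8 c) := fun u => by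
    by_cases hu : u = 0
    · exact ⟨0, 0, by rw [hu, h.zero, O.g_zero, O.g_zero]; group⟩
    obtain ⟨e, he, e1⟩ := h.toYS.conj_eq (O.g_mem_U 1 u) hf hr (y3_y16 O u r)
    obtain ⟨a, b, c, rfl⟩ := (mem_E2_iff O.toOC).1 he
    rw [← mul_assoc (zh _), ← h.base, ← h.add] at e1
    generalize (u * r, (0 : K)) + (0, a) = p at e1
    have e2 : O.g 1 u * (O.g 1 u * f * (O.g 1 u)⁻¹) * (O.g 1 u)⁻¹ = f := by
      calc _ = (O.g 1 u * O.g 1 u) * f * (O.g 1 u * O.g 1 u)⁻¹ := by group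
        _ = _ := by
          rw [O.a1, O.add_self, O.g_zero, one_mul, conj_of_commute (h.cX f hf _ (O.g_mem (by decide) _)).symm]
    rw [e1, y3_conj3, e1, y3_y16, conj_of_commute (zc p 1 u).symm, conj_of_commute (Commute.symm (O.r1_8 _ _)),
      mul_assoc f, mul_eq_left, mul_assoc (zh p), ← mul_assoc _ (zh p), ← ((zc p 6 b).mul_right (zc p 8 c)).eq,
      mul_assoc (zh p), ← mul_assoc (zh p), h.sq, one_mul] at e2
    simp only [O.col, O.g_eq_one] at e2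
    exact ⟨p, c, by rw [e1, (mul_eq_zero.1 e2).resolve_left hu, O.g_zero, one_mul]⟩
  choose P C e using ex
  have hC := na2 O.toOC h.big (ψ := C) (fun u v => ?_) (fun β u => ?_) u
  · exact ⟨P u, by rw [e, hC, O.g_zero, mul_one]⟩
  · have e1 : O.g 1 (u + v) * f * (O.g 1 (u + v))⁻¹ = O.g 1 u * (O.g 1 v * f * (O.g 1 v)⁻¹) * (O.g 1 u)⁻¹ := by
      calc _ = O.g 1 (u + v) * (O.g 2 (u * σ v) * f * (O.g 2 (u * σ v))⁻¹) * (O.g 1 (u + v))⁻¹ := by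
            rw [conj_of_commute (h.cX f hf _ (O.g_mem (j := 2) (by decide) _)).symm]
        _ = (O.g 1 (u + v) * O.g 2 (u * σ v)) * f * (O.g 1 (u + v) * O.g 2 (u * σ v))⁻¹ := by group
        _ = _ := by rw [← O.a1]; group
    have e2 : O.g 1 u * (f * (zh (P v) * O.g 8 (C v))) * (O.g 1 u)⁻¹ =
        f * (zh (P u + P v) * O.g 8 (C u + C v)) := by
      calc _ = (O.g 1 u * f * (O.g 1 u)⁻¹) * (O.g 1 u * zh (P v) * (O.g 1 u)⁻¹) *
            (O.g 1 u * O.g 8 (C v) * (O.g 1 u)⁻¹) := by group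
        _ = f * zh (P u) * (O.g 8 (C u) * zh (P v)) * O.g 8 (C v) := by
          rw [e, conj_of_commute (zc _ 1 u).symm, conj_of_commute (Commute.symm (O.r1_8 _ _))]; group
        _ = _ := by rw [← (zc _ 8 _).eq, h.add, ← O.a8]; group
    rw [e, e, e2] at e1
    exact h.toP1.y3_inj (mul_left_cancel e1)
  · have e1 : O.h (β ^ 2, β⁻¹) * (O.g 1 u * f * (O.g 1 u)⁻¹) * (O.h (β ^ 2, β⁻¹))⁻¹ =
        (O.h (β ^ 2, β⁻¹) * O.g 1 u * (O.h (β ^ 2, β⁻¹))⁻¹) * (O.h (β ^ 2, β⁻¹) * f * (O.h (β ^ 2, β⁻¹))⁻¹) *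
          (O.h (β ^ 2, β⁻¹) * O.g 1 u * (O.h (β ^ 2, β⁻¹))⁻¹)⁻¹ := by group
    have e2 : ∀ x a b c : G, x * (a * (b * c)) * x⁻¹ = x * a * x⁻¹ * (x * b * x⁻¹ * (x * c * x⁻¹)) := by
      intros; group
    rw [e, e2, conj_of_commute (h.c5 f hf β).symm, O.h_g, O.h_g, h.hz, e] at e1
    have := h.toP1.y3_inj (mul_left_cancel e1)
    simp only [chi_H5 O.toOC] at this
    simpa using this.symm

theorem YT.y3_fst (h : YT O t zh Yh) {f : G} (hf : f ∈ Yh) {p : K × K} (e : O.g 1 1 * f * (O.g 1 1)⁻¹ = f * zh p) :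
    f * t * f⁻¹ = t * O.g 6 p.1 := by
  obtain ⟨r, hr, -⟩ := h.ymv f hf
  have e1 := h.toYS.y2_mvU (O.g_mem_U 1 1) hr
  have e2 : f * zh p * t * (f * zh p)⁻¹ = t * (O.g 5 p.1 * O.g 6 r) := by
    calc _ = f * (zh p * t * (zh p)⁻¹) * f⁻¹ := by group
      _ = (f * t * f⁻¹) * (f * O.g 5 p.1 * f⁻¹) := by rw [h.mv]; group
      _ = _ := by rw [hr, conj_of_commute (h.cX f hf _ (O.g_mem (by decide) _)), mul_assoc, O.r5_6]
  rw [e, e2, y3_y16, one_mul] at e1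
  rw [hr, O.g_inj 5 (mul_right_cancel (mul_left_cancel e1))]

theorem YT.y3_base (h : YT O t zh Yh) (c : K) : O.g 1 1 * O.g 6 c * (O.g 1 1)⁻¹ = O.g 6 c * zh (0, c) := by
  rw [y3_y16, one_mul, h.base, O.r5_6]

theorem YT.y3_mul (h : YT O t zh Yh) {f f' : G} (hf' : f' ∈ Yh) {p p' : K × K}
    (e : O.g 1 1 * f * (O.g 1 1)⁻¹ = f * zh p) (e' : O.g 1 1 * f' * (O.g 1 1)⁻¹ = f' * zh p') :
    O.g 1 1 * (f * f') * (O.g 1 1)⁻¹ = f * f' * zh (p + p') := by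
  calc _ = (O.g 1 1 * f * (O.g 1 1)⁻¹) * (O.g 1 1 * f' * (O.g 1 1)⁻¹) := by group
    _ = f * (zh p * f') * zh p' := by rw [e, e']; group
    _ = _ := by rw [← (h.y5 f' hf' p).eq, h.add]; group

theorem YT.y3_uniq (h : YT O t zh Yh) {f f' : G} (hf : f ∈ Yh) (hf' : f' ∈ Yh) {p : K × K}
    (e : O.g 1 1 * f * (O.g 1 1)⁻¹ = f * zh p) (e' : O.g 1 1 * f' * (O.g 1 1)⁻¹ = f' * zh p) : f = f' := by
  obtain ⟨s, hs⟩ := (mem_single O.toOC (by decide)).1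
    (h.ker _ (mul_mem (inv_mem hf) hf') (y2_comm_t ((h.y3_fst hf e).trans (h.y3_fst hf' e').symm)))
  have e1 : f' = f * O.g 6 s := by rw [← hs]; group
  have e2 := h.y3_mul (h.yle (O.g_mem (by decide) s)) e (h.y3_base s)
  rw [← e1, e'] at e2
  have e3 := congrArg Prod.snd (h.inj (mul_left_cancel e2))
  have s0 : s = 0 := by simpa using e3
  rw [e1, s0, O.g_zero, mul_one]

theorem YT.exists_p2 (h : YT O t zh Yh) : ∃ yh, P2 O t zh yh := by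
  have ex : ∀ p : K × K, ∃ f ∈ Yh, O.g 1 1 * f * (O.g 1 1)⁻¹ = f * zh p := fun p => by
    obtain ⟨f, hf, hr⟩ := h.surj p.1
    obtain ⟨q, e⟩ := h.y1 hf 1
    have e1 : q.1 = p.1 := O.g_inj 6 (mul_left_cancel ((h.y3_fst hf e).symm.trans hr))
    have m := h.yle (O.g_mem (j := 6) (by decide) (q.2 + p.2))
    refine ⟨_, mul_mem hf m, ?_⟩
    rw [h.y3_mul m e (h.y3_base _)]
    congr 2
    exact Prod.ext (by simp [e1]) (by simp [← add_assoc, O.add_self])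
  choose yh hm e using ex
  have y1 : ∀ u p, O.g 1 u * yh p * (O.g 1 u)⁻¹ = yh p * zh (u • p) := fun u p => by
    by_cases hu : u = 0
    · rw [hu, zero_smul, h.zero, O.g_zero]; group
    obtain ⟨β, rfl⟩ : ∃ β : Kˣ, (β : K) = u := ⟨Units.mk0 u hu, rfl⟩
    have e1 := O.h_g (β ^ 2) β⁻¹ 1 1
    have e2 := h.hz (β ^ 2) β⁻¹ p
    have e3 := conj_of_commute (h.c5 _ (hm p) β).symm
    rw [chi_H5 O.toOC] at e1 e2
    simp only [Matrix.cons_val, mul_one] at e1 e2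
    rw [← e1, ← e2]
    conv_lhs => rw [← e3]
    conv_rhs => rw [← e3]
    calc _ = O.h (β ^ 2, β⁻¹) * (O.g 1 1 * yh p * (O.g 1 1)⁻¹) * (O.h (β ^ 2, β⁻¹))⁻¹ := by group
      _ = _ := by rw [e]; group
  refine ⟨yh,
    { toP1 := h.toP1
      yadd := fun p p' => h.y3_uniq (hm _) (mul_mem (hm p) (hm p')) (e _) (h.y3_mul (hm p') (e p) (e p'))
      ybase := fun c => h.y3_uniq (hm _) (h.yle (O.g_mem (by decide) c)) (e _) (h.y3_base c)
      ymv := fun p => h.y3_fst (hm p) (e p)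
      yD := fun p x hx => h.yD2 (hm p) hx
      yn1 := fun p => h.yn1 (hm p)
      yco := fun p => h.yco _ (hm p)
      hy := fun α β p => ?_
      y1 := y1
      y5 := fun p p' => h.y5 _ (hm p) p'
      y2 := fun p p' => h.y2 _ (hm p) p'
      z28 := h.z28 }⟩
  have m : O.h (α, β) * yh p * (O.h (α, β))⁻¹ ∈ Yh := ((mem_normalizer_iff.1 (h.nH ⟨_, rfl⟩)) _).1 (hm p)
  obtain ⟨q, hq⟩ := h.y1 m 1
  have e1 := h.y3_uniq m (hm q) hq (e q)
  have e2 := y1 (chi σ 1 α β * 1) q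
  have e3 : O.h (α, β) * O.g 1 1 * (O.h (α, β))⁻¹ * (O.h (α, β) * yh p * (O.h (α, β))⁻¹) *
      (O.h (α, β) * O.g 1 1 * (O.h (α, β))⁻¹)⁻¹ =
      O.h (α, β) * yh p * (O.h (α, β))⁻¹ * (O.h (α, β) * zh p * (O.h (α, β))⁻¹) := by
    calc _ = O.h (α, β) * (O.g 1 1 * yh p * (O.g 1 1)⁻¹) * (O.h (α, β))⁻¹ := by group
      _ = _ := by rw [e]; group
  rw [← O.h_g, ← e1, e3, h.hz, (chi_rel O.toOC α β).2.1, mul_one, mul_smul] at e2
  rw [e1, ← smul_right_injective _ (chi_ne 1 α β) (h.inj (mul_left_cancel e2))]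

end CfsgLib.RF4
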