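import Mathlib
import Cfsg.Agent.Lib.RF4.Exi
import Cfsg.Agent.Lib.RF4.Hat
import Cfsg.Agent.Lib.RF4.Act

set_option autoImplicit false
set_option Elab.async false

namespace CfsgLib.RF4

open Subgroup CfsgLib.F42
open scoped commutatorElement

/-! # The hats of `Z` (package ZH1) -/

section gen

variable {G : Type*} [Group G]

theorem zh1_mv_mul {a b t d e : G} (ha : Commute a e) (h1 : a * t * a⁻¹ = t * d) (h2 : b * t * b⁻¹ = t * e) :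
    a * b * t * (a * b)⁻¹ = t * (d * e) := by
  calc a * b * t * (a * b)⁻¹ = a * (b * t * b⁻¹) * a⁻¹ := by group
    _ = a * t * a⁻¹ * (a * e * a⁻¹) := by rw [h2]; group
    _ = t * (d * e) := by rw [h1, ha.eq, mul_inv_cancel_right, mul_assoc]

theorem zh1_mv_inv {a t d : G} (ha : Commute a d) (h1 : a * t * a⁻¹ = t * d) : a⁻¹ * t * a⁻¹⁻¹ = t * d⁻¹ := by
  have h2 : t = a * t * a⁻¹ * d⁻¹ := by rw [h1, mul_inv_cancel_right]
  calc a⁻¹ * t * a⁻¹⁻¹ = a⁻¹ * (a * t * a⁻¹ * d⁻¹) * a⁻¹⁻¹ := by rw [← h2]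
    _ = t * (a⁻¹ * (d⁻¹ * a)) := by group
    _ = t * d⁻¹ := by rw [← ha.inv_right.eq, inv_mul_cancel_left]

theorem zh1_mv_conj {a x t d : G} (hx : Commute t x) (h1 : a * t * a⁻¹ = t * d) :
    x * a * x⁻¹ * t * (x * a * x⁻¹)⁻¹ = t * (x * d * x⁻¹) := by
  have h2 : x⁻¹ * t * x = t := by rw [mul_assoc, hx.eq, inv_mul_cancel_left]
  calc x * a * x⁻¹ * t * (x * a * x⁻¹)⁻¹ = x * (a * (x⁻¹ * t * x) * a⁻¹) * x⁻¹ := by group
    _ = x * t * x⁻¹ * (x * d * x⁻¹) := by rw [h2, h1]; group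
    _ = t * (x * d * x⁻¹) := by rw [← hx.eq, mul_inv_cancel_right]

theorem zh1_conj_comm {x b y : G} (h : Commute b (x⁻¹ * y * x)) : Commute (x * b * x⁻¹) y := by
  have := h.map (MulAut.conj x)
  simpa [mul_assoc] using this

/-- two elements acting on `u` by commuting fixed elements -/
theorem zh1_comm_act {a b u d e : G} (h1 : a * u * a⁻¹ = d * u) (h2 : b * u * b⁻¹ = e * u) (had : Commute a d)
    (hae : Commute a e) (hbd : Commute b d) (hbe : Commute b e) (hde : Commute d e) : Commute ⁅a, b⁆ u := by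
  have h3 : a⁻¹ * u * a = d⁻¹ * u := by
    calc a⁻¹ * u * a = a⁻¹ * (d⁻¹ * (a * u * a⁻¹)) * a := by rw [h1, inv_mul_cancel_left]
      _ = a⁻¹ * (d⁻¹ * a) * u := by group
      _ = d⁻¹ * u := by rw [← had.inv_right.eq, inv_mul_cancel_left]
  have h4 : b⁻¹ * u * b = e⁻¹ * u := by
    calc b⁻¹ * u * b = b⁻¹ * (e⁻¹ * (b * u * b⁻¹)) * b := by rw [h2, inv_mul_cancel_left]
      _ = b⁻¹ * (e⁻¹ * b) * u := by group
      _ = e⁻¹ * u := by rw [← hbe.inv_right.eq, inv_mul_cancel_left]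
  have h5 : (a * b)⁻¹ * u * (a * b) = (b * a)⁻¹ * u * (b * a) := by
    calc (a * b)⁻¹ * u * (a * b) = b⁻¹ * (a⁻¹ * u * a) * b := by group
      _ = b⁻¹ * d⁻¹ * u * b := by rw [h3]; group
      _ = d⁻¹ * (b⁻¹ * u * b) := by rw [hbd.inv_inv.eq]; group
      _ = d⁻¹ * e⁻¹ * u := by rw [h4, mul_assoc]
      _ = e⁻¹ * (a⁻¹ * u * a) := by rw [hde.inv_inv.eq, h3, mul_assoc]
      _ = a⁻¹ * (e⁻¹ * u) * a := by rw [← mul_assoc a⁻¹, hae.inv_inv.eq]; group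
      _ = (b * a)⁻¹ * u * (b * a) := by rw [← h4]; group
  have h6 : ⁅a, b⁆ * u = a * b * ((b * a)⁻¹ * u * (b * a)) * (b * a)⁻¹ := by rw [commutatorElement_def]; group
  show ⁅a, b⁆ * u = u * ⁅a, b⁆
  rw [h6, ← h5, commutatorElement_def]
  group

theorem zh1_comm_mul {a b z : G} (h : Commute a z) : ⁅a, b * z⁆ = ⁅a, b⁆ := by
  have : ⁅a, b * z⁆ = a * b * (z * a⁻¹) * z⁻¹ * b⁻¹ := by rw [commutatorElement_def]; group
  rw [this, ← h.inv_left.eq, commutatorElement_def]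
  group

theorem zh1_norm_of_comm {D : Subgroup G} {b : G} (h : ∀ x ∈ D, Commute b x) : b ∈ normalizer (D : Set G) :=
  centralizer_le_normalizer _ (mem_centralizer_iff.2 fun x hx => (h x hx).symm.eq)

end gen

variable {K : Type*} [Field K] [Finite K] {G : Type*} [Group G] [Finite G] {σ : K →+* K} {sz : Sz K} {O : OP σ sz G} {t : G}

theorem zh1_H_C (hb : O.Braid) : O.H ≤ normalizer (O.C : Set G) := fun x hx => by
  refine mem_normalizer_fintype fun y hy => mem_C_of O hb ?_ (zh1_conj_comm (O.C_cent_Z hy ?_))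
  · exact mul_mem (mul_mem (O.ti_H_le_G0 hx) (O.ti_C_le_G0 hy)) (inv_mem (O.ti_H_le_G0 hx))
  · simpa using Tech.conj_mem_of_mem_normalizer (inv_mem (O.toOT.h_norm [5] hx)) O.τ_mem

omit [Finite K] [Finite G] in
theorem zh1_T5 (O : OC σ sz G) (r : K) : T2 (O.g 5 r) := T2.of_sq (by rw [O.a5, O.add_self, O.g_zero])

/-- the group of all elements moving `t` by an element of `Z` -/
def zh1J (O : OP σ sz G) (t : G) : Subgroup G where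
  carrier := {b | b ∈ normalizer (O.C : Set G) ∧ (∀ y ∈ O.pat Y4, Commute b y) ∧ (∀ l, Commute b (O.h8 l)) ∧
    CO O t b ∧ ∃ r, b * t * b⁻¹ = t * O.g 5 r}
  one_mem' := ⟨one_mem _, fun y _ => Commute.one_left y, fun l => Commute.one_left _, fun o _ => Commute.one_left o,
    0, by simp [O.g_zero]⟩
  mul_mem' := by
    rintro a b ⟨a1, a2, a3, a4, r, a5⟩ ⟨b1, b2, b3, b4, s, b5⟩
    exact ⟨mul_mem a1 b1, fun y hy => (a2 y hy).mul_left (b2 y hy), fun l => (a3 l).mul_left (b3 l), a4.mul b4,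
      r + s, by rw [zh1_mv_mul (a2 _ (O.g_mem (by decide) s)) a5 b5, O.a5]⟩
  inv_mem' := by
    rintro a ⟨a1, a2, a3, a4, r, a5⟩
    exact ⟨inv_mem a1, fun y hy => (a2 y hy).inv_left, fun l => (a3 l).inv_left, a4.inv, r,
      by rw [zh1_mv_inv (a2 _ (O.g_mem (by decide) r)) a5, O.i5]⟩

theorem zh1J_conj (h : Sit0 O t) {x : G} (h0 : x ∈ O.G0) (hC : x ∈ normalizer (O.C : Set G))
    (hY : x ∈ normalizer (O.pat Y4 : Set G)) (h8 : ∀ l, ∃ l', x⁻¹ * O.h8 l * x = O.h8 l')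
    (h5 : ∀ r, ∃ r', x * O.g 5 r * x⁻¹ = O.g 5 r') {b : G} (hb : b ∈ zh1J O t) : x * b * x⁻¹ ∈ zh1J O t := by
  obtain ⟨b1, b2, b3, b4, r, b5⟩ := hb
  obtain ⟨r', hr⟩ := h5 r
  refine ⟨mul_mem (mul_mem hC b1) (inv_mem hC), fun y hy => zh1_conj_comm (b2 _ ?_), fun l => zh1_conj_comm ?_,
    (CO.of_mem h0).conj b4, r', by rw [zh1_mv_conj (h.tC x h0) b5, hr]⟩
  · simpa using Tech.conj_mem_of_mem_normalizer (inv_mem hY) hy
  · obtain ⟨l', hl⟩ := h8 l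
    rw [hl]
    exact b3 l'

theorem zh1J_H (h : Sit0 O t) {x : G} (hx : x ∈ O.H) {b : G} (hb : b ∈ zh1J O t) : x * b * x⁻¹ ∈ zh1J O t := by
  refine zh1J_conj h (O.ti_H_le_G0 hx) (zh1_H_C h.braid hx) (O.toOT.h_norm _ hx) (fun l => ⟨l, ?_⟩) (fun r => ?_) hb
  · rw [mul_assoc, ← (O.toOT.br_comm hx (O.toOT.br_h8 l)).eq, inv_mul_cancel_left]
  · obtain ⟨⟨α, β⟩, rfl⟩ := hx
    exact ⟨_, O.h_g α β 5 r⟩

theorem zh1J_n8 (h : Sit0 O t) {b : G} (hb : b ∈ zh1J O t) : O.n8 * b * O.n8⁻¹ ∈ zh1J O t := by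
  refine zh1J_conj h (n8_mem_G0 O) (le_normalizer O.n8_mem_C) (mem_normalizer_fintype fun y hy => ?_)
    (fun l => ⟨l⁻¹, ?_⟩) (fun r => ⟨r, O.n8_g 5 (by decide) r⟩) hb
  · have := (O.n8_conj (by decide)).1 hy
    rwa [O.pat_congr (T := Y4) (by decide)] at this
  · rw [map_inv, ← O.n8_h8, O.n8_inv]

theorem zh1J_odd (h : Sit0 O t) {g : G} (hg : g ∈ zh1J O t) (ho : Odd (orderOf g)) : Od O t g := by
  obtain ⟨-, g2, -, -, r, g5⟩ := hg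
  exact h.od_of_X6 ho (odd_fix ho g5 (g2 _ (O.g_mem (by decide) r)) (zh1_T5 O.toOC r))
    fun x hx => g2 x (O.pat_mono (by decide) hx)

theorem zh1_hatD (h : Sit O t) {W : Subgroup G} (hW : ∀ g, g ∈ W ↔ g ∈ zh1J O t ∧ T2 g) :
    HatD (O.g 5) W O.H t where
  two := O.two
  big := four_lt O.toOC h.big
  add r s := (O.a5 r s).symm
  inj _ := O.g_eq_one.1
  odd _ hx := O.toOT.br_odd hx
  t2 := h.t2
  tJ := (hW t).2 ⟨⟨zh1_norm_of_comm fun x hx => h.tC x (O.ti_C_le_G0 hx), fun y hy => h.tC y (pat_le_G0 O _ hy),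
    fun l => h.tC _ (O.ti_C_le_G0 (O.h8_mem_C l)), CO.self O t, 0, by simp [O.g_zero]⟩, T2.of_sq h.t2⟩
  tX r e := h.t_not_mem (e ▸ g_mem_G0 O 5 r)
  XJ r := (hW _).2 ⟨⟨le_normalizer (O.g_mem_C 5 r),
    fun y hy => (O.C_cent_Z (O.pat_le_C _ hy) (O.g_mem (by decide) r)).symm,
    fun l => (O.C_cent_Z (O.h8_mem_C l) (O.g_mem (by decide) r)).symm, CO.of_mem (g_mem_G0 O 5 r), 0,
    by rw [O.g_zero, mul_one, ← (h.tg 5 r).eq, mul_inv_cancel_right]⟩, zh1_T5 O.toOC r⟩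
  cX b hb r := ((hW b).1 hb).1.2.1 _ (O.g_mem (by decide) r)
  TJ x hx := mem_normalizer_fintype fun b hb =>
    (hW _).2 ⟨zh1J_H h.toSit0 hx ((hW b).1 hb).1, ((hW b).1 hb).2.conj x⟩
  Tt x hx := (h.tC x (O.ti_H_le_G0 hx)).symm
  TX := by
    rintro _ ⟨⟨α, β⟩, rfl⟩
    exact ⟨_, O.h_g α β 5⟩
  TX' l hl := by
    obtain ⟨α, β, e⟩ := chi_surj O.toOC 5 hl
    exact ⟨O.h (α, β), ⟨_, rfl⟩, fun r => by rw [O.h_g, e]⟩
  mv b hb := ((hW b).1 hb).1.2.2.2.2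
  ne := by
    obtain ⟨x, x1, x2, x3, x4, x5⟩ := h.exists_two
    obtain ⟨c, hc⟩ := act1 O.toOC h.big x1 x3 x2
    have h4 : ∀ l, Commute (O.g 4 c) (O.h8 l) := fun l => by
      have := O.h8_g l 4 c
      rw [show wt8 σ 4 l = 1 by simp [wt8, mon, w8T], one_mul] at this
      exact (mul_inv_eq_iff_eq_mul.1 this).symm
    have h5 : (O.g 4 c)⁻¹ * x * t * ((O.g 4 c)⁻¹ * x)⁻¹ = t * O.τ := by
      have := zh1_mv_mul (d := 1) (O.C_cent_Z (inv_mem (O.g_mem_C 4 c)) O.τ_mem)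
        (by rw [← (h.tg 4 c).inv_right.eq, mul_inv_cancel_right, mul_one]) x5
      rwa [one_mul] at this
    have hy : (O.g 4 c)⁻¹ * x ∈ zh1J O t := ⟨mul_mem (inv_mem (le_normalizer (O.g_mem_C 4 c))) x1, hc,
      fun l => (h4 l).inv_left.mul_left (x3 l), (CO.of_mem (g_mem_G0 O 4 c)).inv.mul x4, 1, h5⟩
    generalize (O.g 4 c)⁻¹ * x = y at h5 hy
    obtain ⟨m, -, ⟨k, rfl⟩, hm, -⟩ := exists_split y
    refine ⟨_, (hW _).2 ⟨pow_mem hy _, hm⟩, fun hn => O.τ_ne ?_⟩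
    have h6 : Commute (y * y) t := by
      have := zh1_mv_mul (hy.2.1 _ (O.g_mem (by decide) 1)) h5 h5
      rw [O.τ_sq, mul_one] at this
      exact mul_inv_eq_iff_eq_mul.1 this
    rw [pow_succ, pow_mul, sq] at hn
    have h7 : Commute y t := by simpa using (h6.pow_left k).inv_left.mul_left hn
    rw [h7.eq, mul_inv_cancel_right] at h5
    exact left_eq_mul.1 h5
  ker b hb hc := by
    obtain ⟨⟨-, b2, -⟩, b6⟩ := (hW b).1 hb
    obtain ⟨l, hl, o, ho, e⟩ := h.cen_X6 b hc fun x hx => b2 x (O.pat_mono (by decide) hx)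
    have l0 := pat_le_G0 O _ hl
    have l2 : T2 l := T2.of_mem (O.isPGroup_pat _) hl
    rcases e with rfl | rfl
    · rw [T2.odd_eq_one b6 l2 (ho.cen l l0).symm ho.odd, mul_one] at b2 ⊢
      obtain ⟨r, hr⟩ := O.mem_Z.1 (cU_Y4 O.toOC (O.pat_le_U _ hl) b2)
      exact ⟨r, Or.inl hr⟩
    · rw [T2.odd_eq_one b6 ((T2.of_sq h.t2).mul l2 (h.tC l l0)) (ho.ct.symm.mul_left (ho.cen l l0).symm) ho.odd,
        mul_one] at b2 ⊢
      obtain ⟨r, hr⟩ := O.mem_Z.1 (cU_Y4 O.toOC (O.pat_le_U _ hl) fun x hx => by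
        simpa using (h.tC x (pat_le_G0 O _ hx)).inv_left.mul_left (b2 x hx))
      exact ⟨r, Or.inr (by rw [hr])⟩

theorem Sit.exists_zs (h : Sit O t) : ∃ Zh c, ZS O t Zh c := by
  obtain ⟨W, -, hW⟩ := RF4.exists_two (Γ := zh1J O t) fun g hg ho x hx =>
    (hx.2.2.2.1 g (zh1J_odd h.toSit0 hg ho)).symm
  have d := zh1_hatD h hW
  obtain ⟨c, hc⟩ := d.exists_sq
  have hJ : ∀ b ∈ ⁅W, O.H⁆, b ∈ zh1J O t := fun b hb => ((hW b).1 (d.le hb)).1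
  refine ⟨⁅W, O.H⁆, c, h, fun z hz => ?_, fun b hb => (hJ b hb).1, fun b hb => (hJ b hb).2.1,
    fun b hb => (hJ b hb).2.2.1, fun b hb => (hJ b hb).2.2.2.1, hc, d.surj, fun b hb e => O.mem_Z.2 (d.ker' hb e),
    fun a ha b hb => d.comm ha hb, fun x hx => norm_commutator (d.TJ hx) (le_normalizer hx),
    norm_commutator (mem_normalizer_fintype fun b hb => ?_) (O.ns_H true)⟩
  · obtain ⟨r, rfl⟩ := O.mem_Z.1 hz
    exact d.X_mem r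
  · exact (hW _).2 ⟨zh1J_n8 h.toSit0 ((hW b).1 hb).1, ((hW b).1 hb).2.conj _⟩

theorem ZS.t2' {Zh : Subgroup G} {c : K} (h : ZS O t Zh c) {b : G} (hb : b ∈ Zh) : T2 b := by
  obtain ⟨r, -, e⟩ := h.mv b hb
  exact T2.of_pow (k := 1) (by rw [pow_one, sq, e]; exact zh1_T5 O.toOC _)

namespace ZS

variable {Zh : Subgroup G} {c : K} (h : ZS O t Zh c)
include h

theorem zh1_cE2 {a : G} (ha : a ∈ Zh) {x : G} (hx : x ∈ O.E2) : Commute a x := h.cY a ha x (O.pat_mono (by decide) hx)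

theorem zh1_cE2' {b : G} (hb : b ∈ Zh) {x : G} (hx : x ∈ O.E2) : Commute (c1 O b) x := by
  refine zh1_conj_comm (h.zh1_cE2 hb ?_)
  have := (O.n1_conj (by decide)).1 hx
  rw [O.pat_congr (T := [5, 6, 8]) (by decide)] at this
  rwa [O.n1_inv] at this ⊢

theorem zh1_act {a : G} (ha : a ∈ Zh) {u : G} (hu : u ∈ O.U) : ⁅a, u⁆ ∈ O.E2 :=
  (act2 O.toOC h.big (h.nC ha) (h.c8 a ha) (h.cY a ha)).1 u hu

theorem zh1_act' {b : G} (hb : b ∈ Zh) {u : G} (hu : u ∈ O.R) : ⁅c1 O b, u⁆ ∈ O.E2 := by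
  have h1 := (O.n1_conj (S := [5, 6, 8]) (by decide)).1
    (h.zh1_act hb (O.pat_le_U _ ((O.n1_conj (by decide)).1 hu)))
  rw [O.pat_congr (T := [5, 6, 8]) (by decide)] at h1
  have h2 : ⁅c1 O b, u⁆ = O.n1 * ⁅b, O.n1⁻¹ * u * O.n1⁆ * O.n1⁻¹ := by
    rw [c1, commutatorElement_def, commutatorElement_def]; group
  rw [h2]
  rwa [O.n1_inv] at h1 ⊢

theorem zh1_mv' {b : G} {r : K} (e : b * t * b⁻¹ = t * O.g 5 r) : c1 O b * t * (c1 O b)⁻¹ = t * O.g 8 r := by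
  have n0 : O.n1 ∈ O.G0 := (le_sup_right : zpowers O.n1 ≤ O.G0) (mem_zpowers _)
  rw [c1, zh1_mv_conj (h.tC _ n0) e, O.n1_g 5 (by decide)]
  rfl

/-- every hat is a commutator with a torus element modulo `Z` -/
theorem zh1_dec {α β : Kˣ} (hne : chi σ 5 α β ≠ 1) {b : G} (hb : b ∈ Zh) : ∃ b1 ∈ Zh, ∃ z ∈ O.Z,
    b = b1⁻¹ * (O.h (α, β) * b1 * (O.h (α, β))⁻¹) * z := by
  obtain ⟨r, e, -⟩ := h.mv b hb
  have h0 : 1 + chi σ 5 α β ≠ 0 := fun e => hne (O.add_eq_zero.1 e).symm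
  obtain ⟨b1, hb1, e1⟩ := h.surj (r / (1 + chi σ 5 α β))
  have h5 : ∀ a ∈ Zh, ∀ s, Commute a (O.g 5 s) := fun a ha s => h.cY a ha _ (O.g_mem (by decide) s)
  have h1 : b1⁻¹ * (O.h (α, β) * b1 * (O.h (α, β))⁻¹) ∈ Zh :=
    mul_mem (inv_mem hb1) (Tech.conj_mem_of_mem_normalizer (h.nH ⟨_, rfl⟩) hb1)
  have h2 := zh1_mv_conj (h.tC _ (h_mem_G0 O (α, β))) e1
  rw [O.h_g] at h2
  have h3 := zh1_mv_mul (h5 _ (inv_mem hb1) _) (zh1_mv_inv (h5 _ hb1 _) e1) h2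
  rw [O.i5, O.a5, show r / (1 + chi σ 5 α β) + chi σ 5 α β * (r / (1 + chi σ 5 α β)) = r by field_simp] at h3
  have h4 := zh1_mv_mul (h5 _ (inv_mem h1) _) (zh1_mv_inv (h5 _ h1 _) h3) e
  rw [inv_mul_cancel, mul_one] at h4
  exact ⟨b1, hb1, _, h.ker _ (mul_mem (inv_mem h1) hb) (mul_inv_eq_iff_eq_mul.1 h4), (mul_inv_cancel_left _ _).symm⟩

theorem zh1_step {D : Subgroup G} {l : Kˣ} (hl : l ≠ 1) {a : G} (ha : a ∈ Zh) (hD : D ≤ O.E2)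
    (hk : ∀ b ∈ Zh, ⁅a, c1 O b⁆⁻¹ * (O.h8 l * ⁅a, c1 O b⁆ * (O.h8 l)⁻¹) ∈ D) {b : G} (hb : b ∈ Zh) :
    ⁅a, c1 O b⁆ ∈ D := by
  obtain ⟨-, c5, -, -⟩ := chi_H6 O.toOC l
  obtain ⟨b1, hb1, z, hz, rfl⟩ := h.zh1_dec (α := (l * su σ l)⁻¹) (β := l)
    (fun e => hl (Units.ext (O.n_eq_one (inv_eq_one.1 (c5.symm.trans e))))) hb
  have h1 : O.n1 * O.h ((l * su σ l)⁻¹, l) * O.n1⁻¹ = O.h8 l := by
    rw [← n1_h8, O.n1_inv, ← mul_assoc, ← mul_assoc, O.n1_sq, one_mul, mul_assoc, O.n1_sq, mul_one]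
  have h2 : c1 O (b1⁻¹ * (O.h ((l * su σ l)⁻¹, l) * b1 * (O.h ((l * su σ l)⁻¹, l))⁻¹) * z) =
      (c1 O b1)⁻¹ * (O.h8 l * c1 O b1 * (O.h8 l)⁻¹) * (O.n1 * z * O.n1⁻¹) := by
    rw [← h1, c1, c1]; group
  rw [h2, zh1_comm_mul (h.zh1_cE2 ha (O.pat_mono (by decide) ((O.n1_conj (by decide)).1 hz)))]
  exact kill (h.c8 a ha l) (zh1_norm_of_comm fun x hx => h.zh1_cE2' hb1 (hD hx)) (hk b1 hb1)

theorem com2 {a b : G} (ha : a ∈ Zh) (hb : b ∈ Zh) : Commute a (c1 O b) := by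
  obtain ⟨l, hl⟩ := h.big.unit
  have hE : ∀ x ∈ O.E2, ∀ y ∈ O.E2, Commute x y := fun x hx y hy => O.commute_pat (by decide) hx hy
  have s1 : ∀ a ∈ Zh, ∀ b ∈ Zh, ⁅a, c1 O b⁆ ∈ O.V := fun a ha b hb => by
    refine h.zh1_step hl ha (O.pat_mono (by decide)) (fun b hb => ?_) hb
    obtain ⟨r, e, -⟩ := h.mv a ha
    obtain ⟨s, e', -⟩ := h.mv b hb
    have g5 : O.g 5 r ∈ O.E2 := O.g_mem (by decide) r
    have g8 : O.g 8 s ∈ O.E2 := O.g_mem (by decide) s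
    obtain ⟨v, hv, o, ho, e⟩ := h.cen_R ⁅a, c1 O b⁆
      (zh1_comm_act (e.trans (h.tg 5 r).eq) ((h.zh1_mv' e').trans (h.tg 8 s).eq) (h.zh1_cE2 ha g5)
        (h.zh1_cE2 ha g8) (h.zh1_cE2' hb g5) (h.zh1_cE2' hb g8) (hE _ g5 _ g8))
      fun u hu => by
        have d1 := h.zh1_act ha (O.pat_le_U _ hu)
        have d2 := h.zh1_act' hb hu
        exact zh1_comm_act (by rw [commutatorElement_def, inv_mul_cancel_right])
          (by rw [commutatorElement_def, inv_mul_cancel_right]) (h.zh1_cE2 ha d1) (h.zh1_cE2 ha d2)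
          (h.zh1_cE2' hb d1) (h.zh1_cE2' hb d2) (hE _ d1 _ d2)
    have h0 := O.ti_C_le_G0 (O.h8_mem_C l)
    have key : ∀ s, Commute s (O.h8 l) → (v * s)⁻¹ * (O.h8 l * (v * s) * (O.h8 l)⁻¹) =
        s⁻¹ * (v⁻¹ * (O.h8 l * v * (O.h8 l)⁻¹)) * s := fun s hs => by
      have : O.h8 l * (v * s) * (O.h8 l)⁻¹ = O.h8 l * v * (s * (O.h8 l)⁻¹) := by group
      rw [this, hs.inv_right.eq]
      group
    have hm : v⁻¹ * (O.h8 l * v * (O.h8 l)⁻¹) ∈ O.V :=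
      mul_mem (inv_mem hv) (Tech.conj_mem_of_mem_normalizer (O.h8_norm _ ⟨l, rfl⟩) hv)
    have hm0 := pat_le_G0 O _ hm
    rcases e with e | e
    · rw [e, key o (ho.cen _ h0), mul_assoc, ← (ho.cen _ hm0).eq, inv_mul_cancel_left]
      exact hm
    · rw [e, (h.tC v (pat_le_G0 O _ hv)).eq, mul_assoc v t o, key _ ((h.tC _ h0).mul_left (ho.cen _ h0)), mul_assoc,
        ← ((h.tC _ hm0).mul_left (ho.cen _ hm0)).eq, inv_mul_cancel_left]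
      exact hm
  have s2 : ∀ a ∈ Zh, ∀ b ∈ Zh, ⁅a, c1 O b⁆ ∈ O.Z6 := fun a ha b hb => by
    refine h.zh1_step hl ha (O.pat_mono (by decide)) (fun b hb => ?_) hb
    obtain ⟨s, u, e⟩ := O.mem_V.1 (s1 a ha b hb)
    have : (O.g 5 s * O.g 8 u)⁻¹ * (O.h8 l * (O.g 5 s * O.g 8 u) * (O.h8 l)⁻¹) = (O.g 8 u)⁻¹ * (O.g 5 s)⁻¹ *
      (O.h8 l * O.g 5 s * (O.h8 l)⁻¹) * (O.h8 l * O.g 8 u * (O.h8 l)⁻¹) := by group
    rw [e, this, O.h8_g, O.h8_g, wt8_five, one_mul, inv_mul_cancel_right]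
    exact mul_mem (inv_mem (O.g_mem (by decide) _)) (O.g_mem (by decide) _)
  obtain ⟨-, c5, -, c8⟩ := chi_H6 O.toOC l
  obtain ⟨a1, ha1, z, hz, rfl⟩ := h.zh1_dec (α := (l * su σ l)⁻¹) (β := l)
    (fun e => hl (Units.ext (O.n_eq_one (inv_eq_one.1 (c5.symm.trans e))))) ha
  refine (commutatorElement_eq_one_iff_commute.1 ?_).symm
  rw [zh1_comm_mul (h.zh1_cE2' hb (O.pat_mono (by decide) hz)), ← mem_bot]
  refine kill ?_ (zh1_norm_of_comm fun x hx => by rw [mem_bot.1 hx]; exact Commute.one_right _) ?_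
  · rw [← n1_h8]
    exact zh1_conj_comm (by simpa [mul_assoc] using h.c8 b hb l)
  · obtain ⟨u, e⟩ := O.mem_Z6.1 (inv_mem (s2 a1 ha1 b hb))
    rw [commutatorElement_inv] at e
    rw [e, O.h_g, c8, one_mul, inv_mul_cancel]
    exact one_mem _

end ZS

end CfsgLib.RF4
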