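import Mathlib
import Cfsg.Agent.Lib.RF4.Zh1

set_option autoImplicit false
set_option Elab.async false

namespace CfsgLib.RF4

open Subgroup CfsgLib.F42
open scoped commutatorElement

/-! # The hats of `Z` centralise `C` (package ZH2) -/

section gen

variable {G : Type*} [Group G]

theorem zh2_tr (x : G) {b y d : G} (h : b * y * b⁻¹ = y * d) :
    x * b * x⁻¹ * (x * y * x⁻¹) * (x * b * x⁻¹)⁻¹ = x * y * x⁻¹ * (x * d * x⁻¹) := by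
  calc x * b * x⁻¹ * (x * y * x⁻¹) * (x * b * x⁻¹)⁻¹ = x * (b * y * b⁻¹) * x⁻¹ := by group
    _ = x * y * x⁻¹ * (x * d * x⁻¹) := by rw [h]; group

theorem zh2_comm_cen {x y e : G} (h1 : Commute x e) (h2 : Commute x (y⁻¹ * e * y⁻¹⁻¹)) : Commute ⁅x, y⁆ e := by
  have h3 : ⁅x, y⁆ * e = x * y * (x⁻¹ * (y⁻¹ * e * y⁻¹⁻¹)) * y⁻¹ := by rw [commutatorElement_def]; group
  have h4 : e * ⁅x, y⁆ = e * x * (y * x⁻¹ * y⁻¹) := by rw [commutatorElement_def]; group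
  show ⁅x, y⁆ * e = e * ⁅x, y⁆
  rw [h3, h4, h2.inv_left.eq, ← h1.eq]
  group

theorem zh2_comm_mv {a x y e z : G} (h1 : Commute a y) (h2 : a * x * a⁻¹ = x * e) (h3 : y * e * y⁻¹ = e * z)
    (h4 : Commute e z) (h5 : Commute x z) : a * ⁅x, y⁆ * a⁻¹ = z⁻¹ * ⁅x, y⁆ := by
  have h6 : a * y * a⁻¹ = y := by rw [h1.eq, mul_inv_cancel_right]
  calc a * ⁅x, y⁆ * a⁻¹ = a * x * a⁻¹ * (a * y * a⁻¹) * (a * x * a⁻¹)⁻¹ * (a * y * a⁻¹)⁻¹ := by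
        rw [commutatorElement_def]; group
    _ = x * e * (y * e * y⁻¹)⁻¹ * (y * x⁻¹ * y⁻¹) := by rw [h2, h6]; group
    _ = x * z⁻¹ * (y * x⁻¹ * y⁻¹) := by rw [h3, h4.eq]; group
    _ = z⁻¹ * ⁅x, y⁆ := by rw [h5.inv_right.eq, commutatorElement_def]; group

end gen

variable {K : Type*} [Field K] [Finite K] {G : Type*} [Group G] [Finite G] {σ : K →+* K} {sz : Sz K} {O : OP σ sz G} {t : G}

omit [Finite K] [Finite G] in
theorem zh2_cpat (O : OC σ sz G) {S : List (Fin 12)} {g : G} (h : ∀ j ∈ S, ∀ s, Commute g (O.g j s)) :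
    ∀ x ∈ O.pat S, Commute g x := fun _ hx =>
  O.pat_ind hx (Commute.one_right _) h fun _ _ _ _ => Commute.mul_right

/-- the elements acting trivially on `Z` and `Ph / Z` -/
def zh2P (O : OC σ sz G) : Subgroup G where
  carrier := {g | (∀ z ∈ O.Z, Commute g z) ∧ ∀ p ∈ O.Ph, ⁅g, p⁆ ∈ O.Z}
  one_mem' := ⟨fun z _ => Commute.one_left z, fun p _ => by simp⟩
  mul_mem' := by
    rintro a b ⟨a1, a2⟩ ⟨b1, b2⟩
    refine ⟨fun z hz => (a1 z hz).mul_left (b1 z hz), fun p hp => ?_⟩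
    have : ⁅a * b, p⁆ = a * ⁅b, p⁆ * a⁻¹ * ⁅a, p⁆ := by simp only [commutatorElement_def]; group
    rw [this, (a1 _ (b2 p hp)).eq, mul_inv_cancel_right]
    exact mul_mem (b2 p hp) (a2 p hp)
  inv_mem' := by
    rintro a ⟨a1, a2⟩
    refine ⟨fun z hz => (a1 z hz).inv_left, fun p hp => ?_⟩
    have : ⁅a⁻¹, p⁆ = a⁻¹ * ⁅a, p⁆⁻¹ * a := by simp only [commutatorElement_def]; group
    rw [this, (a1 _ (inv_mem (a2 p hp))).inv_left.eq, inv_mul_cancel_right]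
    exact inv_mem (a2 p hp)

theorem zh2P_of (O : OC σ sz G) {g : G} {k : Fin 12} (h : ∀ j ∈ [2, 3, 4, 5, 6, 8], j ≠ k → ∀ s, Commute g (O.g j s))
    (h5 : 5 ≠ k) (hk : ∀ s, ∃ u, g * O.g k s * g⁻¹ = O.g k s * O.g 5 u) : g ∈ zh2P O := by
  refine ⟨zh2_cpat O (by simpa using h 5 (by decide) h5), fun p hp => O.pat_ind (p := fun p => ⁅g, p⁆ ∈ O.Z) hp
    (by simp) (fun j hj s => ?_) fun x hx y _ h1 h2 => ?_⟩
  · by_cases e : j = k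
    · obtain ⟨u, hu⟩ := hk s
      rw [e, commutatorElement_def, hu, (O.C_cent_Z (O.g_mem_C k s) (O.g_mem (by decide) u)).eq, mul_inv_cancel_right]
      exact O.g_mem (by decide) u
    · rw [commutatorElement_eq_one_iff_commute.2 (h j hj e s)]
      exact one_mem _
  · have : ⁅g, x * y⁆ = ⁅g, x⁆ * (x * ⁅g, y⁆ * x⁻¹) := by simp only [commutatorElement_def]; group
    rw [this, (O.C_cent_Z (O.pat_le_C _ hx) h2).eq, mul_inv_cancel_right]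
    exact mul_mem h1 h2

theorem zh2P_conj (O : OC σ sz G) {x g : G} (hx : x ∈ O.C) (hg : g ∈ zh2P O) : x * g * x⁻¹ ∈ zh2P O := by
  refine ⟨fun z hz => ((O.C_cent_Z hx hz).mul_left (hg.1 z hz)).mul_left (O.C_cent_Z hx hz).inv_left, fun p hp => ?_⟩
  have h1 := hg.2 _ (Tech.conj_mem_of_mem_normalizer' (O.C_norm_Ph hx) hp)
  have : ⁅x * g * x⁻¹, p⁆ = x * ⁅g, x⁻¹ * p * x⁆ * x⁻¹ := by simp only [commutatorElement_def]; group
  rw [this, (O.C_cent_Z hx h1).eq, mul_inv_cancel_right]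
  exact h1

/-- the commutator of `x8(v)` with a hat of `x2` -/
theorem zh2_w (h : Sit0 O t) {y : G} {β : K → K} {r : K} (y1 : ∀ j ∈ [2, 3, 4, 5, 6], ∀ s, Commute y (O.g j s))
    (y2 : ∀ s, y * O.g 8 s * y⁻¹ = O.g 8 s * O.g 5 (β s)) (y3 : y * t * y⁻¹ = t * O.g 2 r) (v : K) :
    ⁅O.g 11 v, y⁆ ∈ zh2P O.toOC ∧ (∀ e ∈ O.E2, Commute ⁅O.g 11 v, y⁆ e) ∧
    (∃ m m', ⁅O.g 11 v, y⁆ * t * ⁅O.g 11 v, y⁆⁻¹ = t * (O.g 5 m * (O.g 6 (r * v) * O.g 8 m'))) ∧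
    ∀ a u, Commute a y → a * O.g 11 v * a⁻¹ = O.g 11 v * O.g 8 u →
      a * ⁅O.g 11 v, y⁆ * a⁻¹ = O.g 5 (β u) * ⁅O.g 11 v, y⁆ := by
  have hP : y ∈ zh2P O.toOC := zh2P_of O.toOC (k := 8) (fun j hj e => y1 j (by revert j; decide)) (by decide)
    fun s => ⟨_, y2 s⟩
  have xE : ∀ e ∈ O.E2, Commute (O.g 11 v) e := fun e he =>
    O.commute_pat (A := [11]) (by decide) (O.g_mem (by decide) v) he
  have m5 : ∀ s, O.g 5 s ∈ O.E2 := O.g_mem (by decide)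
  have m6 : ∀ s, O.g 6 s ∈ O.E2 := O.g_mem (by decide)
  have m8 : ∀ s, O.g 8 s ∈ O.E2 := O.g_mem (by decide)
  have c2 := y1 2 (by decide)
  have c5 := y1 5 (by decide)
  have c6 := y1 6 (by decide)
  refine ⟨mul_mem (zh2P_conj O.toOC (O.g_mem_C 11 v) hP) (inv_mem hP) |> fun e => by
    simpa [commutatorElement_def] using e, zh2_cpat O.toOC fun j hj s => zh2_comm_cen (xE _ (O.g_mem hj s)) (xE _ ?_),
    ?_, fun a u a1 a2 => ?_⟩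
  · simp only [List.mem_cons, List.not_mem_nil, or_false] at hj
    rcases hj with rfl | rfl | rfl
    · rw [(c5 s).inv_left.eq, mul_inv_cancel_right]; exact m5 s
    · rw [(c6 s).inv_left.eq, mul_inv_cancel_right]; exact m6 s
    · rw [zh1_mv_inv (c5 _) (y2 s)]; exact mul_mem (m8 s) (inv_mem (m5 _))
  · have e1 := zh1_mv_inv (c2 r) y3
    rw [O.i2, inv_inv] at e1
    have e2 : (O.g 11 v)⁻¹ * O.g 2 r * O.g 11 v =
        O.g 2 r * (O.g 5 (σ r * v) * (O.g 6 (r * v) * O.g 8 (r * σ v))) := by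
      rw [O.i11, O.r2_11]
      simp only [mul_assoc, O.a11, O.add_self, O.g_zero, mul_one]
    have e3 : ∀ x, Commute y x → y * x * y⁻¹ = x := fun x hx => by rw [hx.eq, mul_inv_cancel_right]
    have e4 : O.g 2 r * (O.g 2 r * (O.g 5 (σ r * v) * (O.g 6 (r * v) * (O.g 8 (r * σ v) * O.g 5 (β (r * σ v)))))) =
        O.g 5 (σ r * v + β (r * σ v)) * (O.g 6 (r * v) * O.g 8 (r * σ v)) := by
      simp only [O.col, O.add_self, O.g_zero, one_mul]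
    refine ⟨σ r * v + β (r * σ v), r * σ v, ?_⟩
    calc ⁅O.g 11 v, y⁆ * t * ⁅O.g 11 v, y⁆⁻¹ = O.g 11 v * (y * ((O.g 11 v)⁻¹ * (y⁻¹ * t * y) * O.g 11 v) * y⁻¹) *
          (O.g 11 v)⁻¹ := by rw [commutatorElement_def]; group
      _ = O.g 11 v * (y * (t * ((O.g 11 v)⁻¹ * O.g 2 r * O.g 11 v)) * y⁻¹) * (O.g 11 v)⁻¹ := by
          rw [e1, ← mul_assoc _ t, ← (h.tg 11 v).inv_right.eq, mul_assoc t, mul_assoc t]
      _ = O.g 11 v * (y * t * y⁻¹ * (y * O.g 2 r * y⁻¹ * (y * O.g 5 (σ r * v) * y⁻¹ * (y * O.g 6 (r * v) * y⁻¹ *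
          (y * O.g 8 (r * σ v) * y⁻¹))))) * (O.g 11 v)⁻¹ := by rw [e2]; group
      _ = t * (O.g 5 (σ r * v + β (r * σ v)) * (O.g 6 (r * v) * O.g 8 (r * σ v))) := by
          rw [y3, e3 _ (c2 _), e3 _ (c5 _), e3 _ (c6 _), y2, mul_assoc t, e4,
            ((h.tg 11 v).symm.mul_right (xE _ (mul_mem (m5 _) (mul_mem (m6 _) (m8 _))))).eq, mul_inv_cancel_right]
  · rw [zh2_comm_mv a1 a2 (y2 u) (O.commute_pat (by decide) (m8 _) (m5 _)) (xE _ (m5 _)), O.i5]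

namespace ZS

variable {Zh : Subgroup G} {c : K} (h : ZS O t Zh c)
include h

theorem zh2_ker {a b : G} (ha : a ∈ Zh) (hb : b ∈ Zh) {r : K} (e : a * t * a⁻¹ = t * O.g 5 r)
    (e' : b * t * b⁻¹ = t * O.g 5 r) : a⁻¹ * b ∈ O.Z := by
  have h5 := h.cY a ha _ (O.g_mem (by decide : (5 : Fin 12) ∈ Y4) r)
  have h4 := zh1_mv_mul h5.inv_left (zh1_mv_inv h5 e) e'
  rw [inv_mul_cancel, mul_one] at h4
  exact h.ker _ (mul_mem (inv_mem ha) hb) (mul_inv_eq_iff_eq_mul.1 h4)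

theorem zh2_gam {θ : K →+* K} (h1 : ∀ s, θ (σ s) = s) (h2 : ∀ s, σ (θ s) = s) :
    ∃ γ, ∀ b ∈ Zh, ∀ r, b * t * b⁻¹ = t * O.g 5 r → ∀ v,
      b * O.g 4 v * b⁻¹ = O.g 4 v * O.g 5 (θ (γ * r * v)) ∧ b * O.g 11 v * b⁻¹ = O.g 11 v * O.g 8 (θ (γ * r * v)) := by
  obtain ⟨b0, hb0, e0⟩ := h.surj 1
  obtain ⟨-, γ0, k0⟩ := act2 O.toOC h.big (h.nC hb0) (h.c8 b0 hb0) (h.cY b0 hb0)
  refine ⟨σ γ0, fun b hb r e => ?_⟩
  obtain ⟨-, γ, k⟩ := act2 O.toOC h.big (h.nC hb) (h.c8 b hb) (h.cY b hb)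
  suffices hγ : γ = θ (σ γ0 * r) by
    intro v
    have := k (θ v)
    rwa [h2, hγ, ← map_mul] at this
  have k1 := (k 1).2
  rw [map_one, mul_one] at k1
  by_cases hr : r = 0
  · have hz := h.zh2_ker (one_mem _) hb (by simp [hr, O.g_zero]) e
    rw [inv_one, one_mul] at hz
    rw [← (O.C_cent_Z (O.g_mem_C 11 1) hz).eq, mul_inv_cancel_right] at k1
    rw [O.g_eq_one.1 (left_eq_mul.1 k1), hr, mul_zero, map_zero]
  obtain ⟨α, β, e5⟩ := chi_surj O.toOC 5 hr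
  have e1 := zh1_mv_conj (h.tC _ (h_mem_G0 O (α, β))) e0
  rw [O.h_g, e5, mul_one] at e1
  have hz := h.zh2_ker (Tech.conj_mem_of_mem_normalizer (h.nH ⟨(α, β), rfl⟩) hb0) hb e1 e
  have k2 := zh2_tr (O.h (α, β)) (k0 (θ (chi σ 11 α β)⁻¹)).2
  rw [O.h_g, O.h_g, h2, mul_inv_cancel₀ (chi_ne 11 α β)] at k2
  generalize O.h (α, β) * b0 * (O.h (α, β))⁻¹ = b1 at hz k2
  have k3 : b * O.g 11 1 * b⁻¹ = b1 * (b1⁻¹ * b * O.g 11 1 * (b1⁻¹ * b)⁻¹) * b1⁻¹ := by group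
  rw [k3, ← (O.C_cent_Z (O.g_mem_C 11 1) hz).eq, mul_inv_cancel_right, k2] at k1
  rw [← O.g_inj 8 (mul_left_cancel k1), ← h1 (chi σ 8 α β * _), map_mul σ, map_mul σ, h2,
    (chi_rel O.toOC α β).2.2.2.2.2.2.1, e5]
  have := chi_ne (σ := σ) 11 α β
  congr 1
  field_simp

theorem zh2_c1 {b : G} (hb : b ∈ Zh) : ∀ j ∈ [3, 4, 5, 6, 8], ∀ s, Commute (c1 O b) (O.g j s) := fun j hj s => by
  refine zh1_conj_comm (h.cY b hb _ ?_)
  have := O.n1_g j (by revert j; decide) s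
  rw [O.n1_inv] at this ⊢
  rw [this]
  exact O.g_mem (by clear this; revert j; decide) s

theorem zh2_c8 {b : G} (hb : b ∈ Zh) : ∀ j ∈ [2, 3, 4, 5, 6], ∀ s, Commute (RF4.c8 O (c1 O b)) (O.g j s) :=
  fun j hj s => by
  refine zh1_conj_comm ?_
  have := O.n8_g j (by revert j; decide) s
  rw [O.n8_inv] at this ⊢
  rw [this]
  exact h.zh2_c1 hb _ (by clear this; revert j; decide) s

omit [Finite K] [Finite G] h in
theorem zh2_m1 {b : G} {v u : K} (e : b * O.g 11 v * b⁻¹ = O.g 11 v * O.g 8 u) :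
    c1 O b * O.g 2 v * (c1 O b)⁻¹ = O.g 2 v * O.g 5 u := by
  have := zh2_tr O.n1 e
  rwa [O.n1_g 11 (by decide), O.n1_g 8 (by decide)] at this

omit [Finite K] [Finite G] h in
theorem zh2_m8 {b : G} {v u : K} (e : b * O.g 11 v * b⁻¹ = O.g 11 v * O.g 8 u) :
    RF4.c8 O (c1 O b) * O.g 8 v * (RF4.c8 O (c1 O b))⁻¹ = O.g 8 v * O.g 5 u := by
  have := zh2_tr O.n8 (zh2_m1 e)
  rwa [O.n8_g 2 (by decide), O.n8_g 5 (by decide)] at this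

theorem zh2_mv8 {b : G} {r : K} (e : b * t * b⁻¹ = t * O.g 5 r) :
    RF4.c8 O (c1 O b) * t * (RF4.c8 O (c1 O b))⁻¹ = t * O.g 2 r := by
  rw [RF4.c8, zh1_mv_conj (h.tC _ (n8_mem_G0 O)) (h.zh1_mv' e), O.n8_g 8 (by decide)]
  rfl

theorem zh2_com8 {a b : G} (ha : a ∈ Zh) (hb : b ∈ Zh) : Commute a (RF4.c8 O (c1 O b)) :=
  (zh1_conj_comm (h.com2 (Tech.conj_mem_of_mem_normalizer' h.n8 ha) hb).symm).symm

theorem cent_C {b : G} (hb : b ∈ Zh) : ∀ x ∈ O.C, Commute b x := by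
  obtain ⟨θ, h1, h2, -, -⟩ := exists_theta O.toOC
  obtain ⟨γ, hγ⟩ := h.zh2_gam h1 h2
  suffices h0 : γ = 0 by
    obtain ⟨r, e, -⟩ := h.mv b hb
    refine act3 O.toOC h.big (h.nC hb) (zh2_cpat O.toOC fun j hj s => ?_)
    by_cases e4 : j = 4
    · have := (hγ b hb r e s).1
      rw [h0, zero_mul, zero_mul, map_zero, O.g_zero, mul_one] at this
      exact e4 ▸ mul_inv_eq_iff_eq_mul.1 this
    · exact h.cY b hb _ (O.g_mem (by revert j; decide) s)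
  obtain ⟨μ, μ0, μ1⟩ := h.big
  obtain ⟨b1, hb1, e1⟩ := h.surj 1
  obtain ⟨b2, hb2, e2⟩ := h.surj μ
  obtain ⟨p1, q1, ⟨m1, n1, r1⟩, s1⟩ := zh2_w h.toSit0 (h.zh2_c8 hb1) (fun s => zh2_m8 (hγ b1 hb1 1 e1 s).2)
    (h.zh2_mv8 e1) 1
  obtain ⟨p2, q2, ⟨m2, n2, r2⟩, s2⟩ := zh2_w h.toSit0 (h.zh2_c8 hb2) (fun s => zh2_m8 (hγ b2 hb2 μ e2 s).2)
    (h.zh2_mv8 e2) μ⁻¹
  replace s1 := fun a ha r e => s1 a _ (h.zh2_com8 ha hb1) (hγ a ha r e 1).2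
  replace s2 := fun a ha r e => s2 a _ (h.zh2_com8 ha hb2) (hγ a ha r e μ⁻¹).2
  generalize ⁅O.g 11 1, RF4.c8 O (c1 O b1)⁆ = w1 at p1 q1 r1 s1
  generalize ⁅O.g 11 μ⁻¹, RF4.c8 O (c1 O b2)⁆ = w2 at p2 q2 r2 s2
  obtain ⟨b3, hb3, e3⟩ := h.surj (n1 + n2)
  obtain ⟨b4, hb4, e4⟩ := h.surj (m1 + m2)
  have m5 : ∀ s, O.g 5 s ∈ O.E2 := O.g_mem (by decide)
  have m6 : ∀ s, O.g 6 s ∈ O.E2 := O.g_mem (by decide)
  have m8 : ∀ s, O.g 8 s ∈ O.E2 := O.g_mem (by decide)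
  have p3 : c1 O b3 ∈ zh2P O.toOC := zh2P_of O.toOC (k := 2) (fun j hj e => h.zh2_c1 hb3 j (by revert j; decide))
    (by decide) fun s => ⟨_, zh2_m1 (hγ b3 hb3 _ e3 s).2⟩
  have p4 : b4 ∈ zh2P O.toOC := zh2P_of O.toOC (k := 4)
    (fun j hj e s => h.cY b4 hb4 _ (O.g_mem (by revert j; decide) s)) (by decide) fun s => ⟨_, (hγ b4 hb4 _ e4 s).1⟩
  have k1 := zh1_mv_mul (h.zh1_cE2' hb3 (m5 _)) (h.zh1_mv' e3) e4
  have k2 := zh1_mv_mul (q2 _ (mul_mem (m8 _) (m5 _))) r2 k1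
  have k3 := zh1_mv_mul (q1 _ (mul_mem (mul_mem (m5 _) (mul_mem (m6 _) (m8 _))) (mul_mem (m8 _) (m5 _)))) r1 k2
  have k4 : O.g 5 m1 * (O.g 6 (1 * 1) * O.g 8 n1) * (O.g 5 m2 * (O.g 6 (μ * μ⁻¹) * O.g 8 n2) *
      (O.g 8 (n1 + n2) * O.g 5 (m1 + m2))) = 1 := by
    simp only [O.col, mul_assoc, mul_inv_cancel₀ μ0, mul_one, ← add_assoc]
    rw [add_assoc (m1 + m2), add_assoc (n1 + n2), O.add_self, O.add_self, O.g_zero, O.g_zero, mul_one]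
  rw [k4, mul_one] at k3
  obtain ⟨l, hl, o, ho, e⟩ := h.cen_E2 (mul_inv_eq_iff_eq_mul.1 k3)
    (fun x hx => (q1 x hx).mul_left ((q2 x hx).mul_left ((h.zh1_cE2' hb3 hx).mul_left (h.zh1_cE2 hb4 hx))))
    (mul_mem p1 (mul_mem p2 (mul_mem p3 p4))).2
  have k5 : ∀ a ∈ Zh, ∀ r, a * t * a⁻¹ = t * O.g 5 r → a * (w1 * (w2 * (c1 O b3 * b4))) * a⁻¹ =
      O.g 5 (θ (γ * 1 * θ (γ * r * 1)) + θ (γ * μ * θ (γ * r * μ⁻¹))) * (w1 * (w2 * (c1 O b3 * b4))) :=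
    fun a ha r e => by
    have : a * (w1 * (w2 * (c1 O b3 * b4))) * a⁻¹ = a * w1 * a⁻¹ * (a * w2 * a⁻¹ * (a * (c1 O b3 * b4) * a⁻¹)) := by
      group
    rw [this, s1 a ha r e, s2 a ha r e, ((h.com2 ha hb3).mul_right (h.comm a ha b4 hb4)).eq, mul_inv_cancel_right,
      mul_assoc _ w1, mul_assoc _ w2, ← mul_assoc w1, (q1 _ (m5 _)).eq, ← O.a5]
    simp only [mul_assoc]
  generalize w1 * (w2 * (c1 O b3 * b4)) = g at e k5
  obtain ⟨s, y, hy, hl'⟩ := (O.mem_cons (by decide)).1 (O.pat_mono (T := [4, 2, 3, 5, 6, 8]) (by decide) hl)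
  have k6 : ∀ a ∈ Zh, ∀ r, a * t * a⁻¹ = t * O.g 5 r → a * (l * o) * a⁻¹ = O.g 5 (θ (γ * r * s)) * (l * o) :=
    fun a ha r e => by
    have : a * (O.g 4 s * y * o) * a⁻¹ = a * O.g 4 s * a⁻¹ * (a * (y * o) * a⁻¹) := by group
    rw [hl', this, (hγ a ha r e s).1, ((h.cY a ha y (O.pat_mono (by decide) hy)).mul_right (h.co a ha o ho)).eq,
      mul_inv_cancel_right, (O.C_cent_Z (O.g_mem_C 4 s) (O.g_mem (by decide) _)).eq]
    group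
  obtain ⟨ε, k7⟩ : ∃ ε : K, ∀ r, θ (γ * 1 * θ (γ * r * 1)) + θ (γ * μ * θ (γ * r * μ⁻¹)) = θ (γ * r * s) + ε * r := by
    rcases e with rfl | rfl
    · refine ⟨0, fun r => ?_⟩
      obtain ⟨a, ha, e⟩ := h.surj r
      rw [zero_mul, add_zero]
      exact O.g_inj 5 (mul_right_cancel ((k5 a ha r e).symm.trans (k6 a ha r e)))
    · refine ⟨1, fun r => ?_⟩
      obtain ⟨a, ha, e⟩ := h.surj r
      have k8 := k5 a ha r e
      have : a * (t * l * o) * a⁻¹ = a * t * a⁻¹ * (a * (l * o) * a⁻¹) := by group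
      rw [this, e, k6 a ha r e, mul_assoc t, ← mul_assoc (O.g 5 r), O.a5, ← mul_assoc t, (h.tg 5 _).eq, mul_assoc,
        mul_assoc t l o] at k8
      rw [one_mul, add_comm _ r]
      exact (O.g_inj 5 (mul_right_cancel k8)).symm
  have k9 := (ded O.toOC h.big (a := σ γ * γ * (1 + σ μ * μ⁻¹)) (b := σ (γ * s)) (c := σ (σ ε)) fun r => by
    have := congrArg (fun x => σ (σ x)) (k7 r)
    simp only [map_add, map_mul σ, h2, map_one, O.ss r] at this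
    have two := O.two
    rw [map_mul]
    linear_combination this + (σ γ * σ s * σ r + σ (σ ε) * r ^ 2) * two).1
  have k10 : 1 + σ μ * μ⁻¹ ≠ 0 := fun e => by
    have : σ μ = μ := by
      have := O.add_eq_zero.1 e
      field_simp at this
      exact this.symm
    rcases O.fix_sig this with e | e
    exacts [μ0 e, μ1 e]
  rcases mul_eq_zero.1 ((mul_eq_zero.1 k9).resolve_right k10) with e | e
  · exact (map_eq_zero σ).1 e
  · exact e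

end ZS

end CfsgLib.RF4
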