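import Mathlib
import Cfsg.Agent.Lib.RF4.Zh2
import Cfsg.Agent.Lib.RF4.Zb

set_option autoImplicit false
set_option Elab.async false

namespace CfsgLib.RF4

open Subgroup CfsgLib.F42 ZBx
open scoped commutatorElement

/-! # Parametrisation of the hats of `Z` (package ZH3) -/

variable {K : Type*} [Field K] [Finite K] {G : Type*} [Group G] [Finite G] {σ : K →+* K} {sz : Sz K} {O : OP σ sz G} {t : G}

omit [Finite K] [Finite G] in
theorem z3_mul (O : OP σ sz G) (a b : G) : c1 O (a * b) = c1 O a * c1 O b := by simp [c1]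

omit [Finite K] [Finite G] in
theorem z3_g5 (O : OP σ sz G) (s : K) : c1 O (O.g 5 s) = O.g 8 s := O.n1_g 5 (by decide) s

theorem z3_comm_t {G : Type*} [Group G] {a b t : G} (h : a * t * a⁻¹ = b * t * b⁻¹) : Commute (a⁻¹ * b) t := by
  calc a⁻¹ * b * t = a⁻¹ * (b * t * b⁻¹) * b := by group
    _ = _ := by rw [← h]; group

namespace ZS

variable {Zh : Subgroup G} {c : K} (h : ZS O t Zh c)
include h

theorem z3_R {b : G} (hb : b ∈ Zh) {x : G} (hx : x ∈ O.R) : Commute (c1 O b) x :=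
  comm_conj O.n1_sq (h.cent_C hb _ (O.pat_le_C _ ((O.n1_conj (by decide)).1 hx)))

theorem z3_mv {b : G} {r : K} (e : b * t * b⁻¹ = t * O.g 5 r) : c1 O b * t * (c1 O b)⁻¹ = t * O.g 8 r := by
  have k := h.tC _ O.n1_mem_G0
  calc _ = O.n1 * (b * (O.n1⁻¹ * t * O.n1) * b⁻¹) * O.n1⁻¹ := by unfold c1; group
    _ = _ := by rw [← k.inv_right.eq, inv_mul_cancel_right, e, ← z3_g5, ← mul_assoc, ← k.eq]; unfold c1; group

theorem z3_mv2 {a b : G} {r s : K} (ha : a ∈ Zh) (e : a * t * a⁻¹ = t * O.g 5 r) (e' : b * t * b⁻¹ = t * O.g 5 s) :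
    a * c1 O b * t * (a * c1 O b)⁻¹ = t * (O.g 5 r * O.g 8 s) := by
  calc _ = a * (c1 O b * t * (c1 O b)⁻¹) * a⁻¹ := by group
    _ = a * t * a⁻¹ * (a * O.g 8 s * a⁻¹) := by rw [h.z3_mv e']; group
    _ = _ := by rw [e, (h.cent_C ha _ (O.g_mem_C 8 s)).eq]; group

/-- the group generated by the hats of `x4` and `x6` -/
def E58 : Subgroup G where
  carrier := {g | ∃ a ∈ Zh, ∃ b ∈ Zh, g = a * c1 O b}
  one_mem' := ⟨1, one_mem _, 1, one_mem _, by simp [c1]⟩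
  mul_mem' := by
    rintro _ _ ⟨a, ha, b, hb, rfl⟩ ⟨a', ha', b', hb', rfl⟩
    exact ⟨_, mul_mem ha ha', _, mul_mem hb hb', by
      rw [z3_mul, mul_assoc, ← mul_assoc (c1 O b), ← (h.com2 ha' hb).eq]; group⟩
  inv_mem' := by
    rintro _ ⟨a, ha, b, hb, rfl⟩
    exact ⟨_, inv_mem ha, _, inv_mem hb, by rw [(h.com2 ha hb).eq]; simp [c1, mul_assoc]⟩

theorem z3_A (u : K) {b : G} (hb : b ∈ Zh) {r : K} (e : b * t * b⁻¹ = t * O.g 5 r) :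
    ∃ a ∈ Zh, a * t * a⁻¹ = t * O.g 5 (u * r) ∧ ∃ d, ⁅O.g 0 u, c1 O b⁆ = a * O.g 8 d := by
  obtain ⟨z, hz, ez⟩ := h.surj 1
  have tu := h.tg 0 u
  have e1 : O.g 0 u * c1 O b * (O.g 0 u)⁻¹ * t * (O.g 0 u * c1 O b * (O.g 0 u)⁻¹)⁻¹ = t * (O.g 5 (u * r) * O.g 8 r) := by
    calc _ = O.g 0 u * (c1 O b * ((O.g 0 u)⁻¹ * t * O.g 0 u) * (c1 O b)⁻¹) * (O.g 0 u)⁻¹ := by group
      _ = t * (O.g 0 u * O.g 8 r * (O.g 0 u)⁻¹) := by
        rw [← tu.inv_right.eq, inv_mul_cancel_right, h.z3_mv e, ← mul_assoc, ← tu.eq]; group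
      _ = _ := by simp only [O.col]
  have zu := (h.cent_C hz _ (O.g_mem_C 0 u)).symm
  obtain ⟨a, ha, b', hb', k⟩ : O.g 0 u * c1 O b * (O.g 0 u)⁻¹ ∈ h.E58 := by
    refine h.toSit.loc h.cen_R ?_ (O.pat_le.2 fun j hj s => ?_) ?_ ?_ (fun l hl => ?_) (z := z) (fun k => ?_) (h.co z hz)
      ?_ (fun x hx => ?_) ((zu.mul_left (h.com2 hz hb).symm).mul_left zu.inv_left)
      ⟨_, O.mem_V.2 ⟨_, _, rfl⟩, e1⟩ (.inl (((h.t2' hb).conj _).conj _))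
    · rintro _ ⟨a, ha, b, hb, rfl⟩
      exact (h.t2' ha).mul ((h.t2' hb).conj _) (h.com2 ha hb)
    · fin_cases hj
      · exact ⟨_, h.zle (O.g_mem (j := 5) (by decide) s), 1, one_mem _, by simp [c1]⟩
      · exact ⟨1, one_mem _, _, h.zle (O.g_mem (j := 5) (by decide) s), by rw [z3_g5, one_mul]⟩
    · rintro _ ⟨a, ha, b, hb, rfl⟩ x hx
      exact (h.cent_C ha x (O.pat_le_C _ hx)).mul_left (h.z3_R hb hx)
    · rintro _ ⟨a, ha, b, hb, rfl⟩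
      exact (h.co a ha).mul ((CO.of_mem O.n1_mem_G0).conj (h.co b hb))
    · obtain ⟨r, s, rfl⟩ := O.mem_V.1 hl
      obtain ⟨a, ha, e⟩ := h.surj r
      obtain ⟨b, hb, e'⟩ := h.surj s
      exact ⟨_, ⟨a, ha, b, hb, rfl⟩, h.z3_mv2 ha e e'⟩
    · rw [k.eq, mul_inv_cancel_right, left_eq_mul] at ez
      exact O.τ_ne ez
    · rintro _ ⟨a, ha, b, hb, rfl⟩
      exact (h.comm z hz a ha).mul_right (h.com2 hz hb)
    · simpa [mul_assoc] using (h.z3_R hb (O.conj_mem (A := [0]) (by decide)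
        (inv_mem (O.g_mem (j := 0) (by decide) u)) hx)).conj (O.g 0 u)
  obtain ⟨s, e2, -⟩ := h.mv a ha
  obtain ⟨s', e3, -⟩ := h.mv b' hb'
  rw [k, h.z3_mv2 ha e2 e3, mul_right_inj] at e1
  obtain ⟨rfl, -, rfl⟩ := E2_inj O.toOC (b := 0) (b' := 0) (by simpa only [O.g_zero, one_mul] using e1)
  obtain ⟨d, hd⟩ := O.mem_Z.1 (h.ker _ (mul_mem (inv_mem hb) hb') (z3_comm_t (e.trans e3.symm)))
  refine ⟨a, ha, e2, d, ?_⟩
  rw [commutatorElement_def, k, ← z3_g5, ← hd, (h.comm _ (inv_mem hb) _ hb').eq]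
  simp [c1, mul_assoc]

theorem z3_B {u : K} (hu : u ≠ 0) {b : G} (hb : b ∈ Zh) {r : K} (e : b * t * b⁻¹ = t * O.g 5 r) :
    ∃ a ∈ Zh, a * t * a⁻¹ = t * O.g 5 (u * r) ∧ ⁅O.g 0 u, c1 O b⁆ = a * O.g 8 (c * r) := by
  obtain ⟨a, ha, e1, d, e2⟩ := h.z3_A u hb e
  refine ⟨a, ha, e1, ?_⟩
  obtain ⟨s, e3, e4⟩ := h.mv a ha
  obtain rfl := O.g_inj 5 (mul_left_cancel (e1.symm.trans e3))
  have k : O.g 0 u * ⁅O.g 0 u, c1 O b⁆ * (O.g 0 u)⁻¹ * ⁅O.g 0 u, c1 O b⁆ = 1 := by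
    calc _ = O.g 0 u * O.g 0 u * (c1 O b * (O.g 0 u)⁻¹ * ((c1 O b)⁻¹ * c1 O b) * (O.g 0 u)⁻¹ * (c1 O b)⁻¹) := by
          simp only [commutatorElement_def]; group
      _ = _ := by
        rw [inv_mul_cancel, mul_one, mul_assoc (c1 O b), ← mul_inv_rev, O.a0, O.add_self, O.g_zero]; simp
  rw [e2, ← mul_assoc (O.g 0 u), ← (h.cent_C ha _ (O.g_mem_C 0 u)).eq, mul_assoc a, mul_assoc a, mul_assoc a, ← mul_assoc _ a,
    ← (h.cent_C ha _ (mul_mem (mul_mem (O.g_mem_C 0 u) (O.g_mem_C 8 d)) (inv_mem (O.g_mem_C 0 u)))).eq, ← mul_assoc,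
    ← mul_assoc, e4] at k
  simp only [O.col] at k
  rw [e2, mul_left_cancel₀ hu (show u * d = u * (c * r) by rw [← O.add_eq_zero.1 (O.g_eq_one.1 k)]; ring)]

theorem z3_c : c = 0 := by
  obtain ⟨l, l0, l1⟩ := h.big
  obtain ⟨b, hb, e⟩ := h.surj 1
  obtain ⟨a, ha, -, e1⟩ := h.z3_B one_ne_zero hb e
  obtain ⟨a', ha', -, e2⟩ := h.z3_B l0 hb e
  obtain ⟨a'', ha'', -, e3⟩ := h.z3_B (mt O.add_eq_zero.1 l1) hb e
  have k : ⁅O.g 0 (l + 1), c1 O b⁆ = O.g 0 l * ⁅O.g 0 1, c1 O b⁆ * (O.g 0 l)⁻¹ * ⁅O.g 0 l, c1 O b⁆ := by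
    rw [← O.a0]; simp only [commutatorElement_def]; group
  rw [e1, e2, e3, ← mul_assoc (O.g 0 l), ← (h.cent_C ha _ (O.g_mem_C 0 l)).eq, mul_assoc a, mul_assoc a, mul_assoc a,
    ← mul_assoc _ a', ← (h.cent_C ha' _ (mul_mem (mul_mem (O.g_mem_C 0 l) (O.g_mem_C 8 _))
      (inv_mem (O.g_mem_C 0 l)))).eq] at k
  simp only [O.col] at k
  have m : O.g 8 c ∈ Zh := by
    rw [eq_inv_mul_iff_mul_eq.2 k]
    exact mul_mem (inv_mem ha'') (mul_mem ha (mul_mem ha' (h.zle (O.g_mem (by decide) _))))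
  have := (h.cent_C m _ (O.g_mem_C 0 1)).eq
  simp only [O.col, mul_right_inj, mul_eq_right] at this
  exact O.g_eq_one.1 this

theorem z3_C (u : K) {b : G} (hb : b ∈ Zh) {r : K} (e : b * t * b⁻¹ = t * O.g 5 r) :
    ⁅O.g 0 u, c1 O b⁆ ∈ Zh ∧ ⁅O.g 0 u, c1 O b⁆ * t * ⁅O.g 0 u, c1 O b⁆⁻¹ = t * O.g 5 (u * r) := by
  rcases eq_or_ne u 0 with rfl | hu
  · simp [O.g_zero, one_mem]
  obtain ⟨a, ha, e1, e2⟩ := h.z3_B hu hb e
  rw [e2, h.z3_c, zero_mul, O.g_zero, mul_one]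
  exact ⟨ha, e1⟩

end ZS

theorem ZS.x0 {Zh : Subgroup G} {c : K} (h : ZS O t Zh c) :
    c = 0 ∧ ∀ u, ∀ b ∈ Zh, ⁅O.g 0 u, c1 O b⁆ ∈ Zh :=
  ⟨h.z3_c, fun u _ hb => (h.mv _ hb).elim fun _ e => (h.z3_C u hb e.1).1⟩

theorem ZS.exists_p1 {Zh : Subgroup G} {c : K} (h : ZS O t Zh c) : ∃ zh, P1 O t zh := by
  obtain ⟨b, hb, e⟩ := h.surj 1
  obtain ⟨zh, hz⟩ : ∃ zh : K × K → G, ∀ p, zh p = ⁅O.g 0 p.1, c1 O b⁆ * O.g 5 p.2 := ⟨_, fun _ => rfl⟩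
  have m5 := fun s => h.zle (O.g_mem (j := 5) (by decide) s)
  have m : ∀ p, zh p ∈ Zh := fun p => hz p ▸ mul_mem (h.x0.2 _ b hb) (m5 _)
  have add : ∀ p p', zh (p + p') = zh p * zh p' := fun p p' => by
    have k : ⁅O.g 0 (p'.1 + p.1), c1 O b⁆ =
        O.g 0 p'.1 * ⁅O.g 0 p.1, c1 O b⁆ * (O.g 0 p'.1)⁻¹ * ⁅O.g 0 p'.1, c1 O b⁆ := by
      rw [← O.a0]; simp only [commutatorElement_def]; group
    rw [← (h.cent_C (h.x0.2 _ b hb) _ (O.g_mem_C 0 _)).eq, mul_inv_cancel_right, add_comm] at k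
    rw [hz, hz, hz, Prod.fst_add, Prod.snd_add, k, ← O.a5, mul_assoc, mul_assoc, ← mul_assoc (O.g 5 _),
      (h.comm _ (m5 p.2) _ (h.x0.2 _ b hb)).eq, mul_assoc]
  have base : ∀ s, zh (0, s) = O.g 5 s := fun s => by simp [hz, O.g_zero]
  have mv : ∀ p, zh p * t * (zh p)⁻¹ = t * O.g 5 p.1 := fun p => by
    rw [hz, mul_assoc _ _ t, ← (h.tg 5 _).eq, ← mul_one p.1, ← (h.z3_C p.1 hb e).2, mul_one]
    group
  have onto : ∀ a ∈ Zh, ∀ r, a * t * a⁻¹ = t * O.g 5 r → ∃ s, a = zh (r, s) := fun a ha r k => by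
    obtain ⟨s, hs⟩ := O.mem_Z.1 (h.ker _ (mul_mem (inv_mem (m (r, 0))) ha) (z3_comm_t ((mv _).trans k.symm)))
    exact ⟨s, by rw [eq_mul_of_inv_mul_eq hs, ← base, ← add]; simp⟩
  have inj : ∀ r s s', zh (r, s) = zh (r, s') → s = s' := fun r s s' k => by
    rw [hz, hz, mul_right_inj] at k
    exact O.g_inj 5 k
  have hh : ∀ α β p, O.h (α, β) * zh p * (O.h (α, β))⁻¹ = zh (chi σ 5 α β • p) := fun α β p => by
    obtain ⟨l, l', e1, e2⟩ := h_split O α β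
    obtain ⟨e3, e4, -⟩ := chi_H6 O.toOC l'
    have k : Commute (O.h ((l' * su σ l')⁻¹, l')) (c1 O b) := n1_h8 O l' ▸ conj_comm (h.c8 b hb l').symm
    have k' : O.h ((l' * su σ l')⁻¹, l') * zh p * (O.h ((l' * su σ l')⁻¹, l'))⁻¹ = zh ((l' * σ l' : K)⁻¹ • p) := by
      rw [hz p, ← conj_mul, conjugate_commutatorElement, O.h_g, O.h_g, k.eq, mul_inv_cancel_right, e3, e4, hz]
      rfl
    rw [e1, e2, ← conj_of_commute (h.c8 _ (m (_ • p)) l).symm, ← k']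
    group
  have h8 : ∀ α β p, O.h (α, β) * c1 O (zh p) * (O.h (α, β))⁻¹ = c1 O (zh (chi σ 8 α β • p)) := fun α β p => by
    rw [show chi σ 8 α β = _ from (chi_p1 O (j := 5) (by decide) α β).symm, ← hh, ← O.n1_h, O.n1_inv]
    calc _ = (O.n1 * O.n1) * O.h (α, β) * O.n1 * zh p * O.n1⁻¹ * (O.h (α, β))⁻¹ := by rw [O.n1_sq]; unfold c1; group
      _ = _ := by
        unfold c1
        rw [← mul_one (_ * (O.h _)⁻¹), ← O.n1_sq]
        simp only [mul_inv_rev, O.n1_inv, mul_assoc]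
  choose φ hφ using fun u a => onto _ (h.z3_C u (m (a, 0)) (mv _)).1 _ (h.z3_C u (m (a, 0)) (mv _)).2
  have hf : ∀ u a, φ u a = φ 1 1 * (u * a) := fun u a => by
    rcases eq_or_ne u 0 with rfl | hu
    · exact inj (0 * a) _ _ ((hφ 0 a).symm.trans (by simp [base, O.g_zero]))
    rcases eq_or_ne a 0 with rfl | ha
    · exact inj (u * 0) _ _ ((hφ u 0).symm.trans (by simp [base, O.g_zero, c1]))
    obtain ⟨α, β, rfl, rfl⟩ := chi_pair O.toOC (j := 0) (k := 8) (by decide) hu ha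
    have k := hh α β (1 * 1, φ 1 1)
    rw [← hφ, conjugate_commutatorElement, O.h_g, h8, (chi_rel O.toOC α β).1] at k
    simp only [mul_one, Prod.smul_mk, smul_eq_mul, mul_zero] at k
    rw [hφ] at k
    rw [inj _ _ _ k, mul_comm]
  have x0 : ∀ u p, O.g 0 u * c1 O (zh p) * (O.g 0 u)⁻¹ = c1 O (zh p) * zh (u * p.1, φ 1 1 * (u * p.1) + u * p.2) := by
    rintro u ⟨a, s⟩
    have k := hφ u a
    rw [commutatorElement_def, mul_inv_eq_iff_eq_mul, hf, (h.com2 (m _) (m _)).eq] at k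
    rw [show (a, s) = (a, 0) + (0, s) by simp, add, base, z3_mul, z3_g5, ← conj_mul, k,
      show O.g 0 u * O.g 8 s * (O.g 0 u)⁻¹ = O.g 5 (u * s) * O.g 8 s by simp only [O.col], ← base, mul_assoc,
      ← mul_assoc (zh _), ← add, (h.cent_C (m _) _ (O.g_mem_C 8 s)).eq]
    simp [mul_assoc]
  have f0 : φ 1 1 = 0 := by
    have i1 : ∀ p, O.g 0 1 * O.n1 * c1 O (zh p) * (O.g 0 1 * O.n1)⁻¹ = zh p := fun p => by
      calc _ = O.g 0 1 * ((O.n1 * O.n1) * zh p * (O.n1 * O.n1)⁻¹) * (O.g 0 1)⁻¹ := by unfold c1; group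
        _ = _ := by rw [O.n1_sq, one_mul, inv_one, mul_one, ← (h.cent_C (m p) _ (O.g_mem_C 0 1)).eq]; group
    have i2 : ∀ p, O.g 0 1 * O.n1 * zh p * (O.g 0 1 * O.n1)⁻¹ = c1 O (zh p) * zh (p.1, φ 1 1 * p.1 + p.2) := fun p => by
      simpa [c1, mul_assoc] using x0 1 p
    have k : zh (1, 0) = O.g 0 1 * O.n1 * (O.g 0 1 * O.n1 * (O.g 0 1 * O.n1 * zh (1, 0) * (O.g 0 1 * O.n1)⁻¹) *
        (O.g 0 1 * O.n1)⁻¹) * (O.g 0 1 * O.n1)⁻¹ := by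
      calc _ = (O.g 0 1 * O.n1) ^ 3 * zh (1, 0) * ((O.g 0 1 * O.n1) ^ 3)⁻¹ := by simp [O.tri]
        _ = _ := by simp only [pow_succ, pow_zero, one_mul, mul_inv_rev, mul_assoc]
    rw [i2, ← conj_mul (a := c1 O _), i1, i2, ← mul_assoc (zh _), (h.com2 (m _) (m _)).eq, mul_assoc (c1 O _), ← add] at k
    simp only [mul_one, add_zero, O.add_self, Prod.mk_add_mk, base, O.g_zero, i1] at k
    exact (inj _ _ _ k).symm
  exact ⟨zh, { h with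
    add := add
    base := base
    mv := mv
    cC := fun p => h.cent_C (m p)
    co := fun p => h.co _ (m p)
    hz := hh
    z58 := fun p p' => h.com2 (m p) (m p')
    x0 := fun u p => by rw [x0, f0, zero_mul, zero_add]; rfl }⟩

end CfsgLib.RF4
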