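import Mathlib
import Cfsg.Agent.Lib.RF4.Fus
import Cfsg.Agent.Lib.RF4.Zh3
import Cfsg.Agent.Lib.RF4.Yh1
import Cfsg.Agent.Lib.RF4.Yh3
import Cfsg.Agent.Lib.RF4.Hb
import Cfsg.Agent.Lib.RF4.Hc3
import Cfsg.Agent.Lib.RF4.Oct
import Cfsg.Agent.Lib.RF4.Prd
import Cfsg.Agent.Lib.RF4.Ff
import Cfsg.Agent.Lib.RF4.Fin

set_option autoImplicit false
set_option Elab.async false

namespace CfsgLib.RF4

open Subgroup CfsgLib.F42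
open scoped commutatorElement

/-! # The main theorem -/

open Cfsg.Lie

variable {K : Type*} [Field K] [Fintype K] {G : Type*} [Group G] [Finite G] {σ : K →+* K} {sz : Sz K}
  {O : OP σ sz G} {t : G}

theorem Sit0.main (h : Sit0 O t) (hm : Mult O.G0) (hs : ∃ g, g * t * g⁻¹ ≠ t ∧ Commute (g * t * g⁻¹) t) :
    ∃ G1 : Subgroup G, G1 ≤ Cfsg.oddGenerated ⊤ ∧ Odd (G1.relIndex (Cfsg.oddGenerated ⊤)) ∧
      (Nonempty (G1 ≃* chevF4.group K) ∨ Nonempty (G1 ≃* O.G0 × O.G0)) := by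
  have h1 := h.sit hs
  obtain ⟨Zh, c, h2⟩ := h1.exists_zs
  obtain ⟨zh, h3⟩ := h2.exists_p1
  obtain ⟨Yh, c', h4⟩ := h3.exists_ys
  obtain ⟨yh, h5⟩ := h4.yt.exists_p2
  obtain ⟨hh, h6⟩ := h5.exists_hh
  obtain ⟨δ, h7⟩ := h6.exists_hl
  obtain ⟨c'', m, h8⟩ := h7.exists_hr1
  obtain ⟨Z, Y, h9⟩ := h8.hr.exists_od
  obtain ⟨γ, hγ | hγ⟩ := exists_gam O.toOC δ
  · obtain ⟨L1, e, hc, he⟩ := h9.exists_factor hm hγ
    obtain ⟨G1, Uh, d, e⟩ := h1.prod_end e hc he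
    exact ⟨G1, (h1.fin d).1, (h1.fin d).2, .inr e⟩
  · obtain ⟨G1, Uh, d, e⟩ := h9.f4_end hγ
    exact ⟨G1, (h1.fin d).1, (h1.fin d).2, .inl e⟩

end CfsgLib.RF4
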